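import Mathlib

/-!
Rank one pushing up: the graph of vertices (conjugates of the group `G`) and edges (the shared Sylow
subgroups), and the first consequences of the axioms.
-/

set_option autoImplicit false

namespace CfsgLib.PushUp.RankOne

open scoped commutatorElement

variable {X : Type*} [Group X]

/-- The conjugate subgroup `g H g⁻¹`. -/
def cj (g : X) (H : Subgroup X) : Subgroup X := H.map (MulAut.conj g).toMonoidHom

theorem mem_cj {g : X} {H : Subgroup X} {z : X} : z ∈ cj g H ↔ g⁻¹ * z * g ∈ H := by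
  constructor
  · rintro ⟨y, hy, rfl⟩; simpa [mul_assoc] using hy
  · exact fun h => ⟨_, h, by simp [mul_assoc]⟩

theorem conj_mem_cj {g : X} {H : Subgroup X} {z : X} (h : z ∈ H) : g * z * g⁻¹ ∈ cj g H :=
  ⟨z, h, by simp⟩

theorem cj_one (H : Subgroup X) : cj 1 H = H := by
  ext z; simp [mem_cj]

theorem cj_mul (g h : X) (H : Subgroup X) : cj (g * h) H = cj g (cj h H) := by
  ext z; simp [mem_cj, mul_assoc]

theorem cj_inv_cj (g : X) (H : Subgroup X) : cj g⁻¹ (cj g H) = H := by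
  rw [← cj_mul, inv_mul_cancel, cj_one]

theorem cj_cj_inv (g : X) (H : Subgroup X) : cj g (cj g⁻¹ H) = H := by
  rw [← cj_mul, mul_inv_cancel, cj_one]

theorem cj_mono (g : X) {H K : Subgroup X} (h : H ≤ K) : cj g H ≤ cj g K := Subgroup.map_mono h

theorem card_cj (g : X) (H : Subgroup X) : Nat.card (cj g H) = Nat.card H :=
  Subgroup.card_map_of_injective (MulAut.conj g).injective

theorem cj_eq_self_of_mem {g : X} {H : Subgroup X} (h : g ∈ H) : cj g H = H := by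
  ext z
  rw [mem_cj]
  refine ⟨fun hz => ?_, fun hz => H.mul_mem (H.mul_mem (H.inv_mem h) hz) h⟩
  have := H.mul_mem (H.mul_mem h hz) (H.inv_mem h)
  simpa [mul_assoc] using this

theorem cj_eq_self {g : X} {H : Subgroup X} [Finite X] (h : ∀ a ∈ H, g * a * g⁻¹ ∈ H) :
    cj g H = H := by
  refine Subgroup.eq_of_le_of_card_ge ?_ (card_cj g H).ge
  rintro _ ⟨a, ha, rfl⟩
  simpa using h a ha

/-- The axioms. -/
structure Sys (p q : ℕ) (X : Type*) [Group X] (Γ : Type*) [MulAction X Γ] where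
  Gv : Γ → Subgroup X
  Q : Γ → Subgroup X
  V : Γ → Subgroup X
  I : Γ → Subgroup X → Prop
  base : Γ
  one_lt_q : 1 < q
  smul_I : ∀ (g : X) {x : Γ} {P : Subgroup X}, I x P → I (g • x) (cj g P)
  smul_Gv : ∀ (g : X) (x : Γ), Gv (g • x) = cj g (Gv x)
  smul_Q : ∀ (g : X) (x : Γ), Q (g • x) = cj g (Q x)
  smul_V : ∀ (g : X) (x : Γ), V (g • x) = cj g (V x)
  fixes : ∀ {g : X} {x : Γ}, g ∈ Gv x → g • x = x
  exists_I : ∀ x, ∃ P, I x P
  conj_I : ∀ {x P P'}, I x P → I x P' → ∃ g ∈ Gv x, P' = cj g P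
  le_G : ∀ {x P}, I x P → P ≤ Gv x
  Q_le : ∀ {x P}, I x P → Q x ≤ P
  V_le : ∀ x, V x ≤ Q x
  normQ : ∀ {x}, ∀ g ∈ Gv x, ∀ a ∈ Q x, g * a * g⁻¹ ∈ Q x
  normV : ∀ {x}, ∀ g ∈ Gv x, ∀ a ∈ V x, g * a * g⁻¹ ∈ V x
  comm : ∀ {x}, ∀ a ∈ Q x, ∀ v ∈ V x, a * v = v * a
  powV : ∀ {x}, ∀ v ∈ V x, v ^ p = 1
  pgroup : ∀ {x P}, I x P → IsPGroup p P
  exists_ge : ∀ {x} (H : Subgroup X), H ≤ Gv x → IsPGroup p H → ∃ P, I x P ∧ H ≤ P
  card : ∀ {x P}, I x P → Nat.card P = q * Nat.card (Q x)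
  cent : ∀ {x P}, I x P → ∀ g ∈ P, (∀ v ∈ V x, g * v = v * g) → g ∈ Q x
  center_le : ∀ {x P}, I x P → ∀ z ∈ P, (∀ g ∈ P, g * z = z * g) → z ^ p = 1 → z ∈ V x
  max : ∀ {x P}, I x P → ∃ M : Subgroup X, P ≤ M ∧ M < Gv x ∧
    (∀ H : Subgroup X, P ≤ H → H ≤ Gv x → H ≠ Gv x → H ≤ M) ∧
    (∀ g ∈ Gv x, ∀ z ∈ P, z ∉ Q x → g * z * g⁻¹ ∈ P → g ∈ M) ∧
    (∀ g ∈ Gv x, (∀ v ∈ V x, g * v = v * g) → g ∈ M)
  core : ∀ {x P}, I x P → ∀ T : Subgroup X, T ≤ P → (∀ g ∈ Gv x, ∀ t ∈ T, g * t * g⁻¹ ∈ T) →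
    (∀ g, cj g P = P → ∀ t ∈ T, g * t * g⁻¹ ∈ T) → T = ⊥

namespace Sys

variable {p q : ℕ} {Γ : Type*} [MulAction X Γ] (D : Sys p q X Γ) {x y z : Γ} {P : Subgroup X}

/-- The maximal subgroup over an edge. -/
noncomputable def M (x : Γ) (P : Subgroup X) : Subgroup X := by
  classical exact if h : D.I x P then (D.max h).choose else ⊥

theorem M_spec (h : D.I x P) : P ≤ D.M x P ∧ D.M x P < D.Gv x ∧
    (∀ H : Subgroup X, P ≤ H → H ≤ D.Gv x → H ≠ D.Gv x → H ≤ D.M x P) ∧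
    (∀ g ∈ D.Gv x, ∀ z ∈ P, z ∉ D.Q x → g * z * g⁻¹ ∈ P → g ∈ D.M x P) ∧
    (∀ g ∈ D.Gv x, (∀ v ∈ D.V x, g * v = v * g) → g ∈ D.M x P) := by
  rw [M, dif_pos h]; exact (D.max h).choose_spec

theorem M_le (h : D.I x P) : D.M x P ≤ D.Gv x := (D.M_spec h).2.1.le

theorem exists_not_mem (h : D.I x P) : ∃ g ∈ D.Gv x, g ∉ D.M x P :=
  SetLike.not_le_iff_exists.1 fun hle => (D.M_spec h).2.1.not_ge hle

theorem Q_le_G (x : Γ) : D.Q x ≤ D.Gv x := by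
  obtain ⟨P, hP⟩ := D.exists_I x; exact (D.Q_le hP).trans (D.le_G hP)

theorem V_le_G (x : Γ) : D.V x ≤ D.Gv x := (D.V_le x).trans (D.Q_le_G x)

theorem commV {a b : X} (ha : a ∈ D.V x) (hb : b ∈ D.V x) : a * b = b * a :=
  D.comm a (D.V_le x ha) b hb

variable [Finite X]

theorem cjQ {g : X} (hg : g ∈ D.Gv x) : cj g (D.Q x) = D.Q x := cj_eq_self (D.normQ g hg)

omit [Finite X] in
theorem I_conj {g : X} (hg : g ∈ D.Gv x) (h : D.I x P) : D.I x (cj g P) := by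
  have := D.smul_I g h; rwa [D.fixes hg] at this

theorem Q_ne (h : D.I x P) : ∃ g ∈ P, g ∉ D.Q x := by
  by_contra hc
  push Not at hc
  have h1 := Subgroup.card_le_of_le (fun g hg => hc g hg : P ≤ D.Q x)
  rw [D.card h] at h1
  have := Nat.card_pos (α := D.Q x)
  nlinarith [D.one_lt_q]

theorem V_ne_bot (x : Γ) : D.V x ≠ ⊥ := fun e => by
  obtain ⟨P, hP⟩ := D.exists_I x
  obtain ⟨g, hg, hgQ⟩ := D.Q_ne hP
  refine hgQ (D.cent hP g hg fun v hv => ?_)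
  rw [e, Subgroup.mem_bot] at hv; simp [hv]

variable [hp : Fact p.Prime]

/-- A `p`-subgroup of `M` is conjugate in `M` into `P`. -/
theorem conj_into (h : D.I x P) {H : Subgroup X} (hH : H ≤ D.M x P) (hHp : IsPGroup p H) :
    ∃ m ∈ D.M x P, ∀ z ∈ H, m * z * m⁻¹ ∈ P := by
  set M := D.M x P
  have hPM : P ≤ M := (D.M_spec h).1
  let S : Sylow p M :=
    { toSubgroup := P.subgroupOf M
      isPGroup' := (D.pgroup h).of_equiv (Subgroup.subgroupOfEquivOfLe hPM).symm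
      is_maximal' := fun {K} hK hle => by
        obtain ⟨P', hP', hKP'⟩ := D.exists_ge (K.map M.subtype)
          ((Subgroup.map_subtype_le K).trans (D.M_le h)) (hK.map _)
        have h1 : P ≤ K.map M.subtype := fun z hz => ⟨⟨z, hPM hz⟩, hle hz, rfl⟩
        have h2 : P = P' := Subgroup.eq_of_le_of_card_ge (h1.trans hKP')
          (by rw [D.card h, D.card hP'])
        refine le_antisymm (fun k hk => ?_) hle
        show (k : X) ∈ P
        rw [h2]; exact hKP' ⟨k, hk, rfl⟩ }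
  obtain ⟨S', hS'⟩ := (hHp.of_equiv (Subgroup.subgroupOfEquivOfLe hH).symm).exists_le_sylow
  obtain ⟨m, hm⟩ := MulAction.exists_smul_eq M S' S
  refine ⟨m, m.2, fun z hz => ?_⟩
  have h1 : m * (⟨z, hH hz⟩ : M) * m⁻¹ ∈ ((m • S' : Sylow p M) : Subgroup M) := by
    rw [Sylow.coe_subgroup_smul]
    exact ⟨_, hS' (Subgroup.mem_subgroupOf.2 hz : (⟨z, hH hz⟩ : M) ∈ H.subgroupOf M), by simp⟩
  rw [hm] at h1
  exact h1

theorem mem_M_of_conj (h : D.I x P) {g z : X} (hg : g ∈ D.Gv x) (hz : z ∈ P) (hzQ : z ∉ D.Q x)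
    (hgz : g * z * g⁻¹ ∈ D.M x P) : g ∈ D.M x P := by
  obtain ⟨-, -, -, hti, -⟩ := D.M_spec h
  have hzp : IsPGroup p (Subgroup.zpowers (g * z * g⁻¹)) :=
    ((D.pgroup h).map (MulAut.conj g).toMonoidHom).to_le (Subgroup.zpowers_le.2 (conj_mem_cj hz))
  obtain ⟨m, hm, hmH⟩ := D.conj_into h (Subgroup.zpowers_le.2 hgz) hzp
  have := hti (m * g) ((D.Gv x).mul_mem (D.M_le h hm) hg) z hz hzQ (by
    simpa [mul_assoc] using hmH _ (Subgroup.mem_zpowers _))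
  simpa using (D.M x P).mul_mem ((D.M x P).inv_mem hm) this

/-- A subgroup over `P` with a conjugate outside `M` of an element of `P ∖ Q` is everything. -/
theorem eq_G_of_conj (h : D.I x P) {H : Subgroup X} (hH : H ≤ D.Gv x) (hPH : P ≤ H) {g z : X}
    (hg : g ∈ D.Gv x) (hgM : g ∉ D.M x P) (hz : z ∈ P) (hzQ : z ∉ D.Q x)
    (hgz : g * z * g⁻¹ ∈ H) : H = D.Gv x := by
  by_contra hne
  exact hgM (D.mem_M_of_conj h hg hz hzQ ((D.M_spec h).2.2.1 H hPH hH hne hgz))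

theorem sup_cj_eq (h : D.I x P) {g : X} (hg : g ∈ D.Gv x) (hgM : g ∉ D.M x P) :
    P ⊔ cj g P = D.Gv x := by
  obtain ⟨z, hz, hzQ⟩ := D.Q_ne h
  exact D.eq_G_of_conj h (sup_le (D.le_G h) (D.le_G (D.I_conj hg h))) le_sup_left hg hgM hz hzQ
    (Subgroup.mem_sup_right (conj_mem_cj hz))

/-- A normal subgroup with an element of `P ∖ Q` covers `G` modulo `P`. -/
theorem sup_eq_of_normal (h : D.I x P) {N : Subgroup X} (hN : N ≤ D.Gv x)
    (hnorm : ∀ g ∈ D.Gv x, ∀ n ∈ N, g * n * g⁻¹ ∈ N) {z : X} (hzN : z ∈ N) (hz : z ∈ P)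
    (hzQ : z ∉ D.Q x) : N ⊔ P = D.Gv x := by
  obtain ⟨g, hg, hgM⟩ := D.exists_not_mem h
  exact D.eq_G_of_conj h (sup_le hN (D.le_G h)) le_sup_right hg hgM hz hzQ
    (Subgroup.mem_sup_left (hnorm g hg z hzN))

omit [Finite X] hp in
/-- Every Sylow subgroup sees the same configuration. -/
theorem sup_eq_comm {P' : Subgroup X} (h : D.I x P) (h' : D.I x P') (hne : P ⊔ P' ≠ D.Gv x) :
    P' ≤ D.M x P :=
  le_sup_right.trans ((D.M_spec h).2.2.1 _ le_sup_left (sup_le (D.le_G h) (D.le_G h')) hne)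

end Sys

end CfsgLib.PushUp.RankOne
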