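import Cfsg.Agent.Lib.PushUp.RankOne.Coord

/-!
Rank one pushing up: critical chains and the shift to the left.
-/

set_option autoImplicit false
set_option linter.style.haveILetI false

namespace CfsgLib.PushUp.RankOne

open scoped commutatorElement

variable {X : Type*} [Group X] {p q : ℕ} {Γ : Type*} [MulAction X Γ]

namespace Sys

variable (D : Sys p q X Γ) {x y z : Γ} {P P' : Subgroup X}

/-- The subgroup generated by the `V` of the vertices on an edge. -/
def U (P : Subgroup X) : Subgroup X := ⨆ y, ⨆ (_ : D.I y P), D.V y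

theorem V_le_U (h : D.I y P) : D.V y ≤ D.U P := le_iSup₂_of_le y h le_rfl

theorem conj_mem_U (g : X) {u : X} (hu : u ∈ D.U P) : g * u * g⁻¹ ∈ D.U (cj g P) := by
  have h1 : cj g (D.U P) ≤ D.U (cj g P) := by
    rw [U, cj, Subgroup.map_iSup]
    refine iSup_le fun w => ?_
    rw [Subgroup.map_iSup]
    refine iSup_le fun hw => ?_
    exact le_iSup₂_of_le (g • w) (D.smul_I g hw) (by rw [D.smul_V]; exact le_rfl)
  exact h1 (conj_mem_cj hu)

/-- A critical walk with `n` generating turns. -/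
structure Chain (L m : ℕ) (v : ℕ → Γ) (P : ℕ → Subgroup X) : Prop where
  left : ∀ i < L, D.I (v i) (P i)
  right : ∀ i < L, D.I (v (i + 1)) (P i)
  crit : ∀ [Finite X], ∀ i, i + D.b ≤ L → ¬ D.V (v i) ≤ D.Q (v (i + D.b))
  gen : ∀ i, i + 1 < L → i < m → P i ⊔ P (i + 1) = D.Gv (v (i + 1))

theorem mem_centralizer_G (hgen : P ⊔ P' = D.Gv x) {a : X}
    (h : a ∈ Subgroup.centralizer (P : Set X)) (h' : a ∈ Subgroup.centralizer (P' : Set X)) :
    a ∈ Subgroup.centralizer (D.Gv x : Set X) := by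
  have hle : P ⊔ P' ≤ Subgroup.centralizer ({a} : Set X) :=
    sup_le (fun g hg => Subgroup.mem_centralizer_singleton_iff.2 (h g hg))
      (fun g hg => Subgroup.mem_centralizer_singleton_iff.2 (h' g hg))
  rw [hgen] at hle
  exact fun g hg => Subgroup.mem_centralizer_singleton_iff.1 (hle hg)

/-- The fixed points of an edge lie in the `V` of all its vertices. -/
theorem center_mem (h : D.I x P) (h' : D.I y P) {a : X} (ha : a ∈ D.V x)
    (hc : a ∈ Subgroup.centralizer (P : Set X)) : a ∈ D.V y :=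
  D.center_le h' a (D.Q_le h (D.V_le x ha)) hc (D.powV a ha)

variable [Finite X] [hp : Fact p.Prime]

omit hp in
theorem crit_of_near (h : D.Near D.b x y) (hV : ¬ D.V x ≤ D.Q y) :
    ∃ P P', D.Crit x y P P' := by
  obtain ⟨k, hk⟩ : ∃ k, D.b = k + 1 := ⟨D.b - 1, by have := D.one_le_b; omega⟩
  have h' := D.near_symm h
  rw [hk] at h h'
  obtain ⟨z, hz, P', hP'z, hP'y⟩ := h
  obtain ⟨z', hz', P, hPz, hPx⟩ := h'
  exact ⟨P, P', hPx, hP'y, D.le_edge (by omega) hz' hPz, D.le_edge (by omega) hz hP'z, hV⟩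

variable (F : Type) [Field F] [Fintype F] (hF : Fintype.card F = q) [CharP F p]

include hF in
/-- The module `V` is natural at every vertex. -/
theorem good_all (htrans : ∀ x y : Γ, ∃ g : X, g • x = y) (x : Γ) : D.Good x := by
  obtain ⟨a, c, h, hV⟩ := D.exists_crit
  obtain ⟨P, P', hc⟩ := D.crit_of_near h hV
  -- one side is an offender
  obtain ⟨x₀, y₀, P₀, P₀', hc₀, hge⟩ : ∃ x₀ y₀ P₀ P₀', D.Crit x₀ y₀ P₀ P₀' ∧
      Nat.card ↥(D.V y₀ ⊓ D.Q x₀) * Nat.card (D.V x₀) ≤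
        Nat.card (D.V y₀) * Nat.card ↥(D.V x₀ ⊓ D.Q y₀) := by
    rcases le_total (Nat.card ↥(D.V c ⊓ D.Q a) * Nat.card (D.V a))
      (Nat.card (D.V c) * Nat.card ↥(D.V a ⊓ D.Q c)) with h1 | h1
    · exact ⟨a, c, P, P', hc, h1⟩
    · refine ⟨c, a, P', P, hc.symm, ?_⟩
      rw [mul_comm, mul_comm (Nat.card (D.V a))]; exact h1
  obtain ⟨g, hg⟩ := htrans x₀ x
  subst hg
  obtain ⟨⟨R⟩, hb⟩ := Crit.rep_of_ge D F hF (hc₀.smul D g) (by
    have e : ∀ a c : Γ, Nat.card ↥(D.V (g • a) ⊓ D.Q (g • c)) = Nat.card ↥(D.V a ⊓ D.Q c) := by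
      intro a c
      rw [← card_cj g (D.V a ⊓ D.Q c), D.smul_V, D.smul_Q, cj, cj, cj,
        ← Subgroup.map_inf_eq _ _ _ (MulAut.conj g).injective]
    rw [e, e, D.smul_V, D.smul_V, card_cj, card_cj]
    exact hge)
  exact D.good_of_rep hF (hc₀.smul D g).first R hb

variable {F}
variable (hG : ∀ x, D.Good x)
include hG

theorem Crit.inf_eq (h : D.Crit x y P P') :
    D.V x ⊓ D.Q y = D.V x ⊓ Subgroup.centralizer (P : Set X) := by
  apply le_antisymm <;> intro a ha <;> refine ⟨ha.1, ?_⟩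
  · obtain ⟨u, hu, huQ⟩ := SetLike.not_le_iff_exists.1 h.not_le'
    exact (hG x).fix_eq P h.first u (h.mem_first hu) huQ a ha.1 (D.comm a ha.2 u hu).symm
  · exact D.cent h.last a (h.mem_last ha.1) fun v hv => (ha.2 v (h.mem_first hv)).symm

theorem Crit.sup_last (h : D.Crit x y P P') : P' = D.V x ⊔ D.Q y := by
  refine (Subgroup.eq_of_le_of_card_ge (sup_le h.mem_last (D.Q_le h.last)) ?_).symm
  have h1 := CfsgLib.ThompsonJ.card_sup_mul_card_inf (D.V x) (D.Q y)
    (D.IP_le_normalizer h.last h.mem_last)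
  rw [h.inf_eq D hG, (hG x).card_V P h.first] at h1
  rw [D.card h.last]
  refine Nat.le_of_mul_le_mul_right ?_
    (Nat.card_pos (α := ↥(D.V x ⊓ Subgroup.centralizer (P : Set X))))
  rw [h1]; exact le_of_eq (by ring)

theorem Crit.sup_first (h : D.Crit x y P P') : P = D.V y ⊔ D.Q x := h.symm.sup_last D hG

theorem Crit.exists_decomp (h : D.Crit x y P P') {g : X} (hg : g ∈ P) :
    ∃ u ∈ D.V y, ∃ c ∈ D.Q x, g = u * c :=
  exists_mul_of_mem_sup (D.IP_le_normalizer h.first h.mem_first) (by rwa [← h.sup_first D hG])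

/-- `[V x, P] = [V x, V y]`. -/
theorem Crit.comm_eq (h : D.Crit x y P P') : ⁅D.V x, P⁆ = ⁅D.V x, D.V y⁆ := by
  refine le_antisymm ?_ (Subgroup.commutator_mono le_rfl h.mem_first)
  rw [Subgroup.commutator_le]
  intro a ha g hg
  obtain ⟨u, hu, c, hc, rfl⟩ := h.exists_decomp D hG hg
  have e : ⁅a, u * c⁆ = ⁅a, u⁆ := by
    have e1 := D.comm c hc a ha
    rw [commutatorElement_def, commutatorElement_def]
    calc a * (u * c) * a⁻¹ * (u * c)⁻¹ = a * u * (c * a⁻¹ * c⁻¹) * u⁻¹ := by group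
      _ = a * u * a⁻¹ * u⁻¹ := by
        rw [D.comm c hc a⁻¹ ((D.V x).inv_mem ha)]; group
  rw [e]
  exact Subgroup.commutator_mem_commutator ha hu

omit [Finite X] hp hG in
theorem Crit.comm_le_V (h : D.Crit x y P P') : ⁅D.V x, D.V y⁆ ≤ D.V x := by
  rw [Subgroup.commutator_le]
  intro a ha u hu
  have h1 := D.normV u (D.le_G h.first (h.mem_first hu)) a⁻¹ ((D.V x).inv_mem ha)
  simpa [commutatorElement_def, mul_assoc] using (D.V x).mul_mem ha h1

theorem Crit.comm_le_center (h : D.Crit x y P P') :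
    ⁅D.V x, D.V y⁆ ≤ Subgroup.centralizer (P : Set X) := by
  intro r hr g hg
  obtain ⟨u, hu, c, hc, rfl⟩ := h.exists_decomp D hG hg
  have hrx := h.comm_le_V D hr
  have hry : r ∈ D.V y := h.symm.comm_le_V D (Subgroup.commutator_comm (D.V x) (D.V y) ▸ hr)
  calc u * c * r = u * (c * r) := mul_assoc _ _ _
    _ = u * (r * c) := by rw [D.comm c hc r hrx]
    _ = u * r * c := (mul_assoc _ _ _).symm
    _ = r * u * c := by rw [D.commV hu hry]
    _ = r * (u * c) := mul_assoc _ _ _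

theorem Crit.comm_le_last (h : D.Crit x y P P') :
    ⁅D.V x, D.V y⁆ ≤ D.V y ⊓ Subgroup.centralizer (P' : Set X) := by
  rw [Subgroup.commutator_comm]
  exact le_inf (h.symm.comm_le_V D) (h.symm.comm_le_center D hG)

section Shift

variable {L m : ℕ} {v : ℕ → Γ} {Pc : ℕ → Subgroup X}

omit hG hp in
theorem Chain.near (hC : D.Chain L m v Pc) {i j : ℕ} (hij : i ≤ j) (hj : j ≤ L) :
    D.Near (j - i) (v i) (v j) := by
  induction j with
  | zero => rw [Nat.le_zero.1 hij]; rfl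
  | succ j ih =>
    rcases Nat.eq_or_lt_of_le hij with rfl | hlt
    · rw [Nat.sub_self]; rfl
    · rw [Nat.succ_sub (Nat.lt_succ_iff.1 hlt)]
      exact ⟨v j, ih (Nat.lt_succ_iff.1 hlt) (by omega), Pc j, hC.left j (by omega), hC.right j (by omega)⟩

omit hG hp in
theorem Chain.crit' (hC : D.Chain L m v Pc) {i : ℕ} (hi : i + D.b ≤ L) :
    D.Crit (v i) (v (i + D.b)) (Pc i) (Pc (i + D.b - 1)) := by
  have hb := D.one_le_b
  have hlast := hC.right (i + D.b - 1) (by omega)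
  rw [show i + D.b - 1 + 1 = i + D.b by omega] at hlast
  refine ⟨hC.left i (by omega), hlast, ?_, ?_, hC.crit i hi⟩
  · exact D.le_edge (k := i + D.b - (i + 1)) (by omega) (D.near_symm (hC.near D (by omega) hi))
      (hC.right i (by omega))
  · exact D.le_edge (k := i + D.b - 1 - i) (by omega) (hC.near D (by omega) (by omega))
      (hC.left _ (by omega))

theorem Chain.exists_shift (hb : 2 ≤ D.b) (hC : D.Chain L m v Pc) (hL : D.b ≤ L) :
    ∃ (w : Γ) (Q' : Subgroup X), D.I w Q' ∧ D.I (v 0) Q' ∧ Q' ⊔ Pc 0 = D.Gv (v 0) ∧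
      ¬ D.V w ≤ D.Q (v (D.b - 1)) := by
  by_contra hc
  push Not at hc
  have hcr := hC.crit' D (i := 0) (by omega)
  simp only [Nat.zero_add] at hcr
  set x := v 0 with hx
  set y := v D.b with hy
  set z := v (D.b - 1) with hz
  have hP : D.I x (Pc 0) := hcr.first
  -- the good edges
  set W : Subgroup X := D.U (Pc 0) ⊔ ⨆ Q', ⨆ (_ : D.I x Q' ∧ Q' ⊔ Pc 0 = D.Gv x), D.U Q' with hW
  have hWz : W ≤ D.Q z := by
    refine sup_le (iSup₂_le fun w hw => ?_) (iSup₂_le fun Q' hQ' => iSup₂_le fun w hw => ?_)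
    · refine D.le_Q (k := 1 + (D.b - 1 - 1)) (by omega) ?_
      exact D.near_add (D.near_one hw (hC.right 0 (by omega))) (hC.near D (by omega) (by omega))
    · exact hc w Q' hw hQ'.1 hQ'.2
  have hzP : D.Q z ≤ Pc (D.b - 1) := D.Q_le (hC.left _ (by omega))
  have hsup := hcr.sup_last D hG
  have hxU : D.V x ≤ D.U (Pc 0) := D.V_le_U hP
  -- `V y` acts trivially on `W` modulo `V x`
  have hWy : ∀ u ∈ D.V y, ∀ w ∈ W, ⁅u, w⁆ ∈ D.V x := by
    intro u hu w hw
    obtain ⟨a, ha, c, hc', rfl⟩ := exists_mul_of_mem_sup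
      (D.IP_le_normalizer hcr.last hcr.mem_last) (hsup ▸ hzP (hWz hw) : w ∈ D.V x ⊔ D.Q y)
    have e : ⁅u, a * c⁆ = ⁅u, a⁆ := by
      have e1 := D.comm c hc' u⁻¹ ((D.V y).inv_mem hu)
      rw [commutatorElement_def, commutatorElement_def]
      calc u * (a * c) * u⁻¹ * (a * c)⁻¹ = u * a * (c * u⁻¹) * c⁻¹ * a⁻¹ := by group
        _ = u * a * u⁻¹ * a⁻¹ := by rw [e1]; group
    rw [e]
    have h1 := D.normV u (D.le_G hP (hcr.mem_first hu)) a ha
    exact (D.V x).mul_mem h1 ((D.V x).inv_mem ha)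
  obtain ⟨g, hg, hgM⟩ := D.exists_not_mem hP
  obtain ⟨u, hu, huQ⟩ := SetLike.not_le_iff_exists.1 hcr.not_le'
  -- the stabiliser of `U`
  set T := D.U (Pc 0)
  set H : Subgroup X := D.Gv x ⊓ Subgroup.normalizer (T : Set X) with hH
  have hPH : Pc 0 ≤ H := fun s hs => by
    refine ⟨D.le_G hP hs, Subgroup.mem_normalizer_fintype fun t ht => ?_⟩
    have := D.conj_mem_U s ht
    rwa [cj_eq_self_of_mem hs] at this
  have hgi : cj g⁻¹ (Pc 0) ⊔ Pc 0 = D.Gv x := by
    rw [sup_comm]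
    exact D.sup_cj_eq hP ((D.Gv x).inv_mem hg) fun h => hgM (by simpa using (D.M x (Pc 0)).inv_mem h)
  have hconj : g * u * g⁻¹ ∈ H := by
    have hgG : g * u * g⁻¹ ∈ D.Gv x :=
      (D.Gv x).mul_mem ((D.Gv x).mul_mem hg (D.le_G hP (hcr.mem_first hu))) ((D.Gv x).inv_mem hg)
    refine ⟨hgG, Subgroup.mem_normalizer_fintype fun t ht => ?_⟩
    have h1 : g⁻¹ * t * g ∈ W := by
      have := D.conj_mem_U g⁻¹ ht
      rw [inv_inv] at this
      exact Subgroup.mem_sup_right (Subgroup.mem_iSup_of_mem _ (Subgroup.mem_iSup_of_mem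
        ⟨D.I_conj ((D.Gv x).inv_mem hg) hP, hgi⟩ this))
    have h2 := hWy u hu _ h1
    have h3 : ⁅g * u * g⁻¹, t⁆ ∈ D.V x := by
      have := D.normV g hg _ h2
      simpa [commutatorElement_def, mul_assoc] using this
    have h4 := T.mul_mem (hxU h3) ht
    simpa [commutatorElement_def, mul_assoc] using h4
  have hHe : H = D.Gv x := D.eq_G_of_conj hP inf_le_left hPH hg hgM (hcr.mem_first hu) huQ hconj
  have hTP : T ≤ Pc 0 := iSup₂_le fun w hw => D.le_edge (k := 0) (by omega) rfl hw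
  have hbot : T = ⊥ := D.core hP T hTP (fun a ha t ht => ?_) fun a ha t ht => ?_
  · exact D.V_ne_bot x (le_bot_iff.1 (hbot ▸ hxU))
  · exact (Subgroup.mem_normalizer_iff.1 ((hHe ▸ ha : a ∈ H).2) t).1 ht
  · have := D.conj_mem_U a ht
    rwa [ha] at this

end Shift

end Sys

end CfsgLib.PushUp.RankOne
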