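import Cfsg.Agent.Lib.PushUp.RankOne.Graph

/-!
Rank one pushing up: coordinates of a natural section.
-/

set_option autoImplicit false
set_option linter.style.haveILetI false

namespace CfsgLib.PushUp.RankOne

open scoped commutatorElement MatrixGroups Pointwise
open Matrix
open CfsgLib.ClassicalLinear (upS upperSL upS_coe upS_add upS_injective mem_upperSL card_upperSL)
open CfsgLib.SL2Gen (lowS lowS_coe eq_upS_lowS_upS)

variable {F : Type} [Field F]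

local notation "M₂" => Matrix (Fin 2) (Fin 2) F

theorem upS_mulVec (t : F) (v : Fin 2 → F) : ((upS t : SL(2, F)) : M₂) *ᵥ v = ![v 0 + t * v 1, v 1] := by
  rw [upS_coe]; funext i; fin_cases i <;> simp [Matrix.mulVec, dotProduct, Fin.sum_univ_two]

theorem lowS_mulVec (t : F) (v : Fin 2 → F) : ((lowS t : SL(2, F)) : M₂) *ᵥ v = ![v 0, t * v 0 + v 1] := by
  rw [lowS_coe]; funext i; fin_cases i <;> simp [Matrix.mulVec, dotProduct, Fin.sum_univ_two]

theorem lowS_add (s t : F) : lowS (s + t) = lowS s * lowS t := by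
  apply Subtype.ext
  rw [Matrix.SpecialLinearGroup.coe_mul, lowS_coe, lowS_coe, lowS_coe]
  ext i j
  fin_cases i <;> fin_cases j <;> simp [Matrix.mul_apply]

theorem sl_mulVec_mul (a c : SL(2, F)) (v : Fin 2 → F) :
    ((a * c : SL(2, F)) : M₂) *ᵥ v = (a : M₂) *ᵥ ((c : M₂) *ᵥ v) := by
  rw [Matrix.mulVec_mulVec]; rfl

theorem sl_one_mulVec (v : Fin 2 → F) : ((1 : SL(2, F)) : M₂) *ᵥ v = v := Matrix.one_mulVec v

theorem sl_inv_mulVec (a : SL(2, F)) (v : Fin 2 → F) :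
    ((a⁻¹ : SL(2, F)) : M₂) *ᵥ ((a : M₂) *ᵥ v) = v := by
  rw [← sl_mulVec_mul, inv_mul_cancel, sl_one_mulVec]

theorem sl_mulVec_inv (a : SL(2, F)) (v : Fin 2 → F) :
    (a : M₂) *ᵥ (((a⁻¹ : SL(2, F)) : M₂) *ᵥ v) = v := by
  rw [← sl_mulVec_mul, mul_inv_cancel, sl_one_mulVec]

/-- An element moves a non-zero vector to any other. -/
theorem exists_mulVec_eq {v w : Fin 2 → F} (hv : v ≠ 0) (hw : w ≠ 0) :
    ∃ g : SL(2, F), (g : M₂) *ᵥ v = w := by
  have key : ∀ u : Fin 2 → F, u ≠ 0 → ∃ g : SL(2, F), (g : M₂) *ᵥ ![1, 0] = u := by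
    intro u hu
    by_cases h0 : u 0 = 0
    · have h1 : u 1 ≠ 0 := fun h1 => hu (by funext i; fin_cases i <;> simp [h0, h1])
      refine ⟨⟨!![u 0, -(u 1)⁻¹; u 1, 0], by simp [Matrix.det_fin_two, h1]⟩, ?_⟩
      funext i; fin_cases i <;> simp [Matrix.mulVec, dotProduct, Fin.sum_univ_two, h0]
    · refine ⟨⟨!![u 0, 0; u 1, (u 0)⁻¹], by simp [Matrix.det_fin_two, h0]⟩, ?_⟩
      funext i; fin_cases i <;> simp [Matrix.mulVec, dotProduct, Fin.sum_univ_two]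
  obtain ⟨a, ha⟩ := key v hv
  obtain ⟨c, hc⟩ := key w hw
  refine ⟨c * a⁻¹, ?_⟩
  rw [sl_mulVec_mul, ← ha, sl_inv_mulVec, hc]

/-- With the top-left entry zero, `h` carries the upper group to the lower one. -/
theorem conj_upS_of_zero {h : SL(2, F)} (h00 : (h : M₂) 0 0 = 0) (x : F) :
    h * upS (-x) * h⁻¹ = lowS (((h : M₂) 1 0) ^ 2 * x) := by
  have hdet := CfsgLib.SL2.det_eq h
  rw [h00, zero_mul] at hdet
  rw [mul_inv_eq_iff_eq_mul]
  apply Subtype.ext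
  rw [Matrix.SpecialLinearGroup.coe_mul h (upS (-x)),
    Matrix.SpecialLinearGroup.coe_mul (lowS _) h, upS_coe, lowS_coe]
  ext i j
  fin_cases i <;> fin_cases j <;> simp [Matrix.mul_apply, h00]
  linear_combination (h : M₂) 1 0 * x * hdet

theorem exists_conj_low {h : SL(2, F)} (hh : (h : M₂) 1 0 ≠ 0) :
    ∃ a : F, ∀ t : F, ∃ s : F, upS a * (h * upS t * h⁻¹) * (upS a)⁻¹ = lowS s := by
  refine ⟨-(h : M₂) 0 0 / (h : M₂) 1 0, fun t => ?_⟩
  set c := (h : M₂) 1 0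
  set h' := upS (-(h : M₂) 0 0 / c) * h with hh'
  have h00 : (h' : M₂) 0 0 = 0 := by
    have e : (h' : M₂) 0 0 = (h : M₂) 0 0 + -(h : M₂) 0 0 / c * c := by
      rw [hh', Matrix.SpecialLinearGroup.coe_mul, upS_coe]
      simp [Matrix.mul_apply, c]
    rw [e, div_mul_cancel₀ _ hh, add_neg_cancel]
  refine ⟨((h' : M₂) 1 0) ^ 2 * (-t), ?_⟩
  rw [← conj_upS_of_zero h00, neg_neg, hh']
  simp [mul_assoc]

/-- An overgroup of the upper group outside the upper triangular group is everything. -/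
theorem eq_top_of_upper {H : Subgroup (SL(2, F))} (hU : ∀ t, upS t ∈ H) {h : SL(2, F)} (hh : h ∈ H)
    (hc : (h : M₂) 1 0 ≠ 0) : H = ⊤ := by
  set c := (h : M₂) 1 0
  set h' := upS (-(h : M₂) 0 0 / c) * h with hh'
  have h00 : (h' : M₂) 0 0 = 0 := by
    have e : (h' : M₂) 0 0 = (h : M₂) 0 0 + -(h : M₂) 0 0 / c * c := by
      rw [hh', Matrix.SpecialLinearGroup.coe_mul, upS_coe]
      simp [Matrix.mul_apply, c]
    rw [e, div_mul_cancel₀ _ hc, add_neg_cancel]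
  have h10 : (h' : M₂) 1 0 = c := by
    rw [hh', Matrix.SpecialLinearGroup.coe_mul, upS_coe]
    simp [Matrix.mul_apply, c]
  have hlow : ∀ x : F, lowS x ∈ H := fun x => by
    have h1 := conj_upS_of_zero h00 (x / c ^ 2)
    rw [h10, mul_div_cancel₀ x (pow_ne_zero 2 hc)] at h1
    rw [← h1]
    exact H.mul_mem (H.mul_mem (H.mul_mem (hU _) hh) (hU _)) (H.inv_mem (H.mul_mem (hU _) hh))
  have hne : ∀ g : SL(2, F), (g : M₂) 1 0 ≠ 0 → g ∈ H := fun g hg => by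
    rw [eq_upS_lowS_upS hg]
    exact H.mul_mem (H.mul_mem (hU _) (hlow _)) (hU _)
  refine (Subgroup.eq_top_iff' H).2 fun g => ?_
  by_cases hg : (g : M₂) 1 0 = 0
  · have h1 : g * lowS 1 ∈ H := by
      refine hne _ ?_
      rw [Matrix.SpecialLinearGroup.coe_mul, lowS_coe]
      simp [Matrix.mul_apply, hg]
      exact (CfsgLib.ClassicalLinear.upperSL_diag_ne_zero hg).2
    simpa using H.mul_mem h1 (H.inv_mem (hlow 1))
  · exact hne g hg

variable {X : Type*} [Group X] {p q : ℕ} {Γ : Type*} [MulAction X Γ]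

namespace Sys.Rep

variable {D : Sys p q X Γ} {x : Γ} {P P' W Y : Subgroup X} (R : D.Rep x W Y F)

theorem map_one : R.ψ 1 = 0 := by
  have := R.map_mul 1 1
  rw [one_mul] at this
  simpa using this

theorem map_inv (a : ↥W) : R.ψ a⁻¹ = -R.ψ a := by
  have h := R.map_mul a⁻¹ a
  rw [inv_mul_cancel, R.map_one] at h
  exact eq_neg_of_add_eq_zero_left h.symm

theorem map_comm {g : ↥(D.Gv x)} {w c : ↥W} (e : (c : X) = ⁅(g : X), (w : X)⁆) :
    R.ψ c = ((R.ρ g : SL(2, F)) : M₂) *ᵥ R.ψ w - R.ψ w := by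
  have h1 : ((c * w : ↥W) : X) = (g : X) * w * (g : X)⁻¹ := by
    rw [Subgroup.coe_mul, e, commutatorElement_def]; simp
  rw [← R.equiv g w _ h1, R.map_mul]; simp

/-- Change of coordinates. -/
def conj (γ : SL(2, F)) : D.Rep x W Y F where
  ρ := (MulAut.conj γ).toMonoidHom.comp R.ρ
  ψ w := (γ : M₂) *ᵥ R.ψ w
  surjρ := (MulAut.conj γ).surjective.comp R.surjρ
  surjψ v := by
    obtain ⟨w, hw⟩ := R.surjψ (((γ⁻¹ : SL(2, F)) : M₂) *ᵥ v)
    exact ⟨w, by show (γ : M₂) *ᵥ R.ψ w = v; rw [hw, sl_mulVec_inv]⟩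
  map_mul a b := by rw [R.map_mul, mulVec_add]
  ker w := by
    rw [← R.ker]
    constructor
    · intro h
      have := congrArg (fun v => ((γ⁻¹ : SL(2, F)) : M₂) *ᵥ v) h
      rwa [sl_inv_mulVec, mulVec_zero] at this
    · intro h; rw [h, mulVec_zero]
  equiv g w w' e := by
    show (γ : M₂) *ᵥ R.ψ w' = ((γ * R.ρ g * γ⁻¹ : SL(2, F)) : M₂) *ᵥ ((γ : M₂) *ᵥ R.ψ w)
    rw [R.equiv g w w' e, sl_mulVec_mul, sl_mulVec_mul, sl_inv_mulVec]
  kerρ g := by rw [← R.kerρ]; simp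
  kerQ g hg := by simp [R.kerQ g hg]
  kerP P hP g hg e := R.kerP P hP g hg (by simpa using e)
  kerY w hw := by rw [R.kerY w hw, mulVec_zero]

/-- Coordinates adapted to two Sylow subgroups that generate. -/
structure Normal (P P' : Subgroup X) : Prop where
  upper : ∀ g : ↥(D.Gv x), (g : X) ∈ P → ∃ t, R.ρ g = upS t
  exists_upper : ∀ t, ∃ g : ↥(D.Gv x), (g : X) ∈ P ∧ R.ρ g = upS t
  lower : ∀ g : ↥(D.Gv x), (g : X) ∈ P' → ∃ t, R.ρ g = lowS t
  exists_lower : ∀ t, ∃ g : ↥(D.Gv x), (g : X) ∈ P' ∧ R.ρ g = lowS t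

theorem card_image [Finite X] (hP : D.I x P) :
    Nat.card ((P.subgroupOf (D.Gv x)).map R.ρ) = q := by
  set f := R.ρ.comp (Subgroup.inclusion (D.le_G hP)) with hf
  have e1 : f.range = (P.subgroupOf (D.Gv x)).map R.ρ := by
    ext k
    constructor
    · rintro ⟨b, rfl⟩; exact ⟨Subgroup.inclusion (D.le_G hP) b, b.2, rfl⟩
    · rintro ⟨u, hu, rfl⟩; exact ⟨⟨u, hu⟩, rfl⟩
  have e2 : f.ker = (D.Q x).subgroupOf P := by
    ext b
    exact ⟨fun hb => R.kerP P hP (Subgroup.inclusion (D.le_G hP) b) b.2 hb,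
      fun hb => R.kerQ (Subgroup.inclusion (D.le_G hP) b) hb⟩
  have e := Subgroup.card_eq_card_quotient_mul_card_subgroup f.ker
  rw [Nat.card_congr (QuotientGroup.quotientKerEquivRange _).toEquiv, e1, e2,
    Nat.card_congr (Subgroup.subgroupOfEquivOfLe (D.Q_le hP)).toEquiv, D.card hP] at e
  exact (Nat.eq_of_mul_eq_mul_right Nat.card_pos e).symm

variable [Finite X] [hp : Fact p.Prime] [Fintype F] [CharP F p] (hF : Fintype.card F = q)
include hF

theorem exists_normal (R : D.Rep x W Y F) (hP : D.I x P) (hP' : D.I x P') (hgen : P ⊔ P' = D.Gv x) :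
    ∃ R' : D.Rep x W Y F, R'.Normal P P' := by
  classical
  have hcF : Nat.card F = q := by rw [Nat.card_eq_fintype_card, hF]
  set U : Subgroup (SL(2, F)) := upperSL with hU
  have hUc : Nat.card U = q := by rw [hU, card_upperSL, hcF]
  -- Sylow subgroups of `SL₂`
  obtain ⟨j, hj⟩ : ∃ j, q = p ^ j := by
    obtain ⟨n, -, hn⟩ := FiniteField.card F p
    exact ⟨n, by rw [← hF, hn]⟩
  have hdvd : ¬ p ∣ q ^ 2 - 1 := fun hd => by
    have hj0 : j ≠ 0 := fun e => by have := D.one_lt_q; rw [hj, e] at this; simp at this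
    have h2 : p ∣ q ^ 2 := by rw [hj]; exact dvd_pow (dvd_pow_self p hj0) two_ne_zero
    have h3 : 1 ≤ q ^ 2 := Nat.one_le_pow _ _ (by have := D.one_lt_q; omega)
    have h4 := Nat.dvd_sub h2 hd
    rw [Nat.sub_sub_self h3] at h4
    exact hp.out.one_lt.ne' (Nat.dvd_one.1 h4)
  have hsyl : ∀ K : Subgroup (SL(2, F)), Nat.card K = q → ∀ {K' : Subgroup (SL(2, F))},
      IsPGroup p K' → K ≤ K' → K' = K := by
    intro K hK K' hK' hle
    refine (Subgroup.eq_of_le_of_card_ge hle ?_).symm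
    obtain ⟨i, hi⟩ := IsPGroup.iff_card.1 hK'
    have h1 : Nat.card K' ∣ q * (q ^ 2 - 1) := by
      have := Subgroup.card_subgroup_dvd_card K'
      rwa [CfsgLib.SL2.card_SL, hcF] at this
    rw [hi] at h1 ⊢
    rw [hK]
    exact Nat.le_of_dvd (by have := D.one_lt_q; omega)
      ((Nat.Coprime.dvd_mul_right ((Nat.Coprime.pow_left i ((hp.out.coprime_iff_not_dvd).2 hdvd)))).1 h1)
  let mk : ∀ K : Subgroup (SL(2, F)), Nat.card K = q → Sylow p (SL(2, F)) := fun K hK =>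
    { toSubgroup := K
      isPGroup' := IsPGroup.iff_card.2 ⟨j, hK.trans hj⟩
      is_maximal' := fun h1 h2 => hsyl K hK h1 h2 }
  obtain ⟨γ, hγ⟩ := MulAction.exists_smul_eq (SL(2, F))
    (mk _ (R.card_image hP)) (mk U hUc)
  -- `P` becomes upper
  have hup : (P.subgroupOf (D.Gv x)).map (R.conj γ).ρ = U := by
    have h1 := congrArg (fun S : Sylow p (SL(2, F)) => (S : Subgroup (SL(2, F)))) hγ
    simp only [Sylow.coe_subgroup_smul] at h1
    change MulAut.conj γ • (P.subgroupOf (D.Gv x)).map R.ρ = U at h1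
    rw [← h1]
    exact (Subgroup.map_map _ _ _).symm
  set R₁ := R.conj γ with hR₁
  obtain ⟨γ', hγ'⟩ := MulAction.exists_smul_eq (SL(2, F))
    (mk U hUc) (mk _ (R₁.card_image hP'))
  have hP'1 : (P'.subgroupOf (D.Gv x)).map R₁.ρ = U.map (MulAut.conj γ').toMonoidHom := by
    have h1 := congrArg (fun S : Sylow p (SL(2, F)) => (S : Subgroup (SL(2, F)))) hγ'
    simp only [Sylow.coe_subgroup_smul] at h1
    exact h1.symm
  have htop : (⊤ : Subgroup (SL(2, F))) =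
      (P.subgroupOf (D.Gv x)).map R₁.ρ ⊔ (P'.subgroupOf (D.Gv x)).map R₁.ρ := by
    rw [← Subgroup.map_sup, ← Subgroup.subgroupOf_sup (D.le_G hP) (D.le_G hP'), hgen,
      Subgroup.subgroupOf_self, Subgroup.map_top_of_surjective _ R₁.surjρ]
  have hc : (γ' : M₂) 1 0 ≠ 0 := by
    intro hc
    have hle : (⊤ : Subgroup (SL(2, F))) ≤ CfsgLib.SL2.borel F := by
      rw [htop, hup, hP'1]
      refine sup_le ?_ ?_
      · rintro _ ⟨t, rfl⟩
        rw [CfsgLib.SL2.mem_borel, upS_coe]; simp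
      · rintro _ ⟨_, ⟨t, rfl⟩, rfl⟩
        have hb : γ' ∈ CfsgLib.SL2.borel F := CfsgLib.SL2.mem_borel.2 hc
        exact Subgroup.mul_mem _ (Subgroup.mul_mem _ hb
          (CfsgLib.SL2.mem_borel.2 (by rw [upS_coe]; simp))) (Subgroup.inv_mem _ hb)
    exact CfsgLib.SL2Gen.borel_ne_top (top_le_iff.1 hle)
  obtain ⟨a, ha⟩ := exists_conj_low hc
  refine ⟨R₁.conj (upS a), ⟨fun g hg => ?_, fun t => ?_, fun g hg => ?_, fun s => ?_⟩⟩
  · obtain ⟨t, ht⟩ : R₁.ρ g ∈ U := hup ▸ ⟨g, hg, rfl⟩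
    refine ⟨t, ?_⟩
    show upS a * R₁.ρ g * (upS a)⁻¹ = upS t
    rw [← ht, mul_inv_eq_iff_eq_mul, ← upS_add, ← upS_add, add_comm]
  · obtain ⟨g, hg, e⟩ : upS t ∈ (P.subgroupOf (D.Gv x)).map R₁.ρ := hup ▸ ⟨t, rfl⟩
    refine ⟨g, hg, ?_⟩
    show upS a * R₁.ρ g * (upS a)⁻¹ = upS t
    rw [e, mul_inv_eq_iff_eq_mul, ← upS_add, ← upS_add, add_comm]
  · obtain ⟨_, ⟨t, rfl⟩, ht⟩ : R₁.ρ g ∈ U.map (MulAut.conj γ').toMonoidHom := hP'1 ▸ ⟨g, hg, rfl⟩
    obtain ⟨s, hs⟩ := ha t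
    refine ⟨s, ?_⟩
    show upS a * R₁.ρ g * (upS a)⁻¹ = lowS s
    rw [← ht, ← hs]; rfl
  · -- the lower group is the whole image
    set L := (P'.subgroupOf (D.Gv x)).map (R₁.conj (upS a)).ρ
    have hL : Nat.card L = q := Rep.card_image _ hP'
    let low : Multiplicative F →* SL(2, F) :=
      { toFun := fun t => lowS t.toAdd
        map_one' := by apply Subtype.ext; simp [lowS_coe]; exact Matrix.one_fin_two.symm
        map_mul' := fun s t => lowS_add _ _ }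
    have hle : L ≤ low.range := by
      rintro _ ⟨g, hg, rfl⟩
      obtain ⟨_, ⟨t, rfl⟩, ht⟩ : R₁.ρ g ∈ U.map (MulAut.conj γ').toMonoidHom := hP'1 ▸ ⟨g, hg, rfl⟩
      obtain ⟨s, hs⟩ := ha t
      refine ⟨Multiplicative.ofAdd s, ?_⟩
      show lowS s = upS a * R₁.ρ g * (upS a)⁻¹
      rw [← ht, ← hs]; rfl
    have hlc : Nat.card low.range ≤ q := by
      rw [← hcF]
      refine (Nat.card_le_card_of_surjective _ low.rangeRestrict_surjective).trans ?_
      exact (Nat.card_congr Multiplicative.toAdd).le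
    obtain ⟨g, hg, e⟩ : lowS s ∈ L :=
      Subgroup.eq_of_le_of_card_ge hle (hlc.trans hL.ge) ▸ ⟨Multiplicative.ofAdd s, rfl⟩
    exact ⟨g, hg, e⟩

omit [Fintype F] [CharP F p] [Finite X] hF hp in
theorem psi_one_eq_zero {R : D.Rep x W Y F} (hP : D.I x P) {P' : Subgroup X} (hR : R.Normal P P')
    (hnW : ∀ g ∈ D.Gv x, ∀ w ∈ W, g * w * g⁻¹ ∈ W)
    {g : ↥(D.Gv x)} (hg : (g : X) ∈ P) (hgQ : (g : X) ∉ D.Q x) (w : ↥W)
    (h : ⁅(g : X), (w : X)⁆ ∈ Y) : R.ψ w 1 = 0 := by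
  obtain ⟨t, ht⟩ := hR.upper g hg
  have ht0 : t ≠ 0 := fun e => hgQ (R.kerP P hP g hg (by
    rw [ht, e]; exact Matrix.SpecialLinearGroup.transvection_coeff_zero _))
  have hcW : ⁅(g : X), (w : X)⁆ ∈ W := W.mul_mem (hnW g g.2 w w.2) (W.inv_mem w.2)
  have h1 := R.map_comm (g := g) (w := w) (c := ⟨_, hcW⟩) rfl
  rw [R.kerY _ h, ht, upS_mulVec] at h1
  have h2 := congrFun h1 0
  simp at h2
  rcases h2 with h3 | h3
  · exact absurd h3 ht0
  · exact h3

omit [CharP F p] [Finite X] hp in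
theorem card_line :
    ∃ L : Subgroup ↥W, (∀ w, w ∈ L ↔ R.ψ w 1 = 0) ∧ Nat.card W = q * Nat.card L := by
  let f : ↥W →* Multiplicative F :=
    { toFun := fun w => Multiplicative.ofAdd (R.ψ w 1)
      map_one' := by simp [R.map_one]
      map_mul' := fun a b => by simp [R.map_mul, ofAdd_add] }
  refine ⟨f.ker, fun w => Iff.rfl, ?_⟩
  have hf : Function.Surjective f := fun t => by
    obtain ⟨w, hw⟩ := R.surjψ ![0, t.toAdd]
    exact ⟨w, by simp [f, hw]⟩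
  rw [Subgroup.card_eq_card_quotient_mul_card_subgroup f.ker,
    Nat.card_congr (QuotientGroup.quotientKerEquivOfSurjective f hf).toEquiv,
    Nat.card_congr Multiplicative.toAdd, Nat.card_eq_fintype_card, hF]

omit [CharP F p] hp in
/-- A subgroup of index at most `q` inside the fixed line is the fixed line. -/
theorem mem_iff {C : Subgroup X} (hCW : C ≤ W) (hle : ∀ w : ↥W, (w : X) ∈ C → R.ψ w 1 = 0)
    (hc : Nat.card W ≤ q * Nat.card C) (w : ↥W) : R.ψ w 1 = 0 ↔ (w : X) ∈ C := by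
  obtain ⟨L, hL, hLc⟩ := R.card_line hF
  have hq : 0 < q := hF ▸ Fintype.card_pos
  have hsub : C.subgroupOf W ≤ L := fun w hw => (hL w).2 (hle w hw)
  have := Subgroup.eq_of_le_of_card_ge hsub (by
    rw [Nat.card_congr (Subgroup.subgroupOfEquivOfLe hCW).toEquiv]
    exact Nat.le_of_mul_le_mul_left (hLc ▸ hc) hq)
  rw [← hL, ← this]; rfl

end Sys.Rep

namespace Sys

variable [Finite X] (D : Sys p q X Γ) [hp : Fact p.Prime] [Fintype F] (hF : Fintype.card F = q) [CharP F p]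
include hF

theorem good_of_rep {x : Γ} {P : Subgroup X} (hP : D.I x P) (R : D.Rep x (D.V x) ⊥ F)
    (hc : Nat.card (D.V x) ≤ q * Nat.card ↥(D.V x ⊓ Subgroup.centralizer (P : Set X))) : D.Good x := by
  -- any Sylow subgroup has the same bound
  have hall : ∀ P₁, D.I x P₁ → Nat.card (D.V x) ≤
      q * Nat.card ↥(D.V x ⊓ Subgroup.centralizer (P₁ : Set X)) := by
    intro P₁ hP₁
    obtain ⟨g, hg, rfl⟩ := D.conj_I hP hP₁
    refine hc.trans (Nat.mul_le_mul_left q ?_)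
    rw [← card_cj g (D.V x ⊓ Subgroup.centralizer (P : Set X))]
    refine Subgroup.card_le_of_le ?_
    rintro _ ⟨v, hv, rfl⟩
    refine ⟨by simpa using D.normV g hg v hv.1, fun a ha => ?_⟩
    have h1 := hv.2 _ (mem_cj.1 ha)
    calc a * (g * v * g⁻¹) = g * (g⁻¹ * a * g * v) * g⁻¹ := by group
      _ = g * (v * (g⁻¹ * a * g)) * g⁻¹ := by rw [h1]
      _ = g * v * g⁻¹ * a := by group
  have main : ∀ P₁, D.I x P₁ →
      Nat.card (D.V x) = q * Nat.card ↥(D.V x ⊓ Subgroup.centralizer (P₁ : Set X)) ∧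
      (∀ g ∈ P₁, g ∉ D.Q x → ∀ v ∈ D.V x, g * v = v * g → v ∈ Subgroup.centralizer (P₁ : Set X)) ∧
      (¬ ⁅D.V x, P₁⁆ ≤ Subgroup.centralizer (D.Gv x : Set X)) ∧
      ⁅D.V x, P₁⁆ ≤ D.V x ⊓ Subgroup.centralizer (P₁ : Set X) := by
    intro P₁ hP₁
    obtain ⟨g₀, hg₀, hg₀M⟩ := D.exists_not_mem hP₁
    obtain ⟨R', hR'⟩ := R.exists_normal hF hP₁ (D.I_conj hg₀ hP₁) (D.sup_cj_eq hP₁ hg₀ hg₀M)
    have hnW : ∀ g ∈ D.Gv x, ∀ w ∈ D.V x, g * w * g⁻¹ ∈ D.V x := D.normV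
    set C := D.V x ⊓ Subgroup.centralizer (P₁ : Set X) with hC
    obtain ⟨z, hz, hzQ⟩ := D.Q_ne hP₁
    have hiff := R'.mem_iff hF (C := C) inf_le_left (fun w hw =>
      Rep.psi_one_eq_zero hP₁ hR' hnW (g := ⟨z, D.le_G hP₁ hz⟩) hz hzQ w
        (Subgroup.mem_bot.2 (commutator_eq_one_of (hw.2 z hz)))) (hall P₁ hP₁)
    refine ⟨?_, ?_, ?_, ?_⟩
    · obtain ⟨L, hL, hLc⟩ := R'.card_line hF
      rw [hLc]; congr 1
      have : L = C.subgroupOf (D.V x) := by ext w; rw [hL, hiff]; rfl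
      rw [this, Nat.card_congr (Subgroup.subgroupOfEquivOfLe inf_le_left).toEquiv]
    · intro g hg hgQ v hv e
      exact ((hiff ⟨v, hv⟩).1 (Rep.psi_one_eq_zero hP₁ hR' hnW (g := ⟨g, D.le_G hP₁ hg⟩) hg hgQ
        ⟨v, hv⟩ (Subgroup.mem_bot.2 (commutator_eq_one_of e)))).2
    · intro hle
      obtain ⟨w, hw⟩ := R'.surjψ ![0, 1]
      obtain ⟨g, hg, hgρ⟩ := hR'.exists_upper 1
      have hmem : ⁅(g : X), (w : X)⁆ ∈ D.V x := (D.V x).mul_mem (hnW g g.2 w w.2) ((D.V x).inv_mem w.2)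
      have hcen : ⁅(g : X), (w : X)⁆ ∈ Subgroup.centralizer (D.Gv x : Set X) := by
        refine hle ?_
        rw [Subgroup.commutator_comm]
        exact Subgroup.commutator_mem_commutator hg w.2
      have h1 := R'.map_comm (g := g) (w := w) (c := ⟨_, hmem⟩) rfl
      rw [(R'.ker ⟨_, hmem⟩).2 fun a ha =>
        Subgroup.mem_bot.2 (commutator_eq_one_of (hcen a ha)), hgρ, upS_mulVec, hw] at h1
      have h2 := congrFun h1 0
      simp at h2
    · rw [Subgroup.commutator_le]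
      intro v hv g hg
      have hmem : ⁅g, v⁆ ∈ D.V x :=
        (D.V x).mul_mem (hnW g (D.le_G hP₁ hg) v hv) ((D.V x).inv_mem hv)
      obtain ⟨t, ht⟩ := hR'.upper ⟨g, D.le_G hP₁ hg⟩ hg
      have h1 := R'.map_comm (g := ⟨g, D.le_G hP₁ hg⟩) (w := ⟨v, hv⟩) (c := ⟨_, hmem⟩) rfl
      rw [ht, upS_mulVec] at h1
      have h2 : R'.ψ ⟨_, hmem⟩ 1 = 0 := by rw [h1]; simp
      have h3 := (hiff _).1 h2
      rw [← commutatorElement_inv]
      exact C.inv_mem h3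
  exact ⟨fun P₁ h => (main P₁ h).1, fun P₁ h => (main P₁ h).2.1, fun P₁ h => (main P₁ h).2.2.1,
    fun P₁ h => (main P₁ h).2.2.2⟩

end Sys

end CfsgLib.PushUp.RankOne
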