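import Cfsg.Agent.Lib.PushUp.RankOne.Section
import Cfsg.Agent.Lib.PushUp.RankOne.Chain

/-!
Rank one pushing up: pulling the configuration at a vertex back to an abstract group.
-/

set_option autoImplicit false
set_option linter.unusedSectionVars false
set_option linter.style.haveILetI false

namespace CfsgLib.PushUp.RankOne

open Cfsg
open scoped commutatorElement MatrixGroups
open Matrix

/-- A central series of a covering `p`-group descends into a subgroup with trivial action. -/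
theorem iter_le_of_trivial {G : Type*} [Group G] [Finite G] {p : ℕ} [Fact p.Prime]
    {Q W N S : Subgroup G} [Q.Normal] [W.Normal] [N.Normal] (hS : IsPGroup p S) (hQS : Q ≤ S)
    (hsup : N ⊔ S = ⊤) (hN : ∀ n ∈ N, ∀ a ∈ Q, ⁅n, a⁆ ∈ W) :
    ∃ k, iterCommutator Q ⊤ k ≤ W := by
  haveI : Group.IsNilpotent S := hS.isNilpotent
  obtain ⟨k, hk⟩ := (Subgroup.isNilpotent_iff_lowerCentralSeries S).1 (inferInstance : Group.IsNilpotent S)
  suffices ∀ i, iterCommutator Q ⊤ i ≤ Q ∧ iterCommutator Q ⊤ i ≤ W ⊔ S.lowerCentralSeries i from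
    ⟨k, (this k).2.trans (by rw [hk, sup_bot_eq])⟩
  intro i
  induction i with
  | zero => exact ⟨le_rfl, le_trans hQS le_sup_right⟩
  | succ i ih =>
    refine ⟨(Subgroup.commutator_mono ih.1 le_rfl).trans (Subgroup.commutator_le_left Q ⊤), ?_⟩
    show ⁅iterCommutator Q ⊤ i, (⊤ : Subgroup G)⁆ ≤ _
    rw [Subgroup.commutator_le]
    intro x hx g _
    obtain ⟨n, hn, s, hs, rfl⟩ := Subgroup.mem_sup_of_normal_left.1 (hsup ▸ Subgroup.mem_top g : g ∈ N ⊔ S)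
    have hxQ : ⁅x, s⁆ ∈ Q := (Subgroup.commutator_le_left Q ⊤)
      (Subgroup.commutator_mem_commutator (ih.1 hx) (Subgroup.mem_top s))
    have e : ⁅x, n * s⁆ = ⁅n, x⁆⁻¹ * (⁅n, ⁅x, s⁆⁆ * ⁅x, s⁆) := by
      simp [commutatorElement_def, mul_assoc]
    rw [e]
    refine Subgroup.mul_mem _ (Subgroup.mem_sup_left (W.inv_mem (hN n hn x (ih.1 hx))))
      (Subgroup.mul_mem _ (Subgroup.mem_sup_left (hN n hn _ hxQ)) ?_)
    obtain ⟨w, hw, l, hl, rfl⟩ := Subgroup.mem_sup_of_normal_left.1 (ih.2 hx)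
    have e' : ⁅w * l, s⁆ = w * ⁅l, s⁆ * w⁻¹ * (w * (s * w⁻¹ * s⁻¹)) := by
      simp [commutatorElement_def, mul_assoc]
    rw [e']
    exact Subgroup.mul_mem _ (Subgroup.mul_mem _ (Subgroup.mul_mem _ (Subgroup.mem_sup_left hw)
      (Subgroup.mem_sup_right (Subgroup.commutator_mem_commutator hl hs)))
      (Subgroup.inv_mem _ (Subgroup.mem_sup_left hw)))
      (Subgroup.mem_sup_left (W.mul_mem hw (Subgroup.Normal.conj_mem ‹W.Normal› _ (W.inv_mem hw) s)))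

variable {X : Type*} [Group X] [Finite X] {p q : ℕ} {Γ : Type*} [MulAction X Γ]

namespace Sys

variable (D : Sys p q X Γ) [hp : Fact p.Prime] {x : Γ}

theorem exists_repV (F : Type) [Field F] [Fintype F] (hF : Fintype.card F = q) [CharP F p]
    (hG : ∀ x, D.Good x) (htrans : ∀ x y : Γ, ∃ g : X, g • x = y) (x : Γ) :
    Nonempty (D.Rep x (D.V x) ⊥ F) := by
  obtain ⟨a, c, h, hV⟩ := D.exists_crit
  obtain ⟨P, P', hc⟩ := D.crit_of_near h hV
  obtain ⟨g, rfl⟩ := htrans a x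
  have hc' := hc.smul D g
  refine (Crit.rep_of_ge D F hF hc' ?_).1
  rw [hc'.inf_eq D hG, hc'.symm.inf_eq D hG, (hG (g • a)).card_V _ hc'.first,
    (hG _).card_V _ hc'.last]
  exact le_of_eq (by ring)

section

variable {D} {G : Type*} [Group G] (e : G ≃* ↥(D.Gv x))

/-- The inclusion. -/
def incl : G →* X := (D.Gv x).subtype.comp e.toMonoidHom

theorem incl_injective : Function.Injective (incl e) :=
  (D.Gv x).subtype_injective.comp e.injective

theorem incl_mem (g : G) : incl e g ∈ D.Gv x := (e g).2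

theorem exists_incl {a : X} (ha : a ∈ D.Gv x) : ∃ g, incl e g = a :=
  ⟨e.symm ⟨a, ha⟩, congrArg Subtype.val (e.apply_symm_apply ⟨a, ha⟩)⟩

theorem normal_comap {W : Subgroup X} (hn : ∀ g ∈ D.Gv x, ∀ w ∈ W, g * w * g⁻¹ ∈ W) :
    (W.comap (incl e)).Normal :=
  ⟨fun a ha g => by
    rw [Subgroup.mem_comap] at ha ⊢
    simpa using hn _ (incl_mem e g) _ ha⟩

theorem commutator_comap_le {A B : Subgroup X} (h : ∀ a ∈ A, ∀ g ∈ D.Gv x, ⁅a, g⁆ ∈ B) :
    ⁅A.comap (incl e), (⊤ : Subgroup G)⁆ ≤ B.comap (incl e) := by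
  rw [Subgroup.commutator_le]
  intro a ha g _
  show incl e ⁅a, g⁆ ∈ B
  rw [map_commutatorElement]
  exact h _ ha _ (incl_mem e g)

theorem sup_comap {N P : Subgroup X} (hN : N ≤ D.Gv x) (hP : P ≤ D.Gv x)
    (h : N ⊔ P = D.Gv x) : N.comap (incl e) ⊔ P.comap (incl e) = ⊤ := by
  refine Subgroup.map_injective (incl_injective e) ?_
  have hr : (incl e).range = D.Gv x := by
    ext a
    exact ⟨fun ⟨g, hg⟩ => hg ▸ incl_mem e g, fun ha => exists_incl e ha⟩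
  rw [Subgroup.map_sup, Subgroup.map_comap_eq, Subgroup.map_comap_eq, ← MonoidHom.range_eq_map, hr,
    inf_eq_right.2 hN, inf_eq_right.2 hP, h]

variable {F : Type} [Field F] {W Y : Subgroup X}

/-- The elements without component. -/
def Rep.kerSub (R : D.Rep x W Y F) : Subgroup X where
  carrier := {z | ∃ hz : z ∈ W, R.ψ ⟨z, hz⟩ = 0}
  one_mem' := ⟨W.one_mem, R.map_one⟩
  mul_mem' := fun {a b} ⟨ha, ha'⟩ ⟨hb, hb'⟩ =>
    ⟨W.mul_mem ha hb, (R.map_mul ⟨a, ha⟩ ⟨b, hb⟩).trans (by rw [ha', hb', add_zero])⟩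
  inv_mem' := fun {a} ⟨ha, ha'⟩ =>
    ⟨W.inv_mem ha, (R.map_inv ⟨a, ha⟩).trans (by rw [ha', neg_zero])⟩

theorem Rep.kerSub_comm (R : D.Rep x W Y F) {a : X} (ha : a ∈ R.kerSub) {g : X} (hg : g ∈ D.Gv x) :
    ⁅a, g⁆ ∈ Y := by
  obtain ⟨ha, ha'⟩ := ha
  rw [← commutatorElement_inv]
  exact Y.inv_mem ((R.ker ⟨a, ha⟩).1 ha' g hg)

/-- The natural section of the abstract group. -/
def Rep.natSection (R : D.Rep x W Y F) (hn : ∀ g ∈ D.Gv x, ∀ w ∈ W, g * w * g⁻¹ ∈ W)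
    (hWG : W ≤ D.Gv x) :
    NatSection (W.comap (incl e)) (R.kerSub.comap (incl e)) F where
  le _ ha := ha.1
  normal := normal_comap e hn
  normal' := normal_comap e fun g hg w ⟨hw, hw'⟩ => ⟨hn g hg w hw, by
    rw [R.equiv ⟨g, hg⟩ ⟨w, hw⟩ ⟨_, hn g hg w hw⟩ rfl, hw', Matrix.mulVec_zero]⟩
  ρ := R.ρ.comp e.toMonoidHom
  surjρ := R.surjρ.comp e.surjective
  ψ a := R.ψ ⟨incl e a, a.2⟩
  surjψ u := by
    obtain ⟨w, hw⟩ := R.surjψ u
    obtain ⟨g, hg⟩ := exists_incl e (hWG w.2)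
    exact ⟨⟨g, show incl e g ∈ W from hg ▸ w.2⟩, by simpa [hg] using hw⟩
  map_mul a b := by
    rw [← R.map_mul]
    congr 1
    exact Subtype.ext (_root_.map_mul (incl e) (a : G) b)
  ker a := ⟨fun h => ⟨a.2, h⟩, fun ⟨_, h⟩ => h⟩
  equiv g a a' h := R.equiv (e g) ⟨incl e a, a.2⟩ ⟨incl e a', a'.2⟩ (by
    show incl e (a' : G) = incl e g * incl e (a : G) * (incl e g)⁻¹
    rw [h, _root_.map_mul, _root_.map_mul, _root_.map_inv])

end

end Sys

end CfsgLib.PushUp.RankOne
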