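import Cfsg.Agent.Lib.PushUp.RankOne.TwoCoupling
import Cfsg.Agent.Lib.PushUp.RankOne.Pull

/-!
Rank one pushing up: the conclusions about an abstract group sitting at one vertex.
-/

set_option autoImplicit false
set_option linter.unusedSectionVars false
set_option linter.style.haveILetI false

namespace CfsgLib.PushUp.RankOne

open Cfsg
open scoped commutatorElement MatrixGroups
open Matrix

variable {X : Type*} [Group X] [Finite X] {p q : ℕ} {Γ : Type*} [MulAction X Γ]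

namespace Sys

variable (D : Sys p q X Γ) [hp : Fact p.Prime]

theorem CaseOne.smul {x : Γ} {P : Subgroup X} (h : D.CaseOne x P) (g : X) :
    D.CaseOne (g • x) (cj g P) where
  edge := D.smul_I g h.edge
  triv := by
    obtain ⟨u, hu, huQ, hua⟩ := h.triv
    refine ⟨g * u * g⁻¹, conj_mem_cj hu, fun hc => huQ ?_, fun a ha => ?_⟩
    · rw [D.smul_Q, mem_cj] at hc
      simpa [mul_assoc] using hc
    · rw [D.smul_Q, mem_cj] at ha
      rw [D.smul_V, mem_cj]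
      simpa [commutatorElement_def, mul_assoc] using hua _ ha
  class_two := by rw [← cj_commutator, ← cj_commutator, h.class_two, cj, Subgroup.map_bot]
  nonabelian := by
    rw [← cj_commutator, Ne, cj, Subgroup.map_eq_bot_iff_of_injective _ (MulAut.conj g).injective]
    exact h.nonabelian
  exponent z hz := by
    have h1 := h.exponent _ (mem_cj.1 hz)
    have e : ∀ n : ℕ, z ^ n = g * (g⁻¹ * z * g) ^ n * g⁻¹ := fun n => by
      rw [← conj_pow]; simp [mul_assoc]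
    exact ⟨fun h2 => by rw [e, h1.1 h2]; simp, fun h2 => by rw [e, h1.2 h2]; simp⟩

theorem Two.smul {L : ℕ} {v : ℕ → Γ} {Pc : ℕ → Subgroup X} (h : D.Two L v Pc) (g : X) :
    D.Two L (fun i => g • v i) (fun i => cj g (Pc i)) where
  good := h.good
  b_eq := h.b_eq
  four := h.four
  chain :=
    { left := fun i hi => D.smul_I g (h.chain.left i hi)
      right := fun i hi => D.smul_I g (h.chain.right i hi)
      crit := fun i hi hc => h.chain.crit i hi fun a ha => by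
        rw [D.smul_V, D.smul_Q] at hc
        simpa [mem_cj, mul_assoc] using hc (conj_mem_cj (g := g) ha)
      gen := fun i hi hil => by
        rw [D.smul_Gv, cj, cj, cj, ← Subgroup.map_sup, h.chain.gen i hi hil] }

/-- An edge can be moved to any other. -/
theorem exists_move (htrans : ∀ x y : Γ, ∃ g : X, g • x = y) {x y : Γ} {P P' : Subgroup X}
    (h : D.I x P) (h' : D.I y P') : ∃ g : X, g • x = y ∧ cj g P = P' := by
  obtain ⟨g, rfl⟩ := htrans x y
  obtain ⟨m, hm, rfl⟩ := D.conj_I (D.smul_I g h) h'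
  exact ⟨m * g, by rw [mul_smul, D.fixes hm], cj_mul m g P⟩

/-- An abstract group at the vertex `x` with edge `P`. -/
structure Env {G : Type*} [Group G] (x : Γ) (P : Subgroup X) (e : G ≃* ↥(D.Gv x))
    (Q S : Subgroup G) : Prop where
  edge : D.I x P
  memQ : ∀ g, g ∈ Q ↔ (e g : X) ∈ D.Q x
  memS : ∀ g, g ∈ S ↔ (e g : X) ∈ P
  cent : Subgroup.centralizer (Q : Set G) ≤ Q
  pgroup : IsPGroup p S
  normal : Q.Normal

end Sys

/-- Every noncentral chief factor inside `Q` is natural. -/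
def AllNatural {G : Type*} [Group G] (F : Type) [Field F] (Q : Subgroup G) : Prop :=
  ∀ (U W : Subgroup G) [W.Normal], U ≤ Q → IsChiefFactor U W → ¬ ⁅U, (⊤ : Subgroup G)⁆ ≤ W →
    IsNaturalSL2Module F (U.map (QuotientGroup.mk' W)) (⊤ : Subgroup (G ⧸ W))

/-- The first type. -/
def TypeOne {G : Type*} [Group G] (p : ℕ) (Q S : Subgroup G) : Prop :=
  S.lowerCentralSeries 2 = ⊥ ∧ S.lowerCentralSeries 1 ≠ ⊥ ∧
    (p = 2 → Monoid.exponent ↥S = 4) ∧ (p ≠ 2 → Monoid.exponent ↥S = p) ∧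
    (∃ U W : Subgroup G, W ≤ U ∧ U ≤ Q ∧ IsChiefFactor U W ∧ ¬ ⁅U, (⊤ : Subgroup G)⁆ ≤ W ∧
      (∃ k : ℕ, iterCommutator W ⊤ k = ⊥) ∧ (∃ k : ℕ, iterCommutator Q ⊤ k ≤ U))

/-- The second type. -/
def TypeTwo {G : Type*} [Group G] (p : ℕ) (Q S : Subgroup G) : Prop :=
  p = 3 ∧ S.lowerCentralSeries 3 = ⊥ ∧ S.lowerCentralSeries 2 ≠ ⊥ ∧
    Monoid.exponent ↥S = 9 ∧
    (∃ U₁ W₁ U₂ W₂ : Subgroup G, W₁ ≤ U₁ ∧ U₁ ≤ W₂ ∧ W₂ ≤ U₂ ∧ U₂ ≤ Q ∧ IsChiefFactor U₁ W₁ ∧
      IsChiefFactor U₂ W₂ ∧ ¬ ⁅U₁, (⊤ : Subgroup G)⁆ ≤ W₁ ∧ ¬ ⁅U₂, (⊤ : Subgroup G)⁆ ≤ W₂ ∧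
      (∃ k : ℕ, iterCommutator W₁ ⊤ k = ⊥) ∧ (∃ k : ℕ, iterCommutator W₂ ⊤ k ≤ U₁) ∧
      (∃ k : ℕ, iterCommutator Q ⊤ k ≤ U₂))

theorem exponent_eq_prime_pow {G : Type*} [Group G] {p k : ℕ} [hp : Fact p.Prime] {S : Subgroup G}
    (h : ∀ z ∈ S, z ^ p ^ (k + 1) = 1) (hne : ∃ z ∈ S, z ^ p ^ k ≠ 1) :
    Monoid.exponent ↥S = p ^ (k + 1) := by
  have hd : Monoid.exponent ↥S ∣ p ^ (k + 1) :=
    Monoid.exponent_dvd_of_forall_pow_eq_one fun z => Subtype.ext (by simpa using h z z.2)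
  obtain ⟨i, hi, e⟩ := (Nat.dvd_prime_pow hp.out).1 hd
  rcases Nat.lt_or_ge i (k + 1) with hlt | hge
  · exfalso
    obtain ⟨z, hz, hz'⟩ := hne
    refine hz' ?_
    have h1 : (⟨z, hz⟩ : S) ^ p ^ k = 1 := Monoid.exponent_dvd_iff_forall_pow_eq_one.1
      (e ▸ pow_dvd_pow p (by omega) : Monoid.exponent ↥S ∣ p ^ k) ⟨z, hz⟩
    simpa using congrArg Subtype.val h1
  · rw [e, show i = k + 1 by omega]

namespace Sys

variable {D : Sys p q X Γ} [hp : Fact p.Prime] {G : Type*} [Group G] [Finite G]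
  {F : Type} [Field F]

theorem Env.quot {x : Γ} {P : Subgroup X} {e : G ≃* ↥(D.Gv x)} {Q S : Subgroup G} [Q.Normal]
    (hE : D.Env x P e Q S) (RV : D.Rep x (D.V x) ⊥ F)
    (hker : ∀ g : ↥(D.Gv x), RV.ρ g = 1 ↔ (g : X) ∈ D.Q x) :
    Nonempty (G ⧸ Q ≃* SL(2, F)) := by
  set ρ := RV.ρ.comp e.toMonoidHom
  have hk : ρ.ker = Q := by
    ext g
    rw [MonoidHom.mem_ker, hE.memQ]
    exact hker (e g)
  exact ⟨(QuotientGroup.quotientMulEquivOfEq hk.symm).trans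
    (QuotientGroup.quotientKerEquivOfSurjective ρ (RV.surjρ.comp e.surjective))⟩

theorem Env.cent' {x : Γ} {P : Subgroup X} {e : G ≃* ↥(D.Gv x)} {Q S : Subgroup G}
    (hE : D.Env x P e Q S) : ∀ g ∈ D.Gv x, (∀ a ∈ D.Q x, g * a = a * g) → g ∈ D.Q x := by
  intro g hg h
  obtain ⟨g', rfl⟩ := exists_incl e hg
  refine (hE.memQ g').1 (hE.cent fun a ha => ?_)
  exact incl_injective e (by
    rw [_root_.map_mul, _root_.map_mul]
    exact (h _ ((hE.memQ a).1 ha)).symm)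

theorem Env.iter_Q {x : Γ} {P : Subgroup X} {e : G ≃* ↥(D.Gv x)} {Q S : Subgroup G}
    (hE : D.Env x P e Q S) {A N : Subgroup X} (hA : ∀ g ∈ D.Gv x, ∀ a ∈ A, g * a * g⁻¹ ∈ A)
    (hNG : N ≤ D.Gv x) (hnorm : ∀ g ∈ D.Gv x, ∀ n ∈ N, g * n * g⁻¹ ∈ N)
    (hsup : N ⊔ P = D.Gv x) (hN : ∀ n ∈ N, ∀ a ∈ D.Q x, ⁅n, a⁆ ∈ A) :
    ∃ k, iterCommutator Q ⊤ k ≤ A.comap (incl e) := by
  haveI := hE.normal
  haveI := normal_comap e hA
  haveI := normal_comap e hnorm
  have hS : S = P.comap (incl e) := by ext g; exact hE.memS g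
  refine iter_le_of_trivial hE.pgroup
    (fun g hg => (hE.memS g).2 (D.Q_le hE.edge ((hE.memQ g).1 hg))) (N := N.comap (incl e)) ?_ ?_
  · rw [hS]; exact sup_comap e hNG (D.le_G hE.edge) hsup
  · intro n hn a ha
    show incl e ⁅n, a⁆ ∈ A
    rw [map_commutatorElement]
    exact hN _ hn _ ((hE.memQ a).1 ha)

theorem Env.lcs {x : Γ} {P : Subgroup X} {e : G ≃* ↥(D.Gv x)} {Q S : Subgroup G}
    (hE : D.Env x P e Q S) (n : ℕ) :
    S.lowerCentralSeries n = ⊥ ↔ P.lowerCentralSeries n = ⊥ := by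
  have hS : S.map (incl e) = P := by
    ext a
    constructor
    · rintro ⟨g, hg, rfl⟩; exact (hE.memS g).1 hg
    · intro ha
      obtain ⟨g, rfl⟩ := exists_incl e (D.le_G hE.edge ha)
      exact ⟨g, (hE.memS g).2 ha, rfl⟩
  rw [← hS, ← Subgroup.map_lowerCentralSeries,
    Subgroup.map_eq_bot_iff_of_injective _ (incl_injective e)]

/-- The result for `b = 1`. -/
theorem result_one {x : Γ} {P : Subgroup X} {e : G ≃* ↥(D.Gv x)} {Q S : Subgroup G} [Q.Normal]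
    (hE : D.Env x P e Q S) (h : D.CaseOne x P) (RV : D.Rep x (D.V x) ⊥ F) :
    (Nonempty (G ⧸ Q ≃* SL(2, F)) ∧ AllNatural F Q) ∧ TypeOne p Q S := by
  obtain ⟨u, huP, huQ, hua⟩ := h.triv
  let N : Subgroup X :=
    { carrier := {g | g ∈ D.Gv x ∧ ∀ d ∈ D.Q x, ⁅g, d⁆ ∈ D.V x}
      one_mem' := ⟨one_mem _, fun d _ => by simp⟩
      mul_mem' := fun {a b} ha hb => ⟨(D.Gv _).mul_mem ha.1 hb.1, fun d hd => by
        rw [comm_mul_left]
        exact (D.V _).mul_mem (D.normV a ha.1 _ (hb.2 d hd)) (ha.2 d hd)⟩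
      inv_mem' := fun {a} ha => ⟨(D.Gv _).inv_mem ha.1, fun d hd => by
        have e : ⁅a⁻¹, d⁆ = a⁻¹ * ⁅a, d⁆⁻¹ * a⁻¹⁻¹ := by simp [commutatorElement_def, mul_assoc]
        rw [e]
        exact D.normV _ ((D.Gv _).inv_mem ha.1) _ ((D.V _).inv_mem (ha.2 d hd))⟩ }
  have hnorm : ∀ g ∈ D.Gv x, ∀ n ∈ N, g * n * g⁻¹ ∈ N := fun g hg n hn =>
    ⟨(D.Gv _).mul_mem ((D.Gv _).mul_mem hg hn.1) ((D.Gv _).inv_mem hg), fun d hd => by
      have h1 := D.normV g hg _ (hn.2 _ (D.normQ g⁻¹ ((D.Gv _).inv_mem hg) d hd))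
      simpa [commutatorElement_def, mul_assoc] using h1⟩
  have hsup : N ⊔ P = D.Gv x := D.sup_eq_of_normal hE.edge (fun g hg => hg.1) hnorm
    (show u ∈ N from ⟨D.le_G hE.edge huP, hua⟩) huP huQ
  have hker := D.kerV_eq hE.edge hE.cent' RV (D.V x) (D.V_le x) N hnorm hsup (fun n hn => hn.2)
    (fun g hg a ha => by
      have := Subgroup.mem_bot.1 ((RV.kerρ g).1 hg a ha)
      rw [this]; exact one_mem _)
  obtain ⟨k, hk⟩ := hE.iter_Q (N := N) D.normV (fun g hg => hg.1) hnorm hsup (fun n hn => hn.2)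
  set SV := RV.natSection e D.normV (D.V_le_G x) with hSV
  set V' := (D.V x).comap (incl e)
  set C' := (RV.kerSub).comap (incl e)
  have hC1 : iterCommutator C' ⊤ 1 ≤ ⊥ := by
    refine (commutator_comap_le e fun a ha g hg => RV.kerSub_comm ha hg).trans ?_
    rw [MonoidHom.comap_bot, (MonoidHom.ker_eq_bot_iff _).2 (incl_injective e)]
  have hVQ : V' ≤ Q := fun g hg => (hE.memQ g).2 (D.V_le x hg)
  refine ⟨⟨hE.quot RV hker, fun U W _ hUQ hUW hnc => ?_⟩, ?_⟩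
  · have h0 : U ≤ W ⊔ (U ⊓ Q) := le_sup_of_le_right (le_inf le_rfl hUQ)
    have h1 := le_inf_iter hUW hnc hE.normal h0 ⟨k, hk⟩
    refine (SV.cover hUW h1).resolve_right fun h2 => ?_
    have h3 := le_inf_iter hUW hnc SV.normal' h2 ⟨1, hC1⟩
    rw [inf_bot_eq, sup_bot_eq] at h3
    exact hUW.1.not_ge h3
  · refine ⟨(hE.lcs 2).2 h.class_two, fun h1 => h.nonabelian ((hE.lcs 1).1 h1), ?_, ?_,
      V', C', SV.le, hVQ, SV.chief, SV.noncentral, ⟨1, le_bot_iff.1 hC1⟩, ⟨k, hk⟩⟩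
    · intro hp2
      subst hp2
      refine exponent_eq_prime_pow (p := 2) (k := 1) (fun z hz => incl_injective e ?_) ?_
      · rw [_root_.map_pow, _root_.map_one]
        exact (h.exponent _ ((hE.memS z).1 hz)).1 rfl
      · by_contra hc
        push Not at hc
        refine h.nonabelian (commutator_eq_bot_of fun a ha b hb => ?_)
        obtain ⟨a, rfl⟩ := exists_incl e (D.le_G hE.edge ha)
        obtain ⟨b, rfl⟩ := exists_incl e (D.le_G hE.edge hb)
        have haS := (hE.memS a).2 ha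
        have hbS := (hE.memS b).2 hb
        have hinv : ∀ z ∈ S, z⁻¹ = z := fun z hz => inv_eq_of_mul_eq_one_right (by
          have := hc z hz; rwa [pow_one, pow_two] at this)
        have e2 : a * b = b * a := by
          rw [← hinv _ (S.mul_mem haS hbS), _root_.mul_inv_rev, hinv a haS, hinv b hbS]
        rw [← _root_.map_mul, ← _root_.map_mul, e2]
    · intro hp2
      have := exponent_eq_prime_pow (p := p) (k := 0) (S := S) (fun z hz => incl_injective e (by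
        rw [_root_.map_pow, _root_.map_one, zero_add, pow_one]
        exact (h.exponent _ ((hE.memS z).1 hz)).2 hp2)) ?_
      · rwa [zero_add, pow_one] at this
      · obtain ⟨z, hz, hzQ⟩ := D.Q_ne hE.edge
        obtain ⟨g, rfl⟩ := exists_incl e (D.le_G hE.edge hz)
        refine ⟨g, (hE.memS g).2 hz, fun h1 => hzQ ?_⟩
        rw [pow_zero, pow_one] at h1
        rw [h1, _root_.map_one]
        exact one_mem _

/-- The result for `b = 2`. -/
theorem result_two [Fintype F] [CharP F p] {L : ℕ} {v : ℕ → Γ} {Pc : ℕ → Subgroup X}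
    (h : D.Two L v Pc) (h5 : 5 ≤ L) (hF : Fintype.card F = q)
    {e : G ≃* ↥(D.Gv (v 2))} {Q S : Subgroup G} [Q.Normal] (hE : D.Env (v 2) (Pc 2) e Q S) :
    (Nonempty (G ⧸ Q ≃* SL(2, F)) ∧ AllNatural F Q) ∧ TypeTwo p Q S := by
  obtain ⟨RV, RM, hC⟩ := h.exists_coords (F := F) hF
  obtain ⟨N, hNG, hnorm, hsup, hN⟩ := Two.Coords.exists_trivial_Q (h := h)
  have hker := fun g => hC.kerV_eq_Q h5 hE.cent' g
  have hWn : ∀ g ∈ D.Gv (v 2), ∀ w ∈ D.W (v 2), g * w * g⁻¹ ∈ D.W (v 2) :=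
    fun g hg w hw => D.W_conj hg hw
  obtain ⟨k, hk⟩ := hE.iter_Q hWn hNG hnorm hsup hN
  set SV := RV.natSection e D.normV (D.V_le_G _)
  set SM := RM.natSection e hWn h.W_le_G
  set V' := (D.V (v 2)).comap (incl e)
  set C' := (RV.kerSub).comap (incl e)
  set W' := (D.W (v 2)).comap (incl e)
  set F' := (RM.kerSub).comap (incl e)
  have hC1 : iterCommutator C' ⊤ 1 ≤ ⊥ := by
    refine (commutator_comap_le e fun a ha g hg => RV.kerSub_comm ha hg).trans ?_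
    rw [MonoidHom.comap_bot, (MonoidHom.ker_eq_bot_iff _).2 (incl_injective e)]
  have hF1 : iterCommutator F' ⊤ 1 ≤ V' :=
    commutator_comap_le e fun a ha g hg => RM.kerSub_comm ha hg
  have hWQ : W' ≤ Q := fun g hg => (hE.memQ g).2 (h.W_le hg)
  have hVF : V' ≤ F' := fun g hg =>
    ⟨h.V2_le_W hg, RM.kerY _ hg⟩
  refine ⟨⟨hE.quot RV hker, fun U W _ hUQ hUW hnc => ?_⟩, ?_⟩
  · have h0 : U ≤ W ⊔ (U ⊓ Q) := le_sup_of_le_right (le_inf le_rfl hUQ)
    have h1 := le_inf_iter hUW hnc hE.normal h0 ⟨k, hk⟩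
    rcases SM.cover hUW h1 with hnat | h2
    · exact hnat
    have h3 := le_inf_iter hUW hnc SM.normal' h2 ⟨1, hF1⟩
    refine (SV.cover hUW h3).resolve_right fun h4 => ?_
    have h5 := le_inf_iter hUW hnc SV.normal' h4 ⟨1, hC1⟩
    rw [inf_bot_eq, sup_bot_eq] at h5
    exact hUW.1.not_ge h5
  · have hp3 : p = 3 := hC.p_eq_three h5
    obtain ⟨h4, -⟩ := h.series
    refine ⟨hp3, (hE.lcs 3).2 h4, fun h1 => ?_, ?_, V', C', W', F', SV.le, hVF, SM.le, hWQ,
      SV.chief, SM.chief, SV.noncentral, SM.noncentral, ⟨1, le_bot_iff.1 hC1⟩, ⟨1, hF1⟩, ⟨k, hk⟩⟩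
    · obtain ⟨x, hx, y, hy, hne⟩ := h.exists_diag (by omega)
      refine hne ?_
      have hxP := (h.crit (i := 1) (by have := h.four; omega)).mem_last hx
      have hyP := (h.crit (i := 2) h.four).mem_first hy
      have h2 : ⁅⁅y, x⁆, x⁆ ∈ (Pc 2).lowerCentralSeries 2 := Subgroup.commutator_mem_commutator
        (Subgroup.commutator_mem_commutator hyP hxP) hxP
      rw [(hE.lcs 2).1 h1, Subgroup.mem_bot] at h2
      rw [h2]; exact one_mem _
    · subst hp3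
      refine exponent_eq_prime_pow (p := 3) (k := 1) (fun z hz => incl_injective e ?_) ?_
      · rw [_root_.map_pow, _root_.map_one]
        exact h.pow_nine rfl _ ((hE.memS z).1 hz)
      · obtain ⟨z, hz, hne⟩ := h.exists_pow_three_ne (by omega)
        obtain ⟨g, rfl⟩ := exists_incl e (D.le_G hE.edge hz)
        refine ⟨g, (hE.memS g).2 hz, fun h1 => hne ?_⟩
        rw [← _root_.map_pow]
        rw [pow_one] at h1
        rw [h1, _root_.map_one]

end Sys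

end CfsgLib.PushUp.RankOne
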