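import Cfsg.Agent.Lib.PushUp.RankOne.Rep

/-!
Rank one pushing up: distances, the parameter `b`, critical pairs and the natural module `V`.
-/

set_option autoImplicit false
set_option linter.style.haveILetI false

namespace CfsgLib.PushUp.RankOne

open scoped commutatorElement MatrixGroups
open CfsgLib.ClassicalLinear (upS upperSL upS_coe)

theorem exists_mul_of_mem_sup {X : Type*} [Group X] {H N : Subgroup X}
    (hn : H ≤ Subgroup.normalizer (N : Set X)) {z : X} (hz : z ∈ H ⊔ N) :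
    ∃ h ∈ H, ∃ n ∈ N, z = h * n := by
  have := Subgroup.coe_mul_of_left_le_normalizer_right H N hn
  have hz' : z ∈ ((H ⊔ N : Subgroup X) : Set X) := hz
  rw [this] at hz'
  obtain ⟨h, hh, n, hn', rfl⟩ := hz'
  exact ⟨h, hh, n, hn', rfl⟩

theorem le_normalizer_of_conj {X : Type*} [Group X] {H N : Subgroup X} [Finite X]
    (h : ∀ g ∈ H, ∀ n ∈ N, g * n * g⁻¹ ∈ N) : H ≤ Subgroup.normalizer (N : Set X) := fun g hg =>
  Subgroup.mem_normalizer_fintype (fun n hn => h g hg n hn)

theorem commutator_eq_one_of {X : Type*} [Group X] {a b : X} (h : a * b = b * a) : ⁅a, b⁆ = 1 :=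
  commutatorElement_eq_one_iff_mul_comm.2 h

variable {X : Type*} [Group X] {p q : ℕ} {Γ : Type*} [MulAction X Γ]

namespace Sys

variable (D : Sys p q X Γ) {x y z : Γ} {P P' : Subgroup X}

/-- Two vertices share an edge. -/
def Adj (x y : Γ) : Prop := ∃ P, D.I x P ∧ D.I y P

/-- The distance is at most `k`. -/
def Near : ℕ → Γ → Γ → Prop
  | 0, x, y => x = y
  | k + 1, x, y => ∃ z, Near k x z ∧ D.Adj z y

theorem adj_refl (x : Γ) : D.Adj x x := (D.exists_I x).imp fun _ h => ⟨h, h⟩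

theorem adj_symm (h : D.Adj x y) : D.Adj y x := h.imp fun _ h => h.symm

theorem near_succ {k : ℕ} (h : D.Near k x y) : D.Near (k + 1) x y := ⟨y, h, D.adj_refl y⟩

theorem near_mono {k l : ℕ} (hkl : k ≤ l) (h : D.Near k x y) : D.Near l x y := by
  induction hkl with
  | refl => exact h
  | step _ ih => exact D.near_succ ih

theorem near_add {k l : ℕ} (h : D.Near k x y) (h' : D.Near l y z) : D.Near (k + l) x z := by
  induction l generalizing z with
  | zero => cases h'; exact h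
  | succ l ih => obtain ⟨w, hw, hwz⟩ := h'; exact ⟨w, ih hw, hwz⟩

theorem near_one (h : D.I x P) (h' : D.I y P) : D.Near 1 x y := ⟨x, rfl, P, h, h'⟩

theorem near_symm {k : ℕ} (h : D.Near k x y) : D.Near k y x := by
  induction k generalizing y with
  | zero => exact h.symm
  | succ k ih =>
    obtain ⟨w, hw, hwy⟩ := h
    have h1 : D.Near (1 + k) y x := D.near_add ⟨y, rfl, D.adj_symm hwy⟩ (ih hw)
    rwa [add_comm] at h1

theorem smul_adj (g : X) (h : D.Adj x y) : D.Adj (g • x) (g • y) := by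
  obtain ⟨P, h1, h2⟩ := h; exact ⟨_, D.smul_I g h1, D.smul_I g h2⟩

theorem smul_near (g : X) {k : ℕ} (h : D.Near k x y) : D.Near k (g • x) (g • y) := by
  induction k generalizing y with
  | zero => exact congrArg (g • ·) h
  | succ k ih => obtain ⟨w, hw, hwy⟩ := h; exact ⟨_, ih hw, D.smul_adj g hwy⟩

variable [Finite X]

theorem exists_far : ∃ k, ∃ x y : Γ, D.Near k x y ∧ ¬ D.V x ≤ D.Q y := by
  classical
  by_contra hc
  push Not at hc
  set x := D.base
  obtain ⟨P, hP⟩ := D.exists_I x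
  -- the subgroup generated by the reachable `V`
  set R : Set Γ := {y | ∃ k, D.Near k x y} with hR
  set N : Subgroup X := ⨆ y ∈ R, D.V y with hN
  have hNQ : N ≤ D.Q x := iSup₂_le fun y ⟨k, hk⟩ => hc k y x (D.near_symm hk)
  have hinv : ∀ g : X, (∃ k, D.Near k x (g • x)) → ∀ t ∈ N, g * t * g⁻¹ ∈ N := by
    rintro g ⟨k, hk⟩ t ht
    have h1 : cj g N ≤ N := by
      rw [hN, cj, Subgroup.map_iSup]
      refine iSup_le fun y => ?_
      rw [Subgroup.map_iSup]
      refine iSup_le fun ⟨l, hl⟩ => ?_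
      refine le_iSup₂_of_le (g • y) ⟨k + l, D.near_add hk (D.smul_near g hl)⟩ ?_
      rw [D.smul_V]; exact le_rfl
    exact h1 (conj_mem_cj ht)
  have hbot : N = ⊥ := D.core hP N (hNQ.trans (D.Q_le hP))
    (fun g hg => hinv g ⟨0, (D.fixes hg).symm⟩)
    (fun g hg => hinv g ⟨1, D.near_one hP (by have := D.smul_I g hP; rwa [hg] at this)⟩)
  exact D.V_ne_bot x (le_bot_iff.1 (hbot ▸ le_iSup₂_of_le x ⟨0, rfl⟩ le_rfl))

open scoped Classical in
/-- The least distance of vertices with `V x ≰ Q y`. -/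
noncomputable def b : ℕ := Nat.find D.exists_far

theorem exists_crit : ∃ x y, D.Near D.b x y ∧ ¬ D.V x ≤ D.Q y := by
  classical exact Nat.find_spec D.exists_far

theorem le_Q {k : ℕ} (hk : k < D.b) (h : D.Near k x y) : D.V x ≤ D.Q y := by
  classical
  by_contra hc
  exact Nat.find_min D.exists_far hk ⟨x, y, h, hc⟩

theorem one_le_b : 1 ≤ D.b := by
  by_contra hc
  obtain ⟨x, y, h, hV⟩ := D.exists_crit
  rw [Nat.lt_one_iff.1 (not_le.1 hc)] at h
  cases h; exact hV (D.V_le x)

theorem commute_of_near {k : ℕ} (hk : k < D.b) (h : D.Near k x y) {u v : X} (hu : u ∈ D.V x)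
    (hv : v ∈ D.V y) : u * v = v * u :=
  D.comm u (D.le_Q hk h hu) v hv

theorem le_edge {k : ℕ} (hk : k < D.b) (h : D.Near k x z) (hP : D.I z P) : D.V x ≤ P :=
  (D.le_Q hk h).trans (D.Q_le hP)

variable [hp : Fact p.Prime]

omit hp in
theorem IP_le_normalizer (h : D.I x P) {H : Subgroup X} (hH : H ≤ P) :
    H ≤ Subgroup.normalizer (D.Q x : Set X) :=
  le_normalizer_of_conj fun g hg => D.normQ g (D.le_G h (hH hg))

omit hp in
theorem V_le_normalizer (h : D.I x P) {H : Subgroup X} (hH : H ≤ P) :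
    H ≤ Subgroup.normalizer (D.V x : Set X) :=
  le_normalizer_of_conj fun g hg => D.normV g (D.le_G h (hH hg))

/-- The data of a critical pair: `P` is the first edge, `P'` the last. -/
structure Crit (x y : Γ) (P P' : Subgroup X) : Prop where
  first : D.I x P
  last : D.I y P'
  mem_first : D.V y ≤ P
  mem_last : D.V x ≤ P'
  not_le : ¬ D.V x ≤ D.Q y

omit [Finite X] hp in
theorem Crit.not_le' {x y : Γ} (h : D.Crit x y P P') : ¬ D.V y ≤ D.Q x := fun hc => by
  refine h.not_le fun a ha => D.cent h.last a (h.mem_last ha) fun v hv => ?_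
  exact (D.comm v (hc hv) a ha).symm

theorem Crit.symm {x y : Γ} (h : D.Crit x y P P') : D.Crit y x P' P :=
  ⟨h.last, h.first, h.mem_last, h.mem_first, h.not_le'⟩

omit [Finite X] hp in
theorem Crit.smul {x y : Γ} (h : D.Crit x y P P') (g : X) :
    D.Crit (g • x) (g • y) (cj g P) (cj g P') where
  first := D.smul_I g h.first
  last := D.smul_I g h.last
  mem_first := by rw [D.smul_V]; exact cj_mono g h.mem_first
  mem_last := by rw [D.smul_V]; exact cj_mono g h.mem_last
  not_le hc := h.not_le fun a ha => by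
    rw [D.smul_V, D.smul_Q] at hc
    simpa [mem_cj, mul_assoc] using hc (conj_mem_cj (g := g) ha)

/-- The properties of the natural module. -/
structure Good (x : Γ) : Prop where
  card_V : ∀ P, D.I x P → Nat.card (D.V x) =
    q * Nat.card ↥(D.V x ⊓ Subgroup.centralizer (P : Set X))
  fix_eq : ∀ P, D.I x P → ∀ g ∈ P, g ∉ D.Q x → ∀ v ∈ D.V x, g * v = v * g →
    v ∈ Subgroup.centralizer (P : Set X)
  not_central : ∀ P, D.I x P → ¬ ⁅D.V x, P⁆ ≤ Subgroup.centralizer (D.Gv x : Set X)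
  comm_le : ∀ P, D.I x P → ⁅D.V x, P⁆ ≤ D.V x ⊓ Subgroup.centralizer (P : Set X)

variable (F : Type) [Field F] [Fintype F] (hF : Fintype.card F = q) [CharP F p]
include hF

/-- One of the two members of a critical pair has the other as an offender. -/
theorem Crit.rep_of_ge {x y : Γ} (h : D.Crit x y P P')
    (hge : Nat.card ↥(D.V y ⊓ D.Q x) * Nat.card (D.V x) ≤
      Nat.card (D.V y) * Nat.card ↥(D.V x ⊓ D.Q y)) :
    Nonempty (D.Rep x (D.V x) ⊥ F) ∧
      Nat.card (D.V x) ≤ q * Nat.card ↥(D.V x ⊓ Subgroup.centralizer (P : Set X)) := by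
  have hn : D.V y ≤ Subgroup.normalizer (D.Q x : Set X) := D.IP_le_normalizer h.first h.mem_first
  have hcard := CfsgLib.ThompsonJ.card_sup_mul_card_inf (D.V y) (D.Q x) hn
  set B := D.V y ⊔ D.Q x
  have hBP : B ≤ P := sup_le h.mem_first (D.Q_le h.first)
  have hVxP : ∀ a ∈ D.V y, ∀ w ∈ D.V x, ⁅a, w⁆ ∈ D.V x ⊓ D.V y := fun a ha w hw => by
    refine ⟨?_, ?_⟩
    · exact (D.V x).mul_mem (D.normV a (D.le_G h.first (h.mem_first ha)) w hw) ((D.V x).inv_mem hw)
    · have := D.normV w (D.le_G h.last (h.mem_last hw)) a⁻¹ ((D.V y).inv_mem ha)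
      simpa [commutatorElement_def, mul_assoc] using (D.V y).mul_mem ha this
  have hB1 : ∀ a ∈ B, ∃ u ∈ D.V y, ∀ w ∈ D.V x, ⁅a, w⁆ = ⁅u, w⁆ := by
    intro a ha
    obtain ⟨u, hu, c, hc, rfl⟩ := exists_mul_of_mem_sup hn ha
    refine ⟨u, hu, fun w hw => ?_⟩
    have := D.comm c hc w hw
    rw [commutatorElement_def, commutatorElement_def, mul_assoc u c w, this, ← mul_assoc u w c]
    group
  set C := D.V x ⊓ D.Q y with hC
  have hCB : ∀ c ∈ C, ∀ a ∈ B, ⁅a, c⁆ ∈ (⊥ : Subgroup X) := by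
    intro c hc a ha
    obtain ⟨u, hu, e⟩ := hB1 a ha
    rw [Subgroup.mem_bot, e c hc.1, commutator_eq_one_of]
    exact (D.comm c hc.2 u hu).symm
  have hoff : Nat.card (D.V x) * Nat.card (D.Q x) ≤ Nat.card B * Nat.card C := by
    refine Nat.le_of_mul_le_mul_right (c := Nat.card ↥(D.V y ⊓ D.Q x)) ?_ Nat.card_pos
    calc Nat.card (D.V x) * Nat.card (D.Q x) * Nat.card ↥(D.V y ⊓ D.Q x)
        = Nat.card (D.Q x) * (Nat.card ↥(D.V y ⊓ D.Q x) * Nat.card (D.V x)) := by ring
      _ ≤ Nat.card (D.Q x) * (Nat.card (D.V y) * Nat.card C) := Nat.mul_le_mul_left _ hge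
      _ = Nat.card B * Nat.card C * Nat.card ↥(D.V y ⊓ D.Q x) := by
        rw [mul_right_comm (Nat.card B), hcard]; ring
  obtain ⟨hBeq, hrep⟩ := D.exists_rep F hF h.first (W := D.V x) bot_le D.normV
    (fun g _ w hw => by rw [Subgroup.mem_bot] at hw ⊢; simp [hw])
    (fun a ha b hb => Subgroup.mem_bot.2 (commutator_eq_one_of (D.commV ha hb)))
    (fun w hw => Subgroup.mem_bot.2 (D.powV w hw))
    (fun g hg hgc => D.cent h.first g hg fun v hv =>
      commutatorElement_eq_one_iff_mul_comm.1 (Subgroup.mem_bot.1 (hgc v hv)))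
    (fun g hg w hw => Subgroup.mem_bot.2 (commutator_eq_one_of (D.comm g hg w hw)))
    (fun g hg hgc => (D.M_spec h.first).2.2.2.2 g hg fun v hv =>
      commutatorElement_eq_one_iff_mul_comm.1 (Subgroup.mem_bot.1 (hgc v hv)))
    B hBP le_sup_right
    (by
      obtain ⟨u, hu, huQ⟩ := SetLike.not_le_iff_exists.1 h.not_le'
      exact ⟨u, Subgroup.mem_sup_left hu, huQ⟩)
    (fun a ha => by
      obtain ⟨u, hu, c, hc, rfl⟩ := exists_mul_of_mem_sup hn ha
      -- modulo `Q` the exponent is `p`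
      have key : ∀ n : ℕ, ∃ c' ∈ D.Q x, (u * c) ^ n = u ^ n * c' := by
        intro n
        induction n with
        | zero => exact ⟨1, one_mem _, by simp⟩
        | succ n ih =>
          obtain ⟨c', hc', e⟩ := ih
          refine ⟨(u⁻¹ * c' * u) * c, (D.Q x).mul_mem ?_ hc, by rw [pow_succ, e, pow_succ]; group⟩
          have := D.normQ u⁻¹ ((D.Gv x).inv_mem (D.le_G h.first (h.mem_first hu))) c' hc'
          simpa using this
      obtain ⟨c', hc', e⟩ := key p
      rw [e, D.powV u hu, one_mul]; exact hc')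
    (fun a ha b hb w hw => by
      obtain ⟨u, hu, e⟩ := hB1 a ha
      obtain ⟨v, hv, e'⟩ := hB1 b hb
      rw [e w hw, e' _ (hVxP u hu w hw).1, Subgroup.mem_bot]
      exact commutator_eq_one_of (D.commV hv (hVxP u hu w hw).2))
    C inf_le_left hCB hoff
  refine ⟨hrep, ?_⟩
  have hle : C ≤ D.V x ⊓ Subgroup.centralizer (P : Set X) := fun c hc => by
    refine ⟨hc.1, fun a ha => commutatorElement_eq_one_iff_mul_comm.1 ?_⟩
    exact Subgroup.mem_bot.1 (hCB c hc a (hBeq ▸ ha))
  rw [hBeq, D.card h.first] at hoff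
  refine le_trans ?_ (Nat.mul_le_mul_left q (Subgroup.card_le_of_le hle))
  refine Nat.le_of_mul_le_mul_right ?_ (Nat.card_pos (α := D.Q x))
  calc _ ≤ q * Nat.card (D.Q x) * Nat.card C := hoff
    _ = _ := by ring

end Sys

end CfsgLib.PushUp.RankOne
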