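import Cfsg.Agent.Lib.PushUp.RankOne.Setup
import Cfsg.Agent.Lib.PushUp.RankOne.Final
import Cfsg.Agent.Lib.PushUp.RankOne.Large

/-!
Rank one pushing up: the configuration attached to a group, inside its symmetric group.
-/

set_option autoImplicit false
set_option linter.unusedSectionVars false
set_option linter.style.haveILetI false

namespace CfsgLib.PushUp.RankOne

open Cfsg

variable {G : Type*} [Group G]

/-- The regular representation. -/
def regRep (G : Type*) [Group G] : G →* Equiv.Perm G := MulAction.toPermHom G G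

theorem regRep_injective : Function.Injective (regRep G) := fun a b h => by
  have := Equiv.ext_iff.1 h 1
  simpa [regRep] using this

/-- Automorphisms of a subgroup are induced in the symmetric group. -/
theorem exists_perm_aut (S : Subgroup G) (α : ↥S ≃* ↥S) :
    ∃ σ : Equiv.Perm G, ∀ s : ↥S, σ * regRep G (s : G) * σ⁻¹ = regRep G ((α s : ↥S) : G) := by
  let r : G → G := fun x => (Quotient.out (Quotient.mk (QuotientGroup.rightRel S) x))
  have hr : ∀ x, x * (r x)⁻¹ ∈ S := fun x =>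
    QuotientGroup.rightRel_apply.1 (Quotient.mk_out (s := QuotientGroup.rightRel S) x)
  have hrs : ∀ (s : ↥S) x, r ((s : G) * x) = r x := fun s x => by
    show Quotient.out _ = Quotient.out _
    congr 1
    refine Quotient.sound (QuotientGroup.rightRel_apply.2 ?_)
    simpa [mul_assoc] using S.inv_mem s.2
  let mk : (↥S ≃* ↥S) → G → G := fun β x => (β ⟨x * (r x)⁻¹, hr x⟩ : G) * r x
  have hsr : ∀ (s : ↥S) x, r ((s : G) * r x) = r x := fun s x => by
    rw [hrs]
    show Quotient.out _ = Quotient.out _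
    congr 1
    exact Quotient.out_eq _
  have hcomp : ∀ β γ x, mk β (mk γ x) = mk (γ.trans β) x := by
    intro β γ x
    have e1 : r (mk γ x) = r x := hsr _ x
    show (β ⟨mk γ x * (r (mk γ x))⁻¹, _⟩ : G) * r (mk γ x) = _
    simp only [e1]
    congr 2
    show β _ = β (γ _)
    congr 1
    exact Subtype.ext (mul_inv_cancel_right _ _)
  have hone : ∀ x, mk (MulEquiv.refl _) x = x := fun x => by simp [mk]
  let σ : Equiv.Perm G :=
    { toFun := mk α
      invFun := mk α.symm
      left_inv := fun x => by rw [hcomp, MulEquiv.self_trans_symm]; exact hone x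
      right_inv := fun x => by rw [hcomp, MulEquiv.symm_trans_self]; exact hone x }
  refine ⟨σ, fun s => ?_⟩
  rw [mul_inv_eq_iff_eq_mul]
  refine Equiv.ext fun x => ?_
  show mk α ((s : G) * x) = (α s : G) * mk α x
  show (α ⟨(s : G) * x * (r ((s : G) * x))⁻¹, _⟩ : G) * r ((s : G) * x) =
    (α s : G) * ((α ⟨x * (r x)⁻¹, hr x⟩ : G) * r x)
  rw [← mul_assoc, ← Subgroup.coe_mul, ← map_mul]
  simp only [hrs]
  congr 3
  exact Subtype.ext (mul_assoc _ _ _)

variable [Finite G] {p q : ℕ} {S Q V M : Subgroup G}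

theorem cj_map (σ : Equiv.Perm G) (H : Subgroup G) :
    cj σ (H.map (regRep G)) = H.map ((MulAut.conj σ).toMonoidHom.comp (regRep G)) :=
  Subgroup.map_map _ _ _

theorem cj_regRep_normal {H : Subgroup G} (hH : H.Normal) (a : G) :
    cj (regRep G a) (H.map (regRep G)) = H.map (regRep G) := by
  refine cj_eq_self fun z hz => ?_
  obtain ⟨h, hh, rfl⟩ := hz
  exact ⟨a * h * a⁻¹, hH.conj_mem h hh a, by simp⟩

/-- The vertices. -/
abbrev Vertex (G : Type*) [Group G] := Equiv.Perm G ⧸ (regRep G).range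

theorem cj_out {H : Subgroup G} (hH : H.Normal) (σ : Equiv.Perm G) :
    cj (QuotientGroup.mk σ : Vertex G).out (H.map (regRep G)) = cj σ (H.map (regRep G)) := by
  obtain ⟨⟨_, a, rfl⟩, e⟩ := QuotientGroup.mk_out_eq_mul (regRep G).range σ
  rw [e, cj_mul, cj_regRep_normal hH]

theorem stabilizer_base :
    MulAction.stabilizer (Equiv.Perm G) (QuotientGroup.mk 1 : Vertex G) = (regRep G).range :=
  MulAction.stabilizer_quotient _

theorem stabilizer_mk (σ : Equiv.Perm G) :
    MulAction.stabilizer (Equiv.Perm G) (QuotientGroup.mk σ : Vertex G) =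
      (⊤ : Subgroup G).map ((MulAut.conj σ).toMonoidHom.comp (regRep G)) := by
  have e : (QuotientGroup.mk σ : Vertex G) = σ • (QuotientGroup.mk 1 : Vertex G) := by
    rw [MulAction.Quotient.smul_mk, smul_eq_mul, mul_one]
  refine ((congrArg (MulAction.stabilizer (Equiv.Perm G)) e).trans
    (MulAction.stabilizer_smul_eq_stabilizer_map_conj σ _)).trans ?_
  rw [stabilizer_base, MonoidHom.range_eq_map]
  exact Subgroup.map_map _ _ _

/-- The edges at a vertex. -/
def edgeRel (S : Subgroup G) (x : Vertex G) (P : Subgroup (Equiv.Perm G)) : Prop :=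
  ∃ σ : Equiv.Perm G, QuotientGroup.mk σ = x ∧ P = cj σ (S.map (regRep G))

/-- The configuration. -/
noncomputable def sys [hp : Fact p.Prime] (hB : Base G p q S Q V M) :
    Sys p q (Equiv.Perm G) (Vertex G) where
  Gv x := MulAction.stabilizer (Equiv.Perm G) x
  Q x := cj x.out (Q.map (regRep G))
  V x := cj x.out (V.map (regRep G))
  I := edgeRel S
  base := QuotientGroup.mk 1
  one_lt_q := hB.one_lt
  smul_I g x P := by
    rintro ⟨σ, rfl, rfl⟩
    exact ⟨g * σ, by rw [MulAction.Quotient.smul_mk, smul_eq_mul], (cj_mul g σ _).symm⟩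
  smul_Gv g x := MulAction.stabilizer_smul_eq_stabilizer_map_conj g x
  smul_Q g x := by
    induction x using QuotientGroup.induction_on with | _ σ =>
    rw [MulAction.Quotient.smul_mk, smul_eq_mul, cj_out hB.normQ, cj_out hB.normQ, cj_mul]
  smul_V g x := by
    induction x using QuotientGroup.induction_on with | _ σ =>
    rw [MulAction.Quotient.smul_mk, smul_eq_mul, cj_out hB.normV, cj_out hB.normV, cj_mul]
  fixes hg := hg
  exists_I x := by
    induction x using QuotientGroup.induction_on with | _ σ => exact ⟨_, σ, rfl, rfl⟩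
  conj_I := by
    rintro x P P' ⟨σ, rfl, rfl⟩ ⟨τ, hτ, rfl⟩
    obtain ⟨a, ha⟩ : σ⁻¹ * τ ∈ (regRep G).range := QuotientGroup.eq.1 hτ.symm
    refine ⟨σ * regRep G a * σ⁻¹, ?_, ?_⟩
    · rw [stabilizer_mk]; exact ⟨a, trivial, by simp⟩
    · rw [← cj_mul, ha]; simp [mul_assoc]
  le_G := by
    rintro x P ⟨σ, rfl, rfl⟩
    rw [stabilizer_mk, cj_map]
    exact Subgroup.map_mono le_top
  Q_le := by
    rintro x P ⟨σ, rfl, rfl⟩
    rw [cj_out hB.normQ]
    exact cj_mono σ (Subgroup.map_mono hB.Q_le)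
  V_le x := cj_mono _ (Subgroup.map_mono hB.V_le)
  normQ {x} g hg a ha := by
    induction x using QuotientGroup.induction_on with | _ σ =>
    rw [stabilizer_mk] at hg
    rw [cj_out hB.normQ, cj_map] at ha ⊢
    obtain ⟨g, -, rfl⟩ := hg
    obtain ⟨a, ha, rfl⟩ := ha
    exact ⟨g * a * g⁻¹, hB.normQ.conj_mem a ha g, by rw [map_mul, map_mul, map_inv]⟩
  normV {x} g hg a ha := by
    induction x using QuotientGroup.induction_on with | _ σ =>
    rw [stabilizer_mk] at hg
    rw [cj_out hB.normV, cj_map] at ha ⊢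
    obtain ⟨g, -, rfl⟩ := hg
    obtain ⟨a, ha, rfl⟩ := ha
    exact ⟨g * a * g⁻¹, hB.normV.conj_mem a ha g, by rw [map_mul, map_mul, map_inv]⟩
  comm {x} a ha v hv := by
    induction x using QuotientGroup.induction_on with | _ σ =>
    rw [cj_out hB.normQ, cj_map] at ha
    rw [cj_out hB.normV, cj_map] at hv
    obtain ⟨a, ha, rfl⟩ := ha
    obtain ⟨v, hv, rfl⟩ := hv
    rw [← map_mul, ← map_mul, hB.comm a ha v hv]
  powV {x} v hv := by
    induction x using QuotientGroup.induction_on with | _ σ =>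
    rw [cj_out hB.normV, cj_map] at hv
    obtain ⟨v, hv, rfl⟩ := hv
    rw [← map_pow, hB.powV v hv, map_one]
  pgroup := by
    rintro x P ⟨σ, rfl, rfl⟩
    exact (hB.pgroup.map _).map _
  exists_ge {x} H hH hHp := by
    induction x using QuotientGroup.induction_on with | _ σ =>
    rw [stabilizer_mk] at hH
    set φ := (MulAut.conj σ).toMonoidHom.comp (regRep G)
    have hφ : Function.Injective φ := (MulAut.conj σ).injective.comp regRep_injective
    obtain ⟨g, hg⟩ := hB.conj (H.comap φ) (hHp.comap_of_injective φ hφ)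
    refine ⟨cj (σ * regRep G g) (S.map (regRep G)), ⟨_, ?_, rfl⟩, fun z hz => ?_⟩
    · exact QuotientGroup.eq.2 ⟨g⁻¹, by simp⟩
    · obtain ⟨a, -, rfl⟩ := hH hz
      obtain ⟨s, hs, e⟩ := hg (Subgroup.mem_comap.2 hz : a ∈ H.comap φ)
      have e' : a = g * s * g⁻¹ := e.symm
      refine ⟨regRep G s, ⟨s, hs, rfl⟩, ?_⟩
      show σ * regRep G g * regRep G s * (σ * regRep G g)⁻¹ = σ * regRep G a * σ⁻¹
      rw [e', map_mul, map_mul, map_inv]
      simp [mul_assoc]
  card := by
    rintro x P ⟨σ, rfl, rfl⟩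
    rw [cj_out hB.normQ, card_cj, card_cj, Subgroup.card_map_of_injective regRep_injective,
      Subgroup.card_map_of_injective regRep_injective]
    exact hB.card
  cent := by
    rintro x P ⟨σ, rfl, rfl⟩ g hg h
    rw [cj_out hB.normQ, cj_map]
    rw [cj_map] at hg
    rw [cj_out hB.normV, cj_map] at h
    obtain ⟨g, hgS, rfl⟩ := hg
    refine ⟨g, hB.cent g hgS fun v hv => ?_, rfl⟩
    have hφ : Function.Injective ((MulAut.conj σ).toMonoidHom.comp (regRep G)) :=
      (MulAut.conj σ).injective.comp regRep_injective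
    refine hφ ?_
    rw [map_mul, map_mul]
    exact h _ ⟨v, hv, rfl⟩
  center_le := by
    rintro x P ⟨σ, rfl, rfl⟩ z hz hc hzp
    rw [cj_out hB.normV, cj_map]
    rw [cj_map] at hz hc
    obtain ⟨z, hzS, rfl⟩ := hz
    have hφ : Function.Injective ((MulAut.conj σ).toMonoidHom.comp (regRep G)) :=
      (MulAut.conj σ).injective.comp regRep_injective
    refine ⟨z, hB.center_le z hzS (fun g hg => hφ ?_) (hφ (by rw [map_pow, hzp, map_one])), rfl⟩
    rw [map_mul, map_mul]
    exact hc _ ⟨g, hg, rfl⟩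
  max := by
    rintro x P ⟨σ, rfl, rfl⟩
    set φ := (MulAut.conj σ).toMonoidHom.comp (regRep G)
    have hφ : Function.Injective φ := (MulAut.conj σ).injective.comp regRep_injective
    rw [stabilizer_mk, cj_map, cj_out hB.normQ, cj_out hB.normV, cj_map, cj_map]
    refine ⟨M.map φ, Subgroup.map_mono hB.le_M,
      (Subgroup.map_lt_map_iff_of_injective hφ).2 (lt_top_iff_ne_top.2 hB.M_ne), ?_, ?_, ?_⟩
    · intro H hSH hH hne
      have e : (H.comap φ).map φ = H := Subgroup.map_comap_eq_self (hH.trans (by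
        rw [MonoidHom.range_eq_map]))
      rw [← e]
      refine Subgroup.map_mono (hB.uniq _ (fun s hs => hSH ⟨s, hs, rfl⟩) fun htop => hne ?_)
      rw [← e, htop]
    · rintro _ ⟨g, -, rfl⟩ _ ⟨z, hz, rfl⟩ hzQ h
      refine ⟨g, hB.ti g z hz (fun hc => hzQ ⟨z, hc, rfl⟩) ?_, rfl⟩
      obtain ⟨s, hs, e⟩ := h
      rw [← map_inv, ← map_mul, ← map_mul] at e
      rwa [← hφ e]
    · rintro _ ⟨g, -, rfl⟩ h
      exact ⟨g, hB.centV g fun v hv => hφ (by
        rw [map_mul, map_mul]; exact h _ ⟨v, hv, rfl⟩), rfl⟩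
  core := by
    rintro x P ⟨σ, rfl, rfl⟩ T hT hnorm haut
    set φ := (MulAut.conj σ).toMonoidHom.comp (regRep G) with hφdef
    have hφ : Function.Injective φ := (MulAut.conj σ).injective.comp regRep_injective
    rw [cj_map] at hT haut
    rw [stabilizer_mk] at hnorm
    have e : (T.comap φ).map φ = T := Subgroup.map_comap_eq_self (hT.trans (by
      rw [MonoidHom.range_eq_map]; exact Subgroup.map_mono le_top))
    rw [← e, hB.core (T.comap φ) (fun a ha => ?_) ⟨fun a ha g => ?_⟩ (fun α => ?_), Subgroup.map_bot]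
    · obtain ⟨s, hs, e⟩ := hT ha
      rwa [← hφ e]
    · show φ (g * a * g⁻¹) ∈ T
      rw [map_mul, map_mul, map_inv]
      exact hnorm _ ⟨g, trivial, rfl⟩ _ ha
    · obtain ⟨τ, hτ⟩ := exists_perm_aut S α
      set g := σ * τ * σ⁻¹ with hg
      have key : ∀ s : ↥S, g * φ (s : G) * g⁻¹ = φ ((α s : ↥S) : G) := fun s => by
        show σ * τ * σ⁻¹ * (σ * regRep G (s : G) * σ⁻¹) * (σ * τ * σ⁻¹)⁻¹ =
          σ * regRep G ((α s : ↥S) : G) * σ⁻¹
        rw [← hτ s]; simp [mul_assoc]
      have hgP : cj g (S.map φ) = S.map φ := cj_eq_self fun a ha => by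
        obtain ⟨s, hs, rfl⟩ := ha
        exact ⟨_, (α ⟨s, hs⟩).2, (key ⟨s, hs⟩).symm⟩
      refine Subgroup.eq_of_le_of_card_ge ?_
        (Subgroup.card_map_of_injective α.injective).ge
      rintro _ ⟨s, hs, rfl⟩
      show φ ((α s : ↥S) : G) ∈ T
      rw [← key s]
      exact haut g hgP _ hs

theorem sys_trans (x y : Vertex G) : ∃ g : Equiv.Perm G, g • x = y :=
  MulAction.exists_smul_eq (Equiv.Perm G) x y

/-- The main theorem on rank one pushing up. -/
theorem main [hp : Fact p.Prime] [Q.Normal] {n : ℕ} (hB : Base G p (p ^ n) S Q V M)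
    (hE₁ : Subgroup.centralizer (Q : Set G) ≤ Q) (F : Type) [Field F] [Fintype F]
    (hF : Fintype.card F = p ^ n) :
    (Nonempty (G ⧸ Q ≃* Matrix.SpecialLinearGroup (Fin 2) F) ∧ AllNatural F Q) ∧
      (TypeOne p Q S ∨ TypeTwo p Q S) := by
  haveI : CharP F p := by
    obtain ⟨c, hc⟩ := CharP.exists F
    haveI := hc
    obtain ⟨m, hcp, hm⟩ := FiniteField.card F c
    have h1 : c ∣ p := hcp.dvd_of_dvd_pow (hF ▸ hm ▸ dvd_pow_self c m.pos.ne')
    rwa [(Nat.prime_dvd_prime_iff_eq hcp hp.out).1 h1] at hc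
  set D := sys hB
  have htrans : ∀ x y : Vertex G, ∃ g : Equiv.Perm G, g • x = y := fun x y => sys_trans x y
  have hG : ∀ x, D.Good x := fun x => D.good_all F hF htrans x
  set P₀ := S.map (regRep G)
  have hI₀ : D.I D.base P₀ := ⟨1, rfl, (cj_one _).symm⟩
  -- the identification
  have hr : (regRep G).range = D.Gv D.base := stabilizer_base.symm
  let e : G ≃* ↥(D.Gv D.base) :=
    (MonoidHom.ofInjective regRep_injective).trans (MulEquiv.subgroupCongr hr)
  have hmap : ∀ (H : Subgroup G) (g : G), g ∈ H ↔ (e g : Equiv.Perm G) ∈ H.map (regRep G) := fun H g =>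
    ⟨fun h => ⟨g, h, rfl⟩, fun ⟨a, ha, ea⟩ => regRep_injective (ea.trans rfl) ▸ ha⟩
  have hQb : D.Q D.base = Q.map (regRep G) := (cj_out hB.normQ 1).trans (cj_one _)
  have hE : D.Env D.base P₀ e Q S :=
    ⟨hI₀, fun g => by rw [hQb]; exact hmap Q g, fun g => hmap S g, hE₁, hB.pgroup, hB.normQ⟩
  obtain ⟨RV⟩ := D.exists_repV F hF hG htrans D.base
  rcases (show D.b = 1 ∨ D.b = 2 by
    have h1 := D.one_le_b; have h2 := D.b_le_two hG; omega) with hb | hb
  · obtain ⟨x, P, hC⟩ := D.exists_caseOne hG hb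
    obtain ⟨g, hgx, hgP⟩ := D.exists_move htrans hC.edge hI₀
    have h1 := hC.smul D g
    rw [hgx, hgP] at h1
    exact ⟨(Sys.result_one hE h1 RV).1, Or.inl (Sys.result_one hE h1 RV).2⟩
  · obtain ⟨v, Pc, hch⟩ := D.exists_chain hG hb.ge 5
    have h : D.Two 5 v Pc := ⟨hG, hb, hch, by norm_num⟩
    obtain ⟨g, hgx, hgP⟩ := D.exists_move htrans h.edge hI₀
    have h' := h.smul D g
    have key : ∀ (v' : ℕ → Vertex G) (Pc' : ℕ → Subgroup (Equiv.Perm G)), D.Two 5 v' Pc' →
        v' 2 = D.base → Pc' 2 = P₀ →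
        (Nonempty (G ⧸ Q ≃* Matrix.SpecialLinearGroup (Fin 2) F) ∧ AllNatural F Q) ∧
          TypeTwo p Q S := by
      intro v' Pc' h2 hv hP
      let e' : G ≃* ↥(D.Gv (v' 2)) := e.trans (MulEquiv.subgroupCongr (by rw [hv]))
      exact Sys.result_two (e := e') h2 le_rfl hF
        ⟨by rw [hv, hP]; exact hI₀,
          fun g => (show g ∈ Q ↔ ((e g : ↥(D.Gv D.base)) : Equiv.Perm G) ∈ D.Q (v' 2) by
            rw [hv]; exact hE.memQ g),
          fun g => (show g ∈ S ↔ ((e g : ↥(D.Gv D.base)) : Equiv.Perm G) ∈ Pc' 2 by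
            rw [hP]; exact hE.memS g), hE₁, hB.pgroup, hB.normQ⟩
    have h2 := key _ _ h' hgx hgP
    exact ⟨h2.1, Or.inr h2.2⟩

end CfsgLib.PushUp.RankOne
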