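import Cfsg.Agent.Lib.PushUp.RankOne.Chain

/-!
Rank one pushing up: subgroups of `G` seen in a coordinate, and the kernel on the module `V`.
-/

set_option autoImplicit false
set_option linter.unusedSectionVars false

namespace CfsgLib.PushUp.RankOne

open scoped commutatorElement MatrixGroups
open Matrix
open CfsgLib.ClassicalLinear (upS upS_coe upS_add)
open CfsgLib.SL2Gen (lowS lowS_coe)

variable {F : Type} [Field F]

local notation "M₂" => Matrix (Fin 2) (Fin 2) F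

/-- The antidiagonal element. -/
def weylS (F : Type) [Field F] : SL(2, F) := ⟨!![0, 1; -1, 0], by simp [Matrix.det_fin_two]⟩

theorem weylS_coe : ((weylS F : SL(2, F)) : M₂) = !![0, 1; -1, 0] := rfl

/-- An overgroup of the lower group outside the lower triangular group is everything. -/
theorem eq_top_of_lower {H : Subgroup (SL(2, F))} (hL : ∀ t, lowS t ∈ H) {h : SL(2, F)}
    (hh : h ∈ H) (hc : (h : M₂) 0 1 ≠ 0) : H = ⊤ := by
  set f := (MulAut.conj (weylS F)).toMonoidHom with hf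
  have hK : H.map f = ⊤ := by
    refine eq_top_of_upper (fun t => ⟨lowS (-t), hL _, ?_⟩) (h := f h) ⟨h, hh, rfl⟩ ?_
    · show weylS F * lowS (-t) * (weylS F)⁻¹ = upS t
      rw [mul_inv_eq_iff_eq_mul]
      apply Subtype.ext
      rw [Matrix.SpecialLinearGroup.coe_mul, Matrix.SpecialLinearGroup.coe_mul, upS_coe, lowS_coe,
        weylS_coe]
      ext i j; fin_cases i <;> fin_cases j <;> simp [Matrix.mul_apply]
    · show ((weylS F * h * (weylS F)⁻¹ : SL(2, F)) : M₂) 1 0 ≠ 0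
      rw [Matrix.SpecialLinearGroup.coe_mul, Matrix.SpecialLinearGroup.coe_mul,
        Matrix.SpecialLinearGroup.coe_inv, weylS_coe, Matrix.adjugate_fin_two_of]
      simpa [Matrix.mul_apply, Matrix.vecMul, dotProduct, Fin.sum_univ_two] using hc
  refine (Subgroup.eq_top_iff' H).2 fun g => ?_
  obtain ⟨a, ha, e⟩ : f g ∈ H.map f := hK ▸ Subgroup.mem_top _
  rwa [show a = g from (MulAut.conj (weylS F)).injective e] at ha

/-- Conjugation of the upper group by an upper triangular element. -/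
theorem conj_upS {g : SL(2, F)} (hg : (g : M₂) 1 0 = 0) (t : F) :
    g * upS t * g⁻¹ = upS (((g : M₂) 0 0) ^ 2 * t) := by
  have hdet := CfsgLib.SL2.det_eq g
  rw [hg, mul_zero, sub_zero] at hdet
  rw [mul_inv_eq_iff_eq_mul]
  apply Subtype.ext
  rw [Matrix.SpecialLinearGroup.coe_mul g (upS t),
    Matrix.SpecialLinearGroup.coe_mul (upS _) g, upS_coe, upS_coe]
  ext i j
  fin_cases i <;> fin_cases j <;> simp [Matrix.mul_apply, hg]
  linear_combination -((g : M₂) 0 0 * t) * hdet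

variable {X : Type*} [Group X] [Finite X] {p q : ℕ} {Γ : Type*} [MulAction X Γ]

namespace Sys

variable (D : Sys p q X Γ) [hp : Fact p.Prime] {x : Γ} {P : Subgroup X}

/-- A `p`-subgroup of an overgroup of `P` is conjugate there into `P`. -/
theorem conj_into' (h : D.I x P) {K H : Subgroup X} (hPK : P ≤ K) (hKG : K ≤ D.Gv x) (hH : H ≤ K)
    (hHp : IsPGroup p H) : ∃ m ∈ K, ∀ z ∈ H, m * z * m⁻¹ ∈ P := by
  let S : Sylow p K :=
    { toSubgroup := P.subgroupOf K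
      isPGroup' := (D.pgroup h).of_equiv (Subgroup.subgroupOfEquivOfLe hPK).symm
      is_maximal' := fun {J} hJ hle => by
        obtain ⟨P', hP', hJP'⟩ := D.exists_ge (J.map K.subtype)
          ((Subgroup.map_subtype_le J).trans hKG) (hJ.map _)
        have h1 : P ≤ J.map K.subtype := fun z hz => ⟨⟨z, hPK hz⟩, hle hz, rfl⟩
        have h2 : P = P' := Subgroup.eq_of_le_of_card_ge (h1.trans hJP')
          (by rw [D.card h, D.card hP'])
        refine le_antisymm (fun k hk => ?_) hle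
        show (k : X) ∈ P
        rw [h2]; exact hJP' ⟨k, hk, rfl⟩ }
  obtain ⟨S', hS'⟩ := (hHp.of_equiv (Subgroup.subgroupOfEquivOfLe hH).symm).exists_le_sylow
  obtain ⟨m, hm⟩ := MulAction.exists_smul_eq K S' S
  refine ⟨m, m.2, fun z hz => ?_⟩
  have h1 : m * (⟨z, hH hz⟩ : K) * m⁻¹ ∈ ((m • S' : Sylow p K) : Subgroup K) := by
    rw [Sylow.coe_subgroup_smul]
    exact ⟨_, hS' (Subgroup.mem_subgroupOf.2 hz : (⟨z, hH hz⟩ : K) ∈ H.subgroupOf K), by simp⟩
  rw [hm] at h1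
  exact h1

namespace Rep

variable {D} {W Y P' : Subgroup X} (R : D.Rep x W Y F)

theorem mem_M_of_upper {P' : Subgroup X} (hP : D.I x P) (hR : R.Normal P P')
    (hker : ∀ g : ↥(D.Gv x), R.ρ g = 1 → (g : X) ∈ D.M x P) {g : ↥(D.Gv x)}
    (hg : (g : X) ∈ D.M x P) : ((R.ρ g : SL(2, F)) : M₂) 1 0 = 0 := by
  by_contra hne
  have hall : ∀ t, upS t ∈ ((D.M x P).subgroupOf (D.Gv x)).map R.ρ := fun t => by
    obtain ⟨a, ha, e⟩ := hR.exists_upper t
    exact ⟨a, (D.M_spec hP).1 ha, e⟩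
  have htop := eq_top_of_upper hall ⟨g, hg, rfl⟩ hne
  obtain ⟨z, hz, hzM⟩ := D.exists_not_mem hP
  obtain ⟨a, ha, e⟩ : R.ρ ⟨z, hz⟩ ∈ ((D.M x P).subgroupOf (D.Gv x)).map R.ρ :=
    htop ▸ Subgroup.mem_top _
  have h1 := hker (a⁻¹ * ⟨z, hz⟩) (by rw [_root_.map_mul, _root_.map_inv, e, inv_mul_cancel])
  exact hzM (by simpa using (D.M x P).mul_mem ha h1)

theorem mem_M_of_lower {P' : Subgroup X} (hP' : D.I x P') (hR : R.Normal P P')
    (hker : ∀ g : ↥(D.Gv x), R.ρ g = 1 → (g : X) ∈ D.M x P') {g : ↥(D.Gv x)}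
    (hg : (g : X) ∈ D.M x P') : ((R.ρ g : SL(2, F)) : M₂) 0 1 = 0 := by
  by_contra hne
  have hall : ∀ t, lowS t ∈ ((D.M x P').subgroupOf (D.Gv x)).map R.ρ := fun t => by
    obtain ⟨a, ha, e⟩ := hR.exists_lower t
    exact ⟨a, (D.M_spec hP').1 ha, e⟩
  have htop := eq_top_of_lower hall ⟨g, hg, rfl⟩ hne
  obtain ⟨z, hz, hzM⟩ := D.exists_not_mem hP'
  obtain ⟨a, ha, e⟩ : R.ρ ⟨z, hz⟩ ∈ ((D.M x P').subgroupOf (D.Gv x)).map R.ρ :=
    htop ▸ Subgroup.mem_top _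
  have h1 := hker (a⁻¹ * ⟨z, hz⟩) (by rw [_root_.map_mul, _root_.map_inv, e, inv_mul_cancel])
  exact hzM (by simpa using (D.M x P').mul_mem ha h1)

/-- Two Sylow subgroups with lower image do not generate. -/
theorem le_M_of_low (hP' : D.I x P') {P₁ : Subgroup X} (hP₁ : D.I x P₁)
    (h1 : ∀ g : ↥(D.Gv x), (g : X) ∈ P' → ((R.ρ g : SL(2, F)) : M₂) 0 1 = 0)
    (h2 : ∀ g : ↥(D.Gv x), (g : X) ∈ P₁ → ((R.ρ g : SL(2, F)) : M₂) 0 1 = 0) :
    P₁ ≤ D.M x P' := by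
  refine D.sup_eq_comm hP' hP₁ fun e => ?_
  let T : Subgroup ↥(D.Gv x) :=
    { carrier := {g | ((R.ρ g : SL(2, F)) : M₂) 0 1 = 0}
      one_mem' := by simp
      mul_mem' := fun {a b} (ha : _ = _) (hb : _ = _) => by
        show ((R.ρ (a * b) : SL(2, F)) : M₂) 0 1 = 0
        rw [_root_.map_mul, Matrix.SpecialLinearGroup.coe_mul]
        simp [Matrix.mul_apply, ha, hb]
      inv_mem' := fun {a} (ha : _ = _) => by
        show ((R.ρ a⁻¹ : SL(2, F)) : M₂) 0 1 = 0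
        rw [_root_.map_inv, Matrix.SpecialLinearGroup.coe_inv, Matrix.adjugate_fin_two]
        simp [ha] }
  have hle : P' ⊔ P₁ ≤ T.map (D.Gv x).subtype :=
    sup_le (fun g hg => ⟨⟨g, D.le_G hP' hg⟩, h1 _ hg, rfl⟩) (fun g hg => ⟨⟨g, D.le_G hP₁ hg⟩, h2 _ hg, rfl⟩)
  obtain ⟨g, hg⟩ := R.surjρ (upS 1)
  obtain ⟨g', hg', e'⟩ := hle (show (g : X) ∈ P' ⊔ P₁ by rw [e]; exact g.2)
  have h3 : ((R.ρ g' : SL(2, F)) : M₂) 0 1 = 0 := hg'
  rw [show g' = g from Subtype.ext e', hg, upS_coe] at h3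
  simp at h3

end Rep

omit [Finite X] hp in
theorem mem_M_of_kerV {W' : Subgroup X} {R : D.Rep x (D.V x) W' F} (hW' : W' = ⊥) (hP : D.I x P)
    {g : ↥(D.Gv x)} (hg : R.ρ g = 1) : (g : X) ∈ D.M x P :=
  (D.M_spec hP).2.2.2.2 g g.2 fun v hv => commutatorElement_eq_one_iff_mul_comm.1
    (Subgroup.mem_bot.1 (hW' ▸ (R.kerρ g).1 hg v hv))

omit [Finite X] in
theorem eq_one_of_fixed {k a w : X} {m : ℕ} (hk : (orderOf k).Coprime p) (e : k * a * k⁻¹ = w * a)
    (hkw : k * w = w * k) (hw : w ^ p ^ m = 1) : w = 1 := by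
  have key : ∀ n : ℕ, k ^ n * a * (k ^ n)⁻¹ = w ^ n * a := by
    intro n
    induction n with
    | zero => simp
    | succ n ih =>
      calc k ^ (n + 1) * a * (k ^ (n + 1))⁻¹ = k * (k ^ n * a * (k ^ n)⁻¹) * k⁻¹ := by
            rw [pow_succ' k n]; simp [mul_assoc]
        _ = k * w ^ n * a * k⁻¹ := by rw [ih]; simp [mul_assoc]
        _ = w ^ n * (k * a * k⁻¹) := by rw [(Commute.pow_right hkw n).eq]; simp [mul_assoc]
        _ = w ^ (n + 1) * a := by rw [e, pow_succ]; simp [mul_assoc]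
  have h1 := key (orderOf k)
  rw [pow_orderOf_eq_one, one_mul, inv_one, mul_one] at h1
  have h2 : w ^ orderOf k = 1 := mul_right_cancel (h1.symm.trans (one_mul a).symm)
  exact orderOf_eq_one_iff.1 (Nat.eq_one_of_dvd_coprimes (hk.pow_right m)
    (orderOf_dvd_of_pow_eq_one h2) (orderOf_dvd_of_pow_eq_one hw))

/-- The kernel on `V` is `Q`, given a series with trivial action. -/
theorem kerV_eq (hP : D.I x P)
    (hcQ : ∀ g ∈ D.Gv x, (∀ a ∈ D.Q x, g * a = a * g) → g ∈ D.Q x)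
    (R : D.Rep x (D.V x) ⊥ F) (A : Subgroup X) (hAQ : A ≤ D.Q x)
    (N : Subgroup X) (hnorm : ∀ g ∈ D.Gv x, ∀ n ∈ N, g * n * g⁻¹ ∈ N)
    (hsup : N ⊔ P = D.Gv x) (hN : ∀ n ∈ N, ∀ a ∈ D.Q x, ⁅n, a⁆ ∈ A)
    (hA : ∀ g : ↥(D.Gv x), R.ρ g = 1 → ∀ a ∈ A, ⁅(g : X), a⁆ ∈ D.V x) (g : ↥(D.Gv x)) :
    R.ρ g = 1 ↔ (g : X) ∈ D.Q x := by
  refine ⟨fun hg => ?_, R.kerQ g⟩
  obtain ⟨a, r, hr, hord⟩ := Nat.exists_eq_pow_mul_and_not_dvd (orderOf_pos (g : X)).ne' p hp.out.ne_one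
  set k : ↥(D.Gv x) := g ^ p ^ a with hk
  have hkρ : R.ρ k = 1 := by rw [hk, map_pow, hg, one_pow]
  have hkc : (orderOf (k : X)).Coprime p := by
    refine Nat.Coprime.symm ((hp.out.coprime_iff_not_dvd).2 fun hd => hr (hd.trans ?_))
    refine orderOf_dvd_of_pow_eq_one ?_
    rw [hk, SubmonoidClass.coe_pow, ← pow_mul, ← hord, pow_orderOf_eq_one]
  -- `k` lies in `N`
  have hkN : (k : X) ∈ N := by
    obtain ⟨m, hm⟩ := IsPGroup.iff_card.1 (D.pgroup hP)
    have hn : P ≤ Subgroup.normalizer (N : Set X) :=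
      le_normalizer_of_conj fun s hs n hn => hnorm s (D.le_G hP hs) n hn
    obtain ⟨s, hs, n, hn', e⟩ := exists_mul_of_mem_sup hn
      (z := (k : X)) (by rw [sup_comm, hsup]; exact k.2)
    have key : ∀ j : ℕ, ∃ n' ∈ N, (k : X) ^ j = s ^ j * n' := by
      intro j
      induction j with
      | zero => exact ⟨1, one_mem _, by simp⟩
      | succ j ih =>
        obtain ⟨n', hn'', e'⟩ := ih
        refine ⟨s⁻¹ * n' * s * n, N.mul_mem ?_ hn', by rw [pow_succ, e', e, pow_succ]; group⟩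
        simpa using hnorm _ ((D.Gv x).inv_mem (D.le_G hP hs)) _ hn''
    obtain ⟨n', hn'', e'⟩ := key (p ^ m)
    have hs1 : s ^ p ^ m = 1 := by
      rw [← hm]
      exact congrArg Subtype.val (pow_card_eq_one' (x := (⟨s, hs⟩ : P)))
    rw [hs1, one_mul] at e'
    obtain ⟨j, hj⟩ := exists_pow_eq_self_of_coprime (x := (k : X)) (hkc.pow_right m).symm
    rw [← hj, e']
    exact N.pow_mem hn'' j
  -- `k` centralises `Q`
  have hpA : ∀ b ∈ D.Q x, ∃ m : ℕ, b ^ p ^ m = 1 := fun b hb => by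
    obtain ⟨m, hm⟩ := D.pgroup hP ⟨b, D.Q_le hP hb⟩
    exact ⟨m, by simpa using congrArg Subtype.val hm⟩
  have hkV : ∀ v ∈ D.V x, (k : X) * v = v * k := fun v hv =>
    commutatorElement_eq_one_iff_mul_comm.1 (Subgroup.mem_bot.1 ((R.kerρ k).1 hkρ v hv))
  have hkA : ∀ b ∈ A, (k : X) * b = b * k := fun b hb => by
    have hw := hA k hkρ b hb
    obtain ⟨m, hm⟩ := hpA _ (D.V_le x hw)
    exact commutatorElement_eq_one_iff_mul_comm.1 (eq_one_of_fixed (k := (k : X)) (a := b) hkc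
      (by simp [commutatorElement_def]) (hkV _ hw) hm)
  have hkQ : ∀ b ∈ D.Q x, (k : X) * b = b * k := fun b hb => by
    have hw := hN _ hkN b hb
    obtain ⟨m, hm⟩ := hpA _ (hAQ hw)
    exact commutatorElement_eq_one_iff_mul_comm.1 (eq_one_of_fixed (k := (k : X)) (a := b) hkc
      (by simp [commutatorElement_def]) (hkA _ hw) hm)
  have hk1 : (k : X) = 1 := by
    obtain ⟨m, hm⟩ := hpA _ (hcQ k k.2 hkQ)
    exact orderOf_eq_one_iff.1 (Nat.eq_one_of_dvd_coprimes (hkc.pow_right m) dvd_rfl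
      (orderOf_dvd_of_pow_eq_one hm))
  -- so `g` is a `p`-element
  have hgp : (g : X) ^ p ^ a = 1 := by rw [← SubmonoidClass.coe_pow, ← hk]; exact hk1
  obtain ⟨P', hP', hle⟩ := D.exists_ge (Subgroup.zpowers (g : X)) (Subgroup.zpowers_le.2 g.2) (by
    rintro ⟨z, hz⟩
    obtain ⟨i, rfl⟩ := Subgroup.mem_zpowers_iff.1 hz
    refine ⟨a, Subtype.ext ?_⟩
    show ((g : X) ^ i) ^ p ^ a = 1
    rw [← zpow_natCast, zpow_comm, zpow_natCast, hgp, _root_.one_zpow])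
  exact R.kerP P' hP' g (hle (Subgroup.mem_zpowers _)) hg

end Sys

end CfsgLib.PushUp.RankOne
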