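import Cfsg.Agent.Lib.PushUp.RankOne.Tools

/-!
Rank one pushing up: the case `b = 1`.
-/

set_option autoImplicit false

namespace CfsgLib.PushUp.RankOne

open scoped commutatorElement

variable {X : Type*} [Group X]

theorem le_normalizer_sup [Finite X] {H A B : Subgroup X}
    (hA : H ≤ Subgroup.normalizer (A : Set X)) (hB : H ≤ Subgroup.normalizer (B : Set X)) :
    H ≤ Subgroup.normalizer ((A ⊔ B : Subgroup X) : Set X) := by
  refine le_normalizer_of_conj fun g hg t ht => ?_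
  have h1 : ∀ {C : Subgroup X}, H ≤ Subgroup.normalizer (C : Set X) → cj g C ≤ C := by
    rintro C hC _ ⟨c, hc, rfl⟩
    simpa using (Subgroup.mem_normalizer_iff.1 (hC hg) c).1 hc
  have h2 : cj g (A ⊔ B) ≤ A ⊔ B := by
    rw [cj, Subgroup.map_sup]; exact sup_le_sup (h1 hA) (h1 hB)
  exact h2 (conj_mem_cj ht)

theorem le_normalizer_commutator [Finite X] {H A B : Subgroup X}
    (hA : H ≤ Subgroup.normalizer (A : Set X)) (hB : H ≤ Subgroup.normalizer (B : Set X)) :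
    H ≤ Subgroup.normalizer ((⁅A, B⁆ : Subgroup X) : Set X) := by
  refine le_normalizer_of_conj fun g hg t ht => ?_
  have h1 : ∀ {C : Subgroup X}, H ≤ Subgroup.normalizer (C : Set X) → cj g C ≤ C := by
    rintro C hC _ ⟨c, hc, rfl⟩
    simpa using (Subgroup.mem_normalizer_iff.1 (hC hg) c).1 hc
  have h2 : cj g ⁅A, B⁆ ≤ ⁅A, B⁆ := by
    rw [cj_commutator]; exact Subgroup.commutator_mono (h1 hA) (h1 hB)
  exact h2 (conj_mem_cj ht)

variable {p q : ℕ} {Γ : Type*} [MulAction X Γ]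

namespace Sys

variable (D : Sys p q X Γ) [Finite X] [hp : Fact p.Prime]

/-- What `b = 1` gives. -/
structure CaseOne (x : Γ) (P : Subgroup X) : Prop where
  edge : D.I x P
  triv : ∃ u ∈ P, u ∉ D.Q x ∧ ∀ a ∈ D.Q x, ⁅u, a⁆ ∈ D.V x
  class_two : ⁅⁅P, P⁆, P⁆ = ⊥
  nonabelian : ⁅P, P⁆ ≠ ⊥
  exponent : ∀ z ∈ P, (p = 2 → z ^ 4 = 1) ∧ (p ≠ 2 → z ^ p = 1)

theorem exists_caseOne (hG : ∀ x, D.Good x) (hb : D.b = 1) : ∃ x P, D.CaseOne x P := by
  obtain ⟨x, y, h, hV⟩ := D.exists_crit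
  rw [hb] at h
  obtain ⟨z, hz, P, hxP, hyP⟩ := h
  cases hz
  have hc : D.Crit x y P P :=
    ⟨hxP, hyP, (D.V_le y).trans (D.Q_le hyP), (D.V_le x).trans (D.Q_le hxP), hV⟩
  refine ⟨x, P, hxP, ?_, ?_, ?_, ?_⟩
  · -- `Q x ≤ V x (Q x ∩ Q y)`
    obtain ⟨u, hu, huQ⟩ := SetLike.not_le_iff_exists.1 hc.not_le'
    refine ⟨u, hc.mem_first hu, huQ, fun a ha => ?_⟩
    obtain ⟨v, hv, d, hd, rfl⟩ := hc.symm.exists_decomp D hG (D.Q_le hxP ha)
    have e : ⁅u, v * d⁆ = ⁅u, v⁆ := by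
      have e1 := D.comm d hd u⁻¹ ((D.V y).inv_mem hu)
      calc ⁅u, v * d⁆ = u * v * (d * u⁻¹) * d⁻¹ * v⁻¹ := by simp [commutatorElement_def, mul_assoc]
        _ = u * v * (u⁻¹ * d) * d⁻¹ * v⁻¹ := by rw [e1]
        _ = ⁅u, v⁆ := by simp [commutatorElement_def, mul_assoc]
    rw [e, ← commutatorElement_inv]
    exact (D.V x).inv_mem (hc.comm_le_V D (Subgroup.commutator_mem_commutator hv hu))
  all_goals
    set D0 := D.Q x ⊓ D.Q y with hD0
    set R := ⁅D.V x, D.V y⁆ with hR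
    have hQx : D.Q x ≤ D.V x ⊔ D0 := fun a ha => by
      obtain ⟨v, hv, d, hd, rfl⟩ := hc.symm.exists_decomp D hG (D.Q_le hxP ha)
      refine Subgroup.mul_mem _ (Subgroup.mem_sup_left hv) (Subgroup.mem_sup_right ⟨?_, hd⟩)
      simpa using (D.Q x).mul_mem ((D.Q x).inv_mem (D.V_le x hv)) ha
    have hP : P = D.V y ⊔ (D.V x ⊔ D0) := by
      refine le_antisymm ?_ (sup_le hc.mem_first (sup_le hc.mem_last (inf_le_left.trans (D.Q_le hxP))))
      conv_lhs => rw [hc.sup_first D hG]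
      exact sup_le_sup le_rfl hQx
    have hRP : R ≤ Subgroup.centralizer (P : Set X) := hc.comm_le_center D hG
    have hnD0 : P ≤ Subgroup.normalizer (D0 : Set X) := le_normalizer_of_conj fun g hg a ha =>
      ⟨D.normQ g (D.le_G hxP hg) a ha.1, D.normQ g (D.le_G hyP hg) a ha.2⟩
    have hnR : P ≤ Subgroup.normalizer (R : Set X) := le_normalizer_of_central hRP
    have hnD' : P ≤ Subgroup.normalizer ((⁅D0, D0⁆ : Subgroup X) : Set X) :=
      le_normalizer_commutator hnD0 hnD0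
    have hT := le_normalizer_sup hnR hnD'
    have hxD : ⁅D.V x, D0⁆ = ⊥ :=
      commutator_eq_bot_of fun v hv d hd => (D.comm d hd.1 v hv).symm
    have hyD : ⁅D.V y, D0⁆ = ⊥ :=
      commutator_eq_bot_of fun v hv d hd => (D.comm d hd.2 v hv).symm
    have hxx : ∀ z : Γ, ⁅D.V z, D.V z⁆ = ⊥ := fun z => commutator_eq_bot_of fun a ha c hc => D.commV ha hc
    have hγ2 : ⁅P, P⁆ ≤ R ⊔ ⁅D0, D0⁆ := by
      have hle : ∀ C : Subgroup X, C ≤ P → ⁅C, D.V y⁆ ≤ R ⊔ ⁅D0, D0⁆ → ⁅C, D.V x⁆ ≤ R ⊔ ⁅D0, D0⁆ →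
          ⁅C, D0⁆ ≤ R ⊔ ⁅D0, D0⁆ → ⁅C, P⁆ ≤ R ⊔ ⁅D0, D0⁆ := by
        intro C _ h1 h2 h3
        have hT' : D.V y ⊔ (D.V x ⊔ D0) ≤ _ := hP ▸ hT
        conv_lhs => rw [hP]
        exact commutator_sup_le' hT' h1 (commutator_sup_le' (le_trans le_sup_right hT') h2 h3)
      have hA : ∀ C : Subgroup X, C ≤ P → ⁅C, P⁆ ≤ R ⊔ ⁅D0, D0⁆ → ⁅P, C⁆ ≤ R ⊔ ⁅D0, D0⁆ :=
        fun C _ h => Subgroup.commutator_comm C P ▸ h
      have hyP' := hle (D.V y) hc.mem_first (hxx y ▸ bot_le)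
        (by rw [Subgroup.commutator_comm]; exact le_sup_left) (hyD ▸ bot_le)
      have hxP' := hle (D.V x) hc.mem_last le_sup_left (hxx x ▸ bot_le) (hxD ▸ bot_le)
      have hDP' := hle D0 (inf_le_left.trans (D.Q_le hxP))
        (by rw [Subgroup.commutator_comm, hyD]; exact bot_le)
        (by rw [Subgroup.commutator_comm, hxD]; exact bot_le) le_sup_right
      have hT' : D.V y ⊔ (D.V x ⊔ D0) ≤ _ := hP ▸ hT
      have := commutator_sup_le hT' hyP' (commutator_sup_le (le_trans le_sup_right hT') hxP' hDP')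
      rwa [← hP] at this
    have hγ3 : ⁅⁅P, P⁆, P⁆ ≤ ⁅⁅D.Q x, D.Q x⁆, D.Q x⁆ := by
      have hD'c : ∀ z, D.I z P → D0 ≤ D.Q z → ⁅⁅D0, D0⁆, D.V z⁆ = ⊥ := fun z _ hz =>
        commutator_eq_bot_of fun d hd v hv => D.comm d (hz (by
          refine (Subgroup.commutator_le.2 fun a ha c hc => ?_ : ⁅D0, D0⁆ ≤ D0) hd
          exact D0.mul_mem (D0.mul_mem (D0.mul_mem ha hc) (D0.inv_mem ha)) (D0.inv_mem hc))) v hv
      have hn3 : P ≤ Subgroup.normalizer ((⁅⁅D0, D0⁆, D0⁆ : Subgroup X) : Set X) :=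
        le_normalizer_commutator hnD' hnD0
      have h1 : ⁅⁅D0, D0⁆, P⁆ ≤ ⁅⁅D0, D0⁆, D0⁆ := by
        conv_lhs => rw [hP]
        have hn' : D.V y ⊔ (D.V x ⊔ D0) ≤ _ := hP ▸ hn3
        exact commutator_sup_le' hn' ((hD'c y hyP inf_le_right) ▸ bot_le)
          (commutator_sup_le' (le_trans le_sup_right hn') ((hD'c x hxP inf_le_left) ▸ bot_le) le_rfl)
      have h2 : ⁅⁅P, P⁆, P⁆ ≤ ⁅⁅D0, D0⁆, D0⁆ :=
        (Subgroup.commutator_mono hγ2 le_rfl).trans (commutator_sup_le (sup_le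
          (le_trans (hc.comm_le_V D) ((hc.mem_last).trans hn3))
          (((Subgroup.commutator_mono (inf_le_left.trans (D.Q_le hxP))
            (inf_le_left.trans (D.Q_le hxP))).trans (lowerCentralSeries_le_self P 1)).trans hn3))
          ((commutator_centralizer_bot hRP) ▸ bot_le) h1)
      exact h2.trans (Subgroup.commutator_mono (Subgroup.commutator_mono inf_le_left inf_le_left) inf_le_left)
    have h3 : ⁅⁅P, P⁆, P⁆ = ⊥ := D.lcs_eq_bot hxP 2 hγ3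
  · exact h3
  · intro e
    refine (hG x).not_central P hxP ?_
    rw [hc.comm_eq D hG, ← hR]
    exact (Subgroup.commutator_mono hc.mem_last hc.mem_first).trans (e ▸ bot_le)
  · intro w hw
    -- powers
    have hcen : ∀ c ∈ ⁅P, P⁆, ∀ g ∈ P, Commute c g := fun c hc g hg =>
      sub_iff.1 (Subgroup.mem_bot.1 (h3 ▸ Subgroup.commutator_mem_commutator hc hg))
    have key : ∀ z ∈ P, ∀ n : ℕ, p ∣ n → p ∣ n.choose 2 → z ^ n ∈ pw n (D.Q x) := by
      intro z hz n hn hn2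
      obtain ⟨u, hu, a, ha, rfl⟩ := hc.exists_decomp D hG hz
      have huP := hc.mem_first hu
      have haP := D.Q_le hxP ha
      have hmem : ⁅a, u⁆ ∈ ⁅P, P⁆ := Subgroup.commutator_mem_commutator haP huP
      have hlin : ∀ k : ℕ, ⁅a, u ^ k⁆ = ⁅a, u⁆ ^ k := by
        intro k
        induction k with
        | zero => simp
        | succ k ih =>
          have : ⁅a, u ^ k * u⁆ = ⁅a, u ^ k⁆ * (u ^ k * ⁅a, u⁆ * (u ^ k)⁻¹) := by
            simp [commutatorElement_def, mul_assoc]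
          rw [pow_succ, this, ih, ← ((hcen _ hmem u huP).pow_right k).eq, mul_inv_cancel_right, pow_succ]
      have hcp : ⁅a, u⁆ ^ p = 1 := by rw [← hlin, D.powV u hu]; simp
      rw [mul_pow_of_central (c := ⁅a, u⁆) (by simp [commutatorElement_def, mul_assoc])
        (hcen _ hmem u huP) (hcen _ hmem a haP) n]
      obtain ⟨k, hk⟩ := hn
      obtain ⟨l, hl⟩ := hn2
      have e1 : u ^ n = 1 := by rw [hk, pow_mul, D.powV u hu, one_pow]
      have e2 : ⁅a, u⁆ ^ (n.choose 2) = 1 := by rw [hl, pow_mul, hcp, one_pow]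
      rw [e1, e2, one_mul, mul_one]
      exact pow_mem_pw ha
    refine ⟨fun h2 => ?_, fun h2 => ?_⟩
    · subst h2
      have h4 : pw 4 P = ⊥ := D.pw_eq_bot hxP 4 (pw_le_iff.2 fun z hz =>
        key z hz 4 ⟨2, rfl⟩ ⟨3, rfl⟩)
      exact Subgroup.mem_bot.1 (h4 ▸ pow_mem_pw hw)
    · have hlt : 2 < p := lt_of_le_of_ne hp.out.two_le (Ne.symm h2)
      have h4 : pw p P = ⊥ := D.pw_eq_bot hxP p (pw_le_iff.2 fun z hz =>
        key z hz p dvd_rfl (hp.out.dvd_choose_self two_ne_zero hlt))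
      exact Subgroup.mem_bot.1 (h4 ▸ pow_mem_pw hw)

end Sys

end CfsgLib.PushUp.RankOne
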