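import Cfsg.Agent.Lib.PushUp.RankOne.Kernel
import Cfsg.Agent.Lib.TwoGroupTricks.PSLTwoPrimitive

/-!
Rank one pushing up: Sylow subgroups of `PSL₂` in defining characteristic.
-/

set_option autoImplicit false
set_option linter.unusedSectionVars false
set_option linter.style.haveILetI false

namespace CfsgLib.PushUp.RankOne

open scoped MatrixGroups
open Matrix
open CfsgLib.ClassicalLinear (upS upperSL upS_coe upS_add upS_injective card_upperSL)

variable {F : Type} [Field F]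

local notation "M₂" => Matrix (Fin 2) (Fin 2) F
local notation "Ψ" => Matrix.ProjectiveSpecialLinearGroup (Fin 2) F

theorem center_entry {c : SL(2, F)} (hc : c ∈ Subgroup.center (SL(2, F))) : (c : M₂) 1 0 = 0 := by
  have h := congrArg (fun A : SL(2, F) => (A : M₂) 0 0) (Subgroup.mem_center_iff.1 hc (upS 1))
  simp only [Matrix.SpecialLinearGroup.coe_mul, upS_coe] at h
  simpa [Matrix.mul_apply] using h

/-- The image of the upper group in `PSL₂`. -/
def upperPSL : Subgroup (Matrix.ProjectiveSpecialLinearGroup (Fin 2) F) :=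
  (upperSL (F := F)).map (QuotientGroup.mk' (Subgroup.center (SL(2, F))))

theorem card_upperPSL : Nat.card (upperPSL (F := F)) = Nat.card F := by
  rw [← card_upperSL (F := F)]
  set f := (QuotientGroup.mk' (Subgroup.center (SL(2, F)))).comp (upperSL (F := F)).subtype
  have hf : Function.Injective f := by
    refine (injective_iff_map_eq_one f).2 ?_
    rintro ⟨_, t, rfl⟩ h
    have hc : upS t ∈ Subgroup.center (SL(2, F)) := (QuotientGroup.eq_one_iff (upS t)).1 h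
    have h1 := congrArg (fun A : SL(2, F) => (A : M₂) 0 0)
      (Subgroup.mem_center_iff.1 hc (CfsgLib.SL2Gen.lowS 1))
    simp only [Matrix.SpecialLinearGroup.coe_mul, upS_coe, CfsgLib.SL2Gen.lowS_coe] at h1
    have ht : t = 0 := by simpa [Matrix.mul_apply] using h1
    refine Subtype.ext ?_
    show upS t = 1
    rw [ht]; exact Matrix.SpecialLinearGroup.transvection_coeff_zero _
  have : upperPSL (F := F) = f.range := by
    rw [MonoidHom.range_comp, Subgroup.range_subtype]; rfl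
  rw [this]
  exact (Nat.card_congr (MonoidHom.ofInjective hf).toEquiv).symm

variable [Finite F] {p n : ℕ} [hp : Fact p.Prime] (hn : 1 ≤ n) (hF : Nat.card F = p ^ n)
include hn hF

theorem exists_conj_upperPSL {T : Subgroup (Matrix.ProjectiveSpecialLinearGroup (Fin 2) F)}
    (S : Sylow p (Matrix.ProjectiveSpecialLinearGroup (Fin 2) F)) (hT : (S : Subgroup Ψ) = T) :
    ∃ γ, T = upperPSL.map (MulAut.conj γ).toMonoidHom := by
  let U : Sylow p (Matrix.ProjectiveSpecialLinearGroup (Fin 2) F) :=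
    { toSubgroup := upperPSL
      isPGroup' := IsPGroup.iff_card.2 ⟨n, card_upperPSL.trans hF⟩
      is_maximal' := fun {K} hK hle => by
        refine (Subgroup.eq_of_le_of_card_ge hle ?_).symm
        obtain ⟨i, hi⟩ := IsPGroup.iff_card.1 hK
        rw [card_upperPSL, hF, hi]
        exact Nat.le_of_dvd (pow_pos hp.out.pos n) (CfsgLib.TwoGroupTricks.pow_dvd_of_dvd_card_psl hn hF
          (hi ▸ Subgroup.card_subgroup_dvd_card _)) }
  obtain ⟨γ, hγ⟩ := MulAction.exists_smul_eq Ψ U S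
  refine ⟨γ, ?_⟩
  rw [← hT, ← hγ, Sylow.coe_subgroup_smul]
  rfl

theorem card_sylowPSL (S : Sylow p (Matrix.ProjectiveSpecialLinearGroup (Fin 2) F)) :
    Nat.card (S : Subgroup (Matrix.ProjectiveSpecialLinearGroup (Fin 2) F)) = p ^ n := by
  obtain ⟨γ, hγ⟩ := exists_conj_upperPSL hn hF S rfl
  rw [hγ, Subgroup.card_map_of_injective (MulAut.conj γ).injective, card_upperPSL, hF]

theorem sylowPSL_ti (S : Sylow p (Matrix.ProjectiveSpecialLinearGroup (Fin 2) F))
    {g z : Matrix.ProjectiveSpecialLinearGroup (Fin 2) F} (hz : z ∈ (S : Subgroup Ψ)) (hz1 : z ≠ 1)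
    (hgz : g * z * g⁻¹ ∈ (S : Subgroup Ψ)) :
    g ∈ Subgroup.normalizer ((S : Subgroup Ψ) : Set Ψ) := by
  obtain ⟨γ, hγ⟩ := exists_conj_upperPSL hn hF S rfl
  rw [hγ] at hz hgz ⊢
  obtain ⟨_, ⟨_, ⟨t, rfl⟩, rfl⟩, rfl⟩ := hz
  obtain ⟨_, ⟨_, ⟨s, rfl⟩, rfl⟩, hs⟩ := hgz
  obtain ⟨h, hh⟩ := QuotientGroup.mk_surjective (γ⁻¹ * g * γ)
  have hg : g = γ * QuotientGroup.mk h * γ⁻¹ := by rw [hh]; simp [mul_assoc]
  have e : (QuotientGroup.mk (h * upS t * h⁻¹) : Matrix.ProjectiveSpecialLinearGroup (Fin 2) F) =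
      QuotientGroup.mk (upS s) := by
    refine mul_left_cancel (a := γ) (mul_right_cancel (b := γ⁻¹) ?_)
    refine Eq.trans ?_ hs.symm
    show γ * (QuotientGroup.mk h * QuotientGroup.mk (upS t) * (QuotientGroup.mk h)⁻¹) * γ⁻¹ =
      g * (γ * QuotientGroup.mk (upS t) * γ⁻¹) * g⁻¹
    rw [hg]; simp [mul_assoc]
  obtain ⟨c, hc, ec⟩ : ∃ c ∈ Subgroup.center (SL(2, F)), h * upS t * h⁻¹ = upS s * c :=
    ⟨(upS s)⁻¹ * (h * upS t * h⁻¹), QuotientGroup.eq.1 e.symm, by simp [mul_assoc]⟩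
  have ht0 : t ≠ 0 := fun h0 => hz1 (by
    rw [h0, show upS (0 : F) = 1 from Matrix.SpecialLinearGroup.transvection_coeff_zero _]; simp)
  have h10 : (h : M₂) 1 0 = 0 := by
    have h1 := congrArg (fun A : SL(2, F) => (A : M₂) 1 0) ec
    simp only [Matrix.SpecialLinearGroup.coe_mul, Matrix.SpecialLinearGroup.coe_inv, upS_coe] at h1
    simp [Matrix.mul_apply, Matrix.adjugate_fin_two, center_entry hc] at h1
    have h2 : (h : M₂) 1 0 * ((h : M₂) 1 0 * t) = 0 := by linear_combination -h1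
    rcases mul_eq_zero.1 h2 with h3 | h3
    · exact h3
    · exact (mul_eq_zero.1 h3).resolve_right ht0
  refine Subgroup.mem_normalizer_fintype fun a ha => ?_
  obtain ⟨_, ⟨_, ⟨r, rfl⟩, rfl⟩, rfl⟩ := ha
  refine ⟨_, ⟨_, ⟨((h : M₂) 0 0) ^ 2 * r, rfl⟩, rfl⟩, ?_⟩
  show γ * QuotientGroup.mk (upS (((h : M₂) 0 0) ^ 2 * r)) * γ⁻¹ =
    g * (γ * QuotientGroup.mk (upS r) * γ⁻¹) * g⁻¹
  rw [← conj_upS h10, QuotientGroup.mk_mul, QuotientGroup.mk_mul, QuotientGroup.mk_inv, hg]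
  simp [mul_assoc]

theorem sylowPSL_not_normal (S : Sylow p (Matrix.ProjectiveSpecialLinearGroup (Fin 2) F)) :
    Subgroup.normalizer ((S : Subgroup Ψ) : Set Ψ) ≠ ⊤ := by
  intro h
  obtain ⟨γ, hγ⟩ := exists_conj_upperPSL hn hF S rfl
  rw [hγ] at h
  have h1 := Subgroup.mem_normalizer_iff.1
    (h ▸ Subgroup.mem_top (γ * QuotientGroup.mk (weylS F) * γ⁻¹))
    (γ * QuotientGroup.mk (upS 1) * γ⁻¹) |>.1
      (show _ ∈ upperPSL.map (MulAut.conj γ).toMonoidHom from ⟨_, ⟨_, ⟨1, rfl⟩, rfl⟩, rfl⟩)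
  obtain ⟨_, ⟨_, ⟨s, rfl⟩, rfl⟩, hs⟩ := h1
  have e : (QuotientGroup.mk (upS s) : Matrix.ProjectiveSpecialLinearGroup (Fin 2) F) =
      QuotientGroup.mk (weylS F * upS 1 * (weylS F)⁻¹) := by
    refine mul_left_cancel (a := γ) (mul_right_cancel (b := γ⁻¹) ?_)
    refine Eq.trans hs ?_
    show _ = γ * (QuotientGroup.mk (weylS F) * QuotientGroup.mk (upS 1) *
      (QuotientGroup.mk (weylS F))⁻¹) * γ⁻¹
    simp [mul_assoc]
  obtain ⟨c, hc, ec⟩ : ∃ c ∈ Subgroup.center (SL(2, F)), weylS F * upS 1 * (weylS F)⁻¹ = upS s * c :=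
    ⟨(upS s)⁻¹ * (weylS F * upS 1 * (weylS F)⁻¹), QuotientGroup.eq.1 e, by simp [mul_assoc]⟩
  have h2 := congrArg (fun A : SL(2, F) => (A : M₂) 1 0) ec
  simp only [Matrix.SpecialLinearGroup.coe_mul, Matrix.SpecialLinearGroup.coe_inv, upS_coe, weylS_coe,
    Matrix.adjugate_fin_two_of] at h2
  simp [Matrix.mul_apply, center_entry hc] at h2

end CfsgLib.PushUp.RankOne
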