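import Cfsg.Agent.Lib.PushUp.RankOne.Basic
import Cfsg.Agent.Lib.FFModules.SL2Pair.StronglyEmbedded
import Cfsg.Agent.Lib.SL2Gen.Basic

/-!
Rank one pushing up: sections of `G` on which it acts as `SL₂(q)` on the natural module.
-/

set_option autoImplicit false
set_option linter.style.haveILetI false
set_option maxHeartbeats 1000000

namespace CfsgLib.PushUp.RankOne

open scoped commutatorElement MatrixGroups
open CfsgLib.ClassicalLinear (upS upperSL upS_coe upS_add upS_injective mem_upperSL)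
open CfsgLib.SL2Gen (lowS lowS_coe)
open CfsgLib.FFModules.SL2Pair (IsEmbeddedOffender fixedSub)

variable {X : Type*} [Group X] [Finite X] {p q : ℕ} {Γ : Type*} [MulAction X Γ]

/-- `G` acts on `W / Y`, modulo fixed points, as `SL₂(F)` on its natural module. -/
structure Sys.Rep (D : Sys p q X Γ) (x : Γ) (W Y : Subgroup X) (F : Type*) [Field F] where
  ρ : ↥(D.Gv x) →* SL(2, F)
  ψ : ↥W → (Fin 2 → F)
  surjρ : Function.Surjective ρ
  surjψ : Function.Surjective ψ
  map_mul : ∀ a b : ↥W, ψ (a * b) = ψ a + ψ b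
  ker : ∀ w : ↥W, ψ w = 0 ↔ ∀ g ∈ D.Gv x, ⁅g, (w : X)⁆ ∈ Y
  equiv : ∀ (g : ↥(D.Gv x)) (w w' : ↥W), (w' : X) = (g : X) * w * (g : X)⁻¹ →
    ψ w' = ((ρ g : SL(2, F)) : Matrix (Fin 2) (Fin 2) F).mulVec (ψ w)
  kerρ : ∀ g : ↥(D.Gv x), ρ g = 1 ↔ ∀ w ∈ W, ⁅(g : X), w⁆ ∈ Y
  kerQ : ∀ g : ↥(D.Gv x), (g : X) ∈ D.Q x → ρ g = 1
  kerP : ∀ P, D.I x P → ∀ g : ↥(D.Gv x), (g : X) ∈ P → ρ g = 1 → (g : X) ∈ D.Q x
  kerY : ∀ w : ↥W, (w : X) ∈ Y → ψ w = 0

theorem pgroup_lift {G H : Type*} [Group G] [Finite G] [Group H] {p : ℕ} [Fact p.Prime]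
    (f : G →* H) (K : Subgroup H) (hK : IsPGroup p K) (hle : K ≤ f.range) :
    ∃ R : Subgroup G, IsPGroup p R ∧ R.map f = K := by
  classical
  let f' : ↥(K.comap f) →* K := (f.comp (K.comap f).subtype).codRestrict K fun g => g.2
  have hf' : Function.Surjective f' := fun k => by
    obtain ⟨g, hg⟩ := hle k.2
    exact ⟨⟨g, show f g ∈ K by rw [hg]; exact k.2⟩, Subtype.ext hg⟩
  obtain ⟨R⟩ := (inferInstance : Nonempty (Sylow p ↥(K.comap f)))
  refine ⟨(R : Subgroup ↥(K.comap f)).map (K.comap f).subtype, R.2.map _, ?_⟩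
  haveI : Finite K := Finite.of_surjective f' hf'
  have htop : ((R.mapSurjective hf' : Sylow p K) : Subgroup K) = ⊤ :=
    (R.mapSurjective hf').3 (IsPGroup.of_equiv hK Subgroup.topEquiv.symm) le_top |>.symm
  rw [Sylow.coe_mapSurjective] at htop
  have h1 := congrArg (Subgroup.map K.subtype) htop
  rw [Subgroup.map_map, ← MonoidHom.range_eq_map, Subgroup.range_subtype] at h1
  rw [Subgroup.map_map]
  exact h1

namespace Sys

variable (D : Sys p q X Γ) [hp : Fact p.Prime] {x : Γ} {P : Subgroup X} {W Y : Subgroup X}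

omit hp in
theorem conj_W {H : Subgroup X} (hn : ∀ g ∈ D.Gv x, ∀ w ∈ H, g * w * g⁻¹ ∈ H) (g : ↥(D.Gv x)) :
    cj (g : X) H = H := cj_eq_self (hn g g.2)

theorem exists_rep (F : Type) [Field F] [Fintype F] (hF : Fintype.card F = q) [CharP F p]
    (h : D.I x P) (hYW : Y ≤ W)
    (hnW : ∀ g ∈ D.Gv x, ∀ w ∈ W, g * w * g⁻¹ ∈ W) (hnY : ∀ g ∈ D.Gv x, ∀ w ∈ Y, g * w * g⁻¹ ∈ Y)
    (hWc : ∀ a ∈ W, ∀ b ∈ W, ⁅a, b⁆ ∈ Y) (hWp : ∀ w ∈ W, w ^ p ∈ Y)
    (hker : ∀ g ∈ P, (∀ w ∈ W, ⁅g, w⁆ ∈ Y) → g ∈ D.Q x)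
    (hQ : ∀ g ∈ D.Q x, ∀ w ∈ W, ⁅g, w⁆ ∈ Y)
    (hM : ∀ g ∈ D.Gv x, (∀ w ∈ W, ⁅g, w⁆ ∈ Y) → g ∈ D.M x P)
    (B : Subgroup X) (hBP : B ≤ P) (hQB : D.Q x ≤ B) (hBne : ∃ b ∈ B, b ∉ D.Q x)
    (hBp : ∀ b ∈ B, b ^ p ∈ D.Q x) (quad : ∀ a ∈ B, ∀ b ∈ B, ∀ w ∈ W, ⁅b, ⁅a, w⁆⁆ ∈ Y)
    (C : Subgroup X) (hCW : C ≤ W) (hC : ∀ c ∈ C, ∀ b ∈ B, ⁅b, c⁆ ∈ Y)
    (hoff : Nat.card W * Nat.card (D.Q x) ≤ Nat.card B * Nat.card C) :
    B = P ∧ Nonempty (D.Rep x W Y F) := by
  classical
  haveI hYn : (Y.subgroupOf W).Normal := ⟨fun y hy w => by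
    have h1 := hWc _ w.2 _ y.2
    rw [Subgroup.mem_subgroupOf] at hy ⊢
    simpa [commutatorElement_def, mul_assoc] using Y.mul_mem h1 hy⟩
  set A := ↥W ⧸ Y.subgroupOf W with hA
  letI : CommGroup A :=
    { (inferInstance : Group A) with
      mul_comm := fun a b => by
        induction a using QuotientGroup.induction_on with | _ a =>
        induction b using QuotientGroup.induction_on with | _ b =>
        rw [← QuotientGroup.mk_mul, ← QuotientGroup.mk_mul, QuotientGroup.eq,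
          Subgroup.mem_subgroupOf]
        have h1 := hWc _ (W.inv_mem b.2) _ (W.inv_mem a.2)
        simpa [commutatorElement_def, mul_assoc] using h1 }
  -- the action
  let c : ↥(D.Gv x) →* MulAut ↥W :=
    { toFun := fun g =>
        { toFun := fun w => ⟨(g : X) * w * (g : X)⁻¹, hnW g g.2 w w.2⟩
          invFun := fun w => ⟨(g : X)⁻¹ * w * (g : X), by
            simpa using hnW _ (g⁻¹ : ↥(D.Gv x)).2 w w.2⟩
          left_inv := fun w => Subtype.ext (by simp [mul_assoc])
          right_inv := fun w => Subtype.ext (by simp [mul_assoc])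
          map_mul' := fun a b => Subtype.ext (by simp [mul_assoc]) }
      map_one' := by ext w; simp
      map_mul' := fun g g' => by ext w; simp [mul_assoc] }
  have hc : ∀ g, (Y.subgroupOf W).map (c g).toMonoidHom = Y.subgroupOf W := by
    intro g
    refine Subgroup.eq_of_le_of_card_ge ?_ (Subgroup.card_map_of_injective (c g).injective).ge
    rintro _ ⟨w, hw, rfl⟩
    exact hnY g g.2 _ hw
  let θ : ↥(D.Gv x) →* MulAut A :=
    { toFun := fun g => QuotientGroup.congr _ _ (c g) (hc g)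
      map_one' := by
        ext a; induction a using QuotientGroup.induction_on with | _ a => simp
      map_mul' := fun g g' => by
        ext a
        induction a using QuotientGroup.induction_on with | _ a => exact congrArg _ (Subtype.ext (by simp [c, mul_assoc])) }
  have hθ : ∀ (g : ↥(D.Gv x)) (w : ↥W), θ g (QuotientGroup.mk w) = QuotientGroup.mk (c g w) :=
    fun g w => rfl
  have hθ1 : ∀ (g : ↥(D.Gv x)) (w : ↥W), θ g (QuotientGroup.mk w) = QuotientGroup.mk w ↔
      ⁅(g : X), (w : X)⁆ ∈ Y := by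
    intro g w
    rw [hθ, eq_comm, QuotientGroup.eq, Subgroup.mem_subgroupOf]
    show (w : X)⁻¹ * ((g : X) * w * (g : X)⁻¹) ∈ Y ↔ _
    constructor
    · intro h1
      have h2 := hWc _ w.2 _ (hYW h1)
      have := Y.mul_mem h2 h1
      simpa [commutatorElement_def, mul_assoc] using this
    · intro h1
      have h2 := hWc _ (W.inv_mem w.2) _ (hYW h1)
      have := Y.mul_mem h2 h1
      simpa [commutatorElement_def, mul_assoc] using this
  have hθtriv : ∀ g : ↥(D.Gv x), θ g = 1 ↔ ∀ w ∈ W, ⁅(g : X), w⁆ ∈ Y := by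
    intro g
    constructor
    · exact fun e w hw => (hθ1 g ⟨w, hw⟩).1 (by rw [e]; rfl)
    · intro hg
      ext a
      induction a using QuotientGroup.induction_on with | _ a => exact (hθ1 g a).2 (hg a a.2)
  set H := θ.range with hH
  letI act : DistribMulAction ↥H (Additive A) :=
    { smul := fun h a => Additive.ofMul ((h : MulAut A) a.toMul)
      one_smul := fun a => rfl
      mul_smul := fun h k a => rfl
      smul_zero := fun h => congrArg Additive.ofMul (map_one (h : MulAut A))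
      smul_add := fun h a b => congrArg Additive.ofMul (map_mul (h : MulAut A) a.toMul b.toMul) }
  set θ' : ↥(D.Gv x) →* H := θ.rangeRestrict with hθ'
  have hθ's : Function.Surjective θ' := θ.rangeRestrict_surjective
  have hθ'1 : ∀ g, θ' g = 1 ↔ θ g = 1 := fun g => Subtype.ext_iff
  set M := D.M x P with hMdef
  obtain ⟨hPM, hMlt, -, hti, -⟩ := D.M_spec h
  have hMle := D.M_le h
  set Mb : Subgroup H := (M.subgroupOf (D.Gv x)).map θ' with hMb
  have hmemM : ∀ g, θ' g ∈ Mb ↔ (g : X) ∈ M := by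
    intro g
    refine ⟨?_, fun hg => ⟨g, hg, rfl⟩⟩
    rintro ⟨m, hm, e⟩
    have h1 : (((m⁻¹ * g : ↥(D.Gv x))) : X) ∈ M :=
      hM _ (m⁻¹ * g).2 ((hθtriv _).1 ((hθ'1 _).1 (by rw [map_mul, map_inv, e, inv_mul_cancel])))
    simpa using M.mul_mem hm h1
  have hPG := D.le_G h
  have hBG : B ≤ D.Gv x := hBP.trans hPG
  set Ab : Subgroup H := (B.subgroupOf (D.Gv x)).map θ' with hAb
  have hQ1 : ∀ g : ↥(D.Gv x), (g : X) ∈ D.Q x → θ' g = 1 := fun g hg =>
    (hθ'1 g).2 ((hθtriv g).2 (hQ g hg))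
  have hP1 : ∀ g : ↥(D.Gv x), (g : X) ∈ P → θ' g = 1 → (g : X) ∈ D.Q x := fun g hg e =>
    hker g hg ((hθtriv g).1 ((hθ'1 g).1 e))
  -- conjugating an element with trivial image
  have hconjP : ∀ g : ↥(D.Gv x), ∀ z : X, z ∈ P → z ∉ D.Q x → (g : X) * z * (g : X)⁻¹ ∈ M →
      (g : X) ∈ M := fun g z hz hzQ hgz => D.mem_M_of_conj h g.2 hz hzQ hgz
  have hpart : ∀ u : ↥(D.Gv x), IsPGroup p (Subgroup.zpowers (u : X)) → θ' u ≠ 1 →
      ∃ m : ↥(D.Gv x), ∃ z ∈ P, z ∉ D.Q x ∧ (u : X) = (m : X) * z * (m : X)⁻¹ := by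
    intro u hu hu1
    obtain ⟨P', hP', huP'⟩ := D.exists_ge (Subgroup.zpowers (u : X))
      (Subgroup.zpowers_le.2 u.2) hu
    obtain ⟨m, hm, rfl⟩ := D.conj_I h hP'
    have hz := mem_cj.1 (huP' (Subgroup.mem_zpowers _))
    refine ⟨⟨m, hm⟩, _, hz, fun hzQ => hu1 (hQ1 u ?_), by simp [mul_assoc]⟩
    simpa [mul_assoc] using D.normQ m hm _ hzQ
  have hE : IsEmbeddedOffender p Mb Ab (Additive A) :=
    { faithful := fun g hg => by
        obtain ⟨g, rfl⟩ := hθ's g
        refine (hθ'1 g).2 (MulEquiv.ext fun a => ?_)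
        exact congrArg Additive.toMul (hg (Additive.ofMul a))
      exponent := fun v => by
        refine Additive.toMul.injective ?_
        obtain ⟨w, hw⟩ := QuotientGroup.mk_surjective v.toMul
        rw [toMul_nsmul, toMul_zero, ← hw, ← QuotientGroup.mk_pow, QuotientGroup.eq_one_iff,
          Subgroup.mem_subgroupOf]
        simpa using hWp w w.2
      embedded := fun g hg k hk hgk hkp => by
        obtain ⟨g, rfl⟩ := hθ's g
        obtain ⟨u, hu, rfl⟩ := hk
        rw [hmemM] at hg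
        -- the `p`-part of `u`
        obtain ⟨a, m, hm, hom⟩ := Nat.exists_eq_pow_mul_and_not_dvd
          (orderOf_pos u).ne' p hp.out.ne_one
        by_contra hk1
        have hum : θ' (u ^ m) ≠ 1 := by
          intro e
          rw [map_pow] at e
          refine hk1 (orderOf_eq_one_iff.1 (Nat.eq_one_of_dvd_coprimes
            ((hp.out.coprime_iff_not_dvd).2 hm) ?_ (orderOf_dvd_of_pow_eq_one e)))
          exact orderOf_dvd_of_pow_eq_one hkp
        have hup : IsPGroup p (Subgroup.zpowers ((u ^ m : ↥(D.Gv x)) : X)) := by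
          rintro ⟨z, hz⟩
          obtain ⟨i, rfl⟩ := Subgroup.mem_zpowers_iff.1 hz
          refine ⟨a, Subtype.ext ?_⟩
          have h1 : (u ^ m) ^ p ^ a = 1 := by
            rw [← pow_mul, mul_comm, ← hom, pow_orderOf_eq_one]
          have h2 : (((u ^ m : ↥(D.Gv x)) : X)) ^ p ^ a = 1 := by
            simpa using congrArg Subtype.val h1
          show (((u ^ m : ↥(D.Gv x)) : X) ^ i) ^ p ^ a = 1
          rw [← zpow_natCast, zpow_comm, zpow_natCast, h2, one_zpow]
        obtain ⟨n, z, hz, hzQ, hez⟩ := hpart _ hup hum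
        have humM : ((u ^ m : ↥(D.Gv x)) : X) ∈ M := by simpa using M.pow_mem hu m
        have hn : (n : X) ∈ M := hconjP n z hz hzQ (hez ▸ humM)
        have h2 : θ' (g⁻¹ * u ^ m * g) ∈ Mb := by
          have := Mb.pow_mem hgk m
          rw [show θ' (g⁻¹ * u ^ m * g) = ((θ' g)⁻¹ * θ' u * θ' g) ^ m by
            rw [map_mul, map_mul, map_inv, map_pow, ← inv_inv (θ' g), inv_inv (θ' g)⁻¹,
              conj_pow, inv_inv]]
          exact this
        rw [hmemM] at h2
        have h3 : ((g⁻¹ * n : ↥(D.Gv x)) : X) ∈ M := hconjP _ z hz hzQ (by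
          have e : ((g⁻¹ * n : ↥(D.Gv x)) : X) * z * ((g⁻¹ * n : ↥(D.Gv x)) : X)⁻¹ =
              (g : X)⁻¹ * ((u ^ m : ↥(D.Gv x)) : X) * g := by rw [hez]; simp [mul_assoc]
          rw [e]; simpa using h2)
        refine hg ?_
        simpa [mul_assoc] using M.mul_mem hn (M.inv_mem h3)
      absorb := fun R hR ⟨k, hkR, hkM, hk1⟩ => by
        obtain ⟨R', hR', rfl⟩ := pgroup_lift θ' R hR (fun r _ => hθ's r)
        obtain ⟨r, hr, rfl⟩ := hkR
        rw [hmemM] at hkM
        obtain ⟨P', hP', hle⟩ := D.exists_ge (R'.map (D.Gv x).subtype)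
          (Subgroup.map_subtype_le _) (hR'.map _)
        obtain ⟨g, hg, rfl⟩ := D.conj_I h hP'
        have hz := mem_cj.1 (hle ⟨r, hr, rfl⟩)
        have hgM : g ∈ M := hconjP ⟨g, hg⟩ _ hz (fun hzQ => hk1 (hQ1 r (by
          simpa [mul_assoc] using D.normQ g hg _ hzQ))) (by simpa [mul_assoc] using hkM)
        rintro _ ⟨s, hs, rfl⟩
        rw [hmemM]
        have := hPM (mem_cj.1 (hle ⟨s, hs, rfl⟩))
        simpa [mul_assoc] using M.mul_mem (M.mul_mem hgM this) (M.inv_mem hgM)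
      le_M := fun a ha => by
        obtain ⟨u, hu, rfl⟩ := ha
        exact (hmemM u).2 (hPM (hBP hu))
      ne_bot := fun e => by
        obtain ⟨b, hb, hbQ⟩ := hBne
        refine hbQ (hP1 ⟨b, hBG hb⟩ (hBP hb) (Subgroup.mem_bot.1 ?_))
        rw [← e]; exact ⟨⟨b, hBG hb⟩, hb, rfl⟩
      pow_eq := fun a ha => by
        obtain ⟨u, hu, rfl⟩ := ha
        rw [← map_pow]; exact hQ1 _ (by simpa using hBp _ hu)
      quad := fun a ha v b hb => by
        obtain ⟨a, ha, rfl⟩ := ha
        obtain ⟨b, hb, rfl⟩ := hb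
        obtain ⟨w, hw⟩ := QuotientGroup.mk_surjective v.toMul
        refine Additive.toMul.injective ?_
        show θ b ((θ a v.toMul) / v.toMul) = (θ a v.toMul) / v.toMul
        rw [← hw, hθ, ← QuotientGroup.mk_div]
        refine (hθ1 b _).2 ?_
        have h1 := quad _ ha _ hb _ w.2
        simpa [commutatorElement_def, div_eq_mul_inv, c] using h1
      offender := by
        -- `|W/Y| |Q| ≤ |B| |C/Y|`
        set CY := (C ⊔ Y).subgroupOf W with hCY
        have hle : ∀ v ∈ CY.map (QuotientGroup.mk' (Y.subgroupOf W)), Additive.ofMul v ∈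
            (fixedSub Ab : AddSubgroup (Additive A)) := by
          rintro _ ⟨w, hw, rfl⟩ _ ⟨b, hb, rfl⟩
          refine Additive.toMul.injective ?_
          refine (hθ1 b w).2 ?_
          have hsub : C ⊔ Y ≤ (⨅ _ : True, W ⊓ ({
              carrier := {z | z ∈ W ∧ ⁅(b : X), z⁆ ∈ Y}
              one_mem' := ⟨W.one_mem, by simp⟩
              mul_mem' := fun {u v} hu hv => ⟨W.mul_mem hu.1 hv.1, by
                have h1 := hWc _ hu.1 _ (hYW hv.2)
                have h2 : ⁅(b : X), u * v⁆ = ⁅(b : X), u⁆ * (⁅u, ⁅(b : X), v⁆⁆ * ⁅(b : X), v⁆) := by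
                  simp [commutatorElement_def, mul_assoc]
                rw [h2]; exact Y.mul_mem hu.2 (Y.mul_mem h1 hv.2)⟩
              inv_mem' := fun {u} hu => ⟨W.inv_mem hu.1, by
                have h1 := hWc _ (W.inv_mem hu.1) _ (hYW hu.2)
                have h2 : ⁅(b : X), u⁻¹⁆ = (⁅u⁻¹, ⁅(b : X), u⁆⁆ * ⁅(b : X), u⁆)⁻¹ := by
                  simp [commutatorElement_def, mul_assoc]
                rw [h2]; exact Y.inv_mem (Y.mul_mem h1 hu.2)⟩ } : Subgroup X)) := by
            refine le_iInf fun _ => sup_le (fun z hz => ⟨hCW hz, hCW hz, hC z hz _ hb⟩)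
              (fun z hz => ⟨hYW hz, hYW hz, ?_⟩)
            exact Y.mul_mem (hnY _ b.2 _ hz) (Y.inv_mem hz)
          exact ((Subgroup.mem_iInf.1 (hsub hw)) trivial).2.2
        have hcardW : Nat.card W = Nat.card A * Nat.card (Y.subgroupOf W) :=
          Subgroup.card_eq_card_quotient_mul_card_subgroup _
        have hC1 : Nat.card C ≤ Nat.card (CY.map (QuotientGroup.mk' (Y.subgroupOf W))) *
            Nat.card (Y.subgroupOf W) := by
          have hYC : Y.subgroupOf W ≤ CY := Subgroup.comap_mono le_sup_right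
          have e : Nat.card CY = Nat.card (CY.map (QuotientGroup.mk' (Y.subgroupOf W))) *
              Nat.card (Y.subgroupOf W) := by
            rw [Subgroup.card_eq_card_quotient_mul_card_subgroup
              ((QuotientGroup.mk' (Y.subgroupOf W)).comp CY.subtype).ker,
              Nat.card_congr (QuotientGroup.quotientKerEquivRange _).toEquiv, MonoidHom.range_comp,
              Subgroup.range_subtype]
            congr 1
            rw [← MonoidHom.comap_ker, QuotientGroup.ker_mk']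
            exact Nat.card_congr (Subgroup.subgroupOfEquivOfLe hYC).toEquiv
          rw [← e, Nat.card_congr (Subgroup.subgroupOfEquivOfLe (sup_le hCW hYW)).toEquiv]
          exact Subgroup.card_le_of_le le_sup_left
        have hC2 : Nat.card (CY.map (QuotientGroup.mk' (Y.subgroupOf W))) ≤
            Nat.card (fixedSub Ab : AddSubgroup (Additive A)) :=
          Nat.card_le_card_of_injective (fun v => ⟨Additive.ofMul v.1, hle _ v.2⟩) fun a b e => by
            apply Subtype.ext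
            exact Additive.ofMul.injective (Subtype.mk.inj e)
        have hB : Nat.card B = Nat.card Ab * Nat.card (D.Q x) := by
          set f := θ'.comp (Subgroup.inclusion hBG) with hf
          rw [Subgroup.card_eq_card_quotient_mul_card_subgroup f.ker,
            Nat.card_congr (QuotientGroup.quotientKerEquivRange _).toEquiv]
          have e1 : f.range = Ab := by
            ext k
            constructor
            · rintro ⟨b, rfl⟩; exact ⟨Subgroup.inclusion hBG b, b.2, rfl⟩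
            · rintro ⟨u, hu, rfl⟩; exact ⟨⟨u, hu⟩, rfl⟩
          have e2 : f.ker = (D.Q x).subgroupOf B := by
            ext b
            exact ⟨fun hb => hP1 (Subgroup.inclusion hBG b) (hBP b.2) hb,
              fun hb => hQ1 (Subgroup.inclusion hBG b) hb⟩
          rw [e1, e2, Nat.card_congr (Subgroup.subgroupOfEquivOfLe hQB).toEquiv]
        rw [hcardW, hB] at hoff
        change Nat.card A ≤ _
        have hpos : 0 < Nat.card (D.Q x) * Nat.card (Y.subgroupOf W) :=
          Nat.mul_pos Nat.card_pos Nat.card_pos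
        refine Nat.le_of_mul_le_mul_right ?_ hpos
        calc Nat.card A * (Nat.card (D.Q x) * Nat.card (Y.subgroupOf W))
            = Nat.card A * Nat.card (Y.subgroupOf W) * Nat.card (D.Q x) := by ring
          _ ≤ Nat.card Ab * Nat.card (D.Q x) * Nat.card C := hoff
          _ ≤ Nat.card Ab * Nat.card (D.Q x) *
              (Nat.card (fixedSub Ab : AddSubgroup (Additive A)) * Nat.card (Y.subgroupOf W)) :=
            Nat.mul_le_mul_left _ (hC1.trans (Nat.mul_le_mul_right _ hC2))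
          _ = _ := by ring }
  -- `H` is generated by `p`-elements
  obtain ⟨b₀, hb₀, hb₀Q⟩ := hBne
  have hgen : Subgroup.closure {y : H | ∃ n : ℕ, y ^ p ^ n = 1} = ⊤ := by
    set K := Subgroup.closure {y : H | ∃ n : ℕ, y ^ p ^ n = 1} with hK
    set N := (K.comap θ').map (D.Gv x).subtype with hN
    have hPK : ∀ g ∈ D.Gv x, ∀ z : ↥(D.Gv x), (z : X) ∈ cj g P → θ' z ∈ K := by
      intro g hg z hz
      obtain ⟨n, hn⟩ := (D.pgroup (D.I_conj hg h)) ⟨(z : X), hz⟩
      refine Subgroup.subset_closure ⟨n, ?_⟩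
      rw [← map_pow, show z ^ p ^ n = 1 from Subtype.ext (by simpa using congrArg Subtype.val hn),
        map_one]
    obtain ⟨g, hg, hgM⟩ := D.exists_not_mem h
    have hN' : N = D.Gv x := by
      refine D.eq_G_of_conj h (Subgroup.map_subtype_le _) (fun z hz => ?_) hg hgM (hBP hb₀) hb₀Q ?_
      · exact ⟨⟨z, hPG hz⟩, hPK 1 (one_mem _) ⟨z, hPG hz⟩ (by rw [cj_one]; exact hz), rfl⟩
      · exact ⟨⟨g * b₀ * g⁻¹, (D.Gv x).mul_mem ((D.Gv x).mul_mem hg (hBG hb₀))
          ((D.Gv x).inv_mem hg)⟩, hPK g hg _ (conj_mem_cj (hBP hb₀)), rfl⟩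
    refine (Subgroup.eq_top_iff' _).2 fun k => ?_
    obtain ⟨u, rfl⟩ := hθ's k
    have h1 : (u : X) ∈ N := by rw [hN']; exact u.2
    obtain ⟨v, hv, e⟩ := h1
    rwa [show v = u from Subtype.ext e] at hv
  have hMb : Mb ≠ ⊤ := fun e => by
    obtain ⟨g, hg, hgM⟩ := D.exists_not_mem h
    exact hgM ((hmemM ⟨g, hg⟩).1 (e ▸ Subgroup.mem_top _))
  obtain ⟨F', hF', hF'', ρ, ψ, hcard, hψ, hψ0, hρ⟩ := hE.exists_sl2 hMb hgen
  -- the cardinality of `F'`
  set Pb : Subgroup H := (P.subgroupOf (D.Gv x)).map θ' with hPb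
  have hPbc : Nat.card Pb = q := by
    set f := θ'.comp (Subgroup.inclusion hPG) with hf
    have e1 : f.range = Pb := by
      ext k
      constructor
      · rintro ⟨b, rfl⟩; exact ⟨Subgroup.inclusion hPG b, b.2, rfl⟩
      · rintro ⟨u, hu, rfl⟩; exact ⟨⟨u, hu⟩, rfl⟩
    have e2 : f.ker = (D.Q x).subgroupOf P := by
      ext b
      exact ⟨fun hb => hP1 (Subgroup.inclusion hPG b) b.2 hb,
        fun hb => hQ1 (Subgroup.inclusion hPG b) hb⟩
    have e := Subgroup.card_eq_card_quotient_mul_card_subgroup f.ker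
    rw [Nat.card_congr (QuotientGroup.quotientKerEquivRange _).toEquiv, e1, e2,
      Nat.card_congr (Subgroup.subgroupOfEquivOfLe (D.Q_le h)).toEquiv, D.card h] at e
    exact (Nat.eq_of_mul_eq_mul_right Nat.card_pos e).symm
  have hAbPb : Ab ≤ Pb := Subgroup.map_mono (Subgroup.comap_mono hBP)
  have hcF : Fintype.card F' = q := by
    refine le_antisymm (hcard ▸ hPbc ▸ Subgroup.card_le_of_le hAbPb) ?_
    have hdvd : q ∣ Nat.card (SL(2, F')) := by
      rw [← hPbc, ← Nat.card_congr ρ.toEquiv]; exact Subgroup.card_subgroup_dvd_card _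
    rw [CfsgLib.SL2.card_SL, Nat.card_eq_fintype_card] at hdvd
    obtain ⟨j, hj⟩ : ∃ j, Fintype.card F' = p ^ j := by
      obtain ⟨j, hj⟩ := IsPGroup.iff_card.1 (hE.isPGroup)
      exact ⟨j, hcard ▸ hj⟩
    obtain ⟨i, hi⟩ : ∃ i, q = p ^ i := by
      obtain ⟨i, hi⟩ := IsPGroup.iff_card.1 (((D.pgroup h).of_equiv
        (Subgroup.subgroupOfEquivOfLe hPG).symm).map θ')
      exact ⟨i, hPbc ▸ hi⟩
    have hj0 : j ≠ 0 := fun e => by
      have := Fintype.one_lt_card (α := F')
      rw [hj, e, pow_zero] at this; omega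
    rw [hj, hi] at hdvd ⊢
    refine Nat.le_of_dvd (pow_pos hp.out.pos _) ((Nat.Coprime.dvd_mul_right ?_).1 hdvd)
    refine Nat.Coprime.pow_left _ ((hp.out.coprime_iff_not_dvd).2 fun hd => hp.out.one_lt.ne' ?_)
    have h2 : p ∣ (p ^ j) ^ 2 := dvd_pow (dvd_pow_self p hj0) two_ne_zero
    have h3 : 1 ≤ (p ^ j) ^ 2 := Nat.one_le_pow _ _ (pow_pos hp.out.pos _)
    have h4 := Nat.dvd_sub h2 hd
    rw [Nat.sub_sub_self h3] at h4
    exact Nat.dvd_one.1 h4
  have hBP' : B = P := by
    refine Subgroup.eq_of_le_of_card_ge hBP ?_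
    set f := θ'.comp (Subgroup.inclusion hBG) with hf
    have e1 : f.range = Ab := by
      ext k
      constructor
      · rintro ⟨b, rfl⟩; exact ⟨Subgroup.inclusion hBG b, b.2, rfl⟩
      · rintro ⟨u, hu, rfl⟩; exact ⟨⟨u, hu⟩, rfl⟩
    have e2 : f.ker = (D.Q x).subgroupOf B := by
      ext b
      exact ⟨fun hb => hP1 (Subgroup.inclusion hBG b) (hBP b.2) hb,
        fun hb => hQ1 (Subgroup.inclusion hBG b) hb⟩
    have e := Subgroup.card_eq_card_quotient_mul_card_subgroup f.ker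
    rw [Nat.card_congr (QuotientGroup.quotientKerEquivRange _).toEquiv, e1, e2,
      Nat.card_congr (Subgroup.subgroupOfEquivOfLe hQB).toEquiv] at e
    rw [e, D.card h, ← hcard, hcF]
  refine ⟨hBP', ?_⟩
  let σ : F' ≃+* F := FiniteField.ringEquivOfCardEq (hcF.trans hF.symm)
  let σS : SL(2, F') ≃* SL(2, F) :=
    { toFun := fun g => Matrix.SpecialLinearGroup.map σ.toRingHom g
      invFun := fun g => Matrix.SpecialLinearGroup.map σ.symm.toRingHom g
      left_inv := fun g => by ext i j; simp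
      right_inv := fun g => by ext i j; simp
      map_mul' := map_mul _ }
  refine ⟨{
    ρ := σS.toMonoidHom.comp (ρ.toMonoidHom.comp θ')
    ψ := fun w i => σ (ψ (Additive.ofMul (QuotientGroup.mk w : A)) i)
    surjρ := σS.surjective.comp (ρ.surjective.comp hθ's)
    surjψ := fun f => ?_
    map_mul := fun a b => ?_
    ker := fun w => ?_
    equiv := fun g w w' e => ?_
    kerρ := fun g => ?_
    kerQ := fun g hg => by
      simp [hQ1 g hg]
    kerP := fun P' hP' g hg e => by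
      simp only [MonoidHom.comp_apply, MulEquiv.coe_toMonoidHom, EmbeddingLike.map_eq_one_iff] at e
      obtain ⟨m, hm, rfl⟩ := D.conj_I h hP'
      have h1 := hP1 (⟨m, hm⟩⁻¹ * g * ⟨m, hm⟩) (by simpa using mem_cj.1 hg)
        (by rw [map_mul, map_mul, e, map_inv, mul_one, inv_mul_cancel])
      simpa [mul_assoc] using D.normQ m hm _ h1
    kerY := fun w hw => by
      funext i
      simp [(QuotientGroup.eq_one_iff w).2 (Subgroup.mem_subgroupOf.2 hw)] }⟩
  · obtain ⟨v, hv⟩ := hψ fun i => σ.symm (f i)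
    obtain ⟨w, hw⟩ := QuotientGroup.mk_surjective v.toMul
    exact ⟨w, by funext i; simp [hw, hv]⟩
  · funext i
    simp [QuotientGroup.mk_mul]
  · have h0 : (fun i => σ (ψ (Additive.ofMul (QuotientGroup.mk w : A)) i)) = 0 ↔
        ψ (Additive.ofMul (QuotientGroup.mk w : A)) = 0 := by
      simp [funext_iff]
    rw [h0, hψ0]
    constructor
    · intro hw g hg
      exact (hθ1 ⟨g, hg⟩ w).1 (congrArg Additive.toMul (hw (θ' ⟨g, hg⟩)))
    · intro hw k
      obtain ⟨g, rfl⟩ := hθ's k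
      exact congrArg Additive.ofMul ((hθ1 g w).2 (hw g g.2))
  · have e1 : θ' g • Additive.ofMul (QuotientGroup.mk w : A) =
        Additive.ofMul (QuotientGroup.mk w' : A) := by
      refine congrArg Additive.ofMul ?_
      show θ g _ = _
      exact (hθ g w).trans (congrArg _ (Subtype.ext e.symm))
    funext i
    rw [← e1, hρ]
    simp [σS, Matrix.mulVec, dotProduct, Fin.sum_univ_two]
  · simp only [MonoidHom.comp_apply, MulEquiv.coe_toMonoidHom, EmbeddingLike.map_eq_one_iff]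
    exact (hθ'1 g).trans (hθtriv g)

end Sys

end CfsgLib.PushUp.RankOne
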