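import Mathlib
import Cfsg.Prelude.Def_LocalEven
import Cfsg.Prelude.Def_PLocal
import Cfsg.Prelude.Def_Solvable
import Cfsg.Prelude.Def_Amalgam
import Cfsg.Prelude.Def_QuasithinSetup
import Cfsg.Agent.Lib.PushUp.RankOne.Coord

/-!
Rank one pushing up: natural sections of a group and chief factors.
-/

set_option autoImplicit false
set_option linter.unusedSectionVars false
set_option linter.style.haveILetI false

namespace CfsgLib.PushUp.RankOne

open Cfsg
open scoped commutatorElement MatrixGroups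
open Matrix
open CfsgLib.ClassicalLinear (upS upS_coe upS_add)

variable {G : Type*} [Group G] {F : Type} [Field F]

local notation "M₂" => Matrix (Fin 2) (Fin 2) F

/-- A section `A / B` of `G` that is a natural module. -/
structure NatSection (A B : Subgroup G) (F : Type) [Field F] where
  le : B ≤ A
  normal : A.Normal
  normal' : B.Normal
  ρ : G →* SL(2, F)
  surjρ : Function.Surjective ρ
  ψ : ↥A → (Fin 2 → F)
  surjψ : Function.Surjective ψ
  map_mul : ∀ a b : ↥A, ψ (a * b) = ψ a + ψ b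
  ker : ∀ a : ↥A, ψ a = 0 ↔ (a : G) ∈ B
  equiv : ∀ (g : G) (a a' : ↥A), (a' : G) = g * a * g⁻¹ → ψ a' = ((ρ g : SL(2, F)) : Matrix (Fin 2) (Fin 2) F) *ᵥ ψ a

namespace NatSection

variable {A B : Subgroup G} (S : NatSection A B F)
include S

theorem map_one : S.ψ 1 = 0 := (S.ker 1).2 B.one_mem

theorem map_inv (a : ↥A) : S.ψ a⁻¹ = -S.ψ a := by
  have h := S.map_mul a⁻¹ a
  rw [inv_mul_cancel, S.map_one] at h
  exact eq_neg_of_add_eq_zero_left h.symm

theorem rho_eq_one_iff (g : G) : S.ρ g = 1 ↔ ∀ a ∈ A, ⁅g, a⁆ ∈ B := by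
  haveI := S.normal
  have hmem : ∀ a ∈ A, ⁅g, a⁆ ∈ A := fun a ha =>
    A.mul_mem (Subgroup.Normal.conj_mem inferInstance a ha g) (A.inv_mem ha)
  have hkey : ∀ a : ↥A, S.ψ ⟨_, hmem a a.2⟩ = ((S.ρ g : SL(2, F)) : M₂) *ᵥ S.ψ a - S.ψ a := fun a => by
    rw [← S.equiv g a (⟨_, hmem a a.2⟩ * a) (by simp [commutatorElement_def]), S.map_mul]; simp
  constructor
  · intro e a ha
    refine (S.ker ⟨_, hmem a ha⟩).1 ?_
    rw [hkey ⟨a, ha⟩, e, sl_one_mulVec, sub_self]
  · intro h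
    have hfix : ∀ u, ((S.ρ g : SL(2, F)) : M₂) *ᵥ u = u := fun u => by
      obtain ⟨a, rfl⟩ := S.surjψ u
      have h1 := hkey a
      rw [(S.ker ⟨_, hmem a a.2⟩).2 (h a a.2)] at h1
      exact sub_eq_zero.1 h1.symm
    refine Subtype.ext (Matrix.ext fun i j => ?_)
    have h1 := congrFun (hfix (Pi.single j 1)) i
    rw [Matrix.SpecialLinearGroup.coe_one]
    simpa [Matrix.one_apply, Pi.single_apply] using h1

/-- A normal subgroup of the section is trivial or everything in it. -/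
theorem dichotomy {T : Subgroup G} (hT : T.Normal) (hTA : T ≤ A) :
    T ≤ B ∨ A ≤ B ⊔ T := by
  by_cases h : T ≤ B
  · exact Or.inl h
  refine Or.inr fun a ha => ?_
  obtain ⟨t, ht, htB⟩ := SetLike.not_le_iff_exists.1 h
  have ht0 : S.ψ ⟨t, hTA ht⟩ ≠ 0 := fun e => htB ((S.ker _).1 e)
  by_cases ha0 : S.ψ ⟨a, ha⟩ = 0
  · exact Subgroup.mem_sup_left ((S.ker _).1 ha0)
  obtain ⟨γ, hγ⟩ := exists_mulVec_eq ht0 ha0
  obtain ⟨g, rfl⟩ := S.surjρ γ
  have ht' : g * t * g⁻¹ ∈ T := hT.conj_mem t ht g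
  rw [← S.equiv g ⟨t, hTA ht⟩ ⟨_, hTA ht'⟩ rfl] at hγ
  have hB : ((⟨a, ha⟩ * ⟨_, hTA ht'⟩⁻¹ : ↥A) : G) ∈ B := (S.ker _).1 (by
    rw [S.map_mul, S.map_inv, hγ, add_neg_cancel])
  have := Subgroup.mul_mem (B ⊔ T) (Subgroup.mem_sup_left hB) (Subgroup.mem_sup_right ht')
  rwa [Subgroup.coe_mul, InvMemClass.coe_inv, inv_mul_cancel_right] at this

theorem lt : B < A := by
  refine lt_of_le_of_ne S.le fun e => ?_
  obtain ⟨a, ha⟩ := S.surjψ ![1, 0]
  rw [(S.ker a).2 (e ▸ a.2)] at ha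
  simpa using congrFun ha 0

theorem chief : IsChiefFactor A B := by
  refine ⟨S.lt, S.normal, S.normal', fun N hN hBN hNA => ?_⟩
  rcases S.dichotomy hN hNA with h | h
  · exact Or.inl (le_antisymm h hBN)
  · exact Or.inr (le_antisymm hNA (h.trans (sup_le hBN le_rfl)))

theorem noncentral : ¬ ⁅A, (⊤ : Subgroup G)⁆ ≤ B := by
  intro h
  obtain ⟨g, hg⟩ := S.surjρ (upS 1)
  have h1 : S.ρ g = 1 := (S.rho_eq_one_iff g).2 fun a ha => by
    rw [← commutatorElement_inv]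
    exact B.inv_mem (h (Subgroup.commutator_mem_commutator ha (Subgroup.mem_top g)))
  rw [hg] at h1
  have h2 := congrArg (fun M : SL(2, F) => (M : M₂) 0 1) h1
  rw [upS_coe, Matrix.SpecialLinearGroup.coe_one] at h2
  simp at h2

end NatSection

theorem iter_normal {A : Subgroup G} (hA : A.Normal) : ∀ k, (iterCommutator A ⊤ k).Normal
  | 0 => hA
  | k + 1 => by
    haveI := iter_normal hA k
    show (⁅iterCommutator A ⊤ k, ⊤⁆ : Subgroup G).Normal
    infer_instance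

/-- A noncentral chief factor does not see hypercentral sections. -/
theorem le_sup_iter {U W : Subgroup G} (h : IsChiefFactor U W) (hnc : ¬ ⁅U, (⊤ : Subgroup G)⁆ ≤ W)
    {A : Subgroup G} (hA : A.Normal) (hUA : U ≤ W ⊔ A) : ∀ k, U ≤ W ⊔ iterCommutator A ⊤ k
  | 0 => hUA
  | k + 1 => by
    obtain ⟨hlt, hU, hW, hmax⟩ := h
    have ih := le_sup_iter ⟨hlt, hU, hW, hmax⟩ hnc hA hUA k
    haveI := hU; haveI := hW; haveI := iter_normal hA k
    have h1 : U = W ⊔ ⁅U, (⊤ : Subgroup G)⁆ := by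
      rcases hmax _ (Subgroup.sup_normal W _) le_sup_left
        (sup_le hlt.le (Subgroup.commutator_le_left U ⊤)) with e | e
      · exact absurd (sup_eq_left.1 e) hnc
      · exact e.symm
    have h2 : ⁅W ⊔ iterCommutator A ⊤ k, (⊤ : Subgroup G)⁆ ≤ W ⊔ iterCommutator A ⊤ (k + 1) := by
      rw [Subgroup.commutator_le]
      intro x hx g _
      obtain ⟨w, hw, a, ha, rfl⟩ := Subgroup.mem_sup_of_normal_left.1 hx
      have e : ⁅w * a, g⁆ = w * ⁅a, g⁆ * w⁻¹ * ⁅w, g⁆ := by simp [commutatorElement_def, mul_assoc]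
      rw [e]
      exact Subgroup.mul_mem _ (Subgroup.mul_mem _ (Subgroup.mul_mem _ (Subgroup.mem_sup_left hw)
        (Subgroup.mem_sup_right (Subgroup.commutator_mem_commutator ha (Subgroup.mem_top g))))
        (Subgroup.inv_mem _ (Subgroup.mem_sup_left hw)))
        (Subgroup.mem_sup_left (W.mul_mem hw (Subgroup.Normal.conj_mem hW _ (W.inv_mem hw) g) |> fun h => by
          simpa [commutatorElement_def, mul_assoc] using h))
    rw [h1]
    exact sup_le le_sup_left ((Subgroup.commutator_mono ih le_rfl).trans h2)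

theorem le_inf_iter {U W : Subgroup G} (h : IsChiefFactor U W)
    (hnc : ¬ ⁅U, (⊤ : Subgroup G)⁆ ≤ W) {A B : Subgroup G} (hA : A.Normal)
    (hUA : U ≤ W ⊔ (U ⊓ A)) (hAB : ∃ k, iterCommutator A ⊤ k ≤ B) : U ≤ W ⊔ (U ⊓ B) := by
  obtain ⟨k, hk⟩ := hAB
  haveI := h.2.1
  haveI := hA
  have h1 := le_sup_iter h hnc (Subgroup.normal_inf_normal U A) hUA k
  refine h1.trans (sup_le_sup_left (le_inf ?_ ?_) W)
  · suffices ∀ j, iterCommutator (U ⊓ A) ⊤ j ≤ U from this k
    intro j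
    induction j with
    | zero => exact inf_le_left
    | succ j ih => exact (Subgroup.commutator_mono ih le_rfl).trans (Subgroup.commutator_le_left U ⊤)
  · refine le_trans ?_ hk
    suffices ∀ j, iterCommutator (U ⊓ A) ⊤ j ≤ iterCommutator A ⊤ j from this k
    intro j
    induction j with
    | zero => exact inf_le_right
    | succ j ih => exact Subgroup.commutator_mono ih le_rfl

/-- A noncentral chief factor covered by a natural section is natural, or is covered below. -/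
theorem NatSection.cover {A B : Subgroup G} (S : NatSection A B F) {U W : Subgroup G} [W.Normal]
    (h : IsChiefFactor U W) (hUA : U ≤ W ⊔ (U ⊓ A)) :
    IsNaturalSL2Module F (U.map (QuotientGroup.mk' W)) (⊤ : Subgroup (G ⧸ W)) ∨
      U ≤ W ⊔ (U ⊓ B) := by
  obtain ⟨hlt, hU, -, hmax⟩ := h
  haveI := hU; haveI := S.normal; haveI := S.normal'
  have hTn : (U ⊓ A).Normal := Subgroup.normal_inf_normal U A
  rcases hmax _ (Subgroup.sup_normal W (U ⊓ B)) le_sup_left (sup_le hlt.le inf_le_left) with e | e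
  swap
  · exact Or.inr e.ge
  have hUB : U ⊓ B ≤ W := sup_eq_left.1 e
  refine Or.inl ?_
  set T := U ⊓ A with hT
  have hTB : T ⊓ B ≤ W := fun t ht => hUB ⟨ht.1.1, ht.2⟩
  have hTW : ¬ T ≤ W := fun hle => hlt.not_ge (hUA.trans (sup_le le_rfl hle))
  have hAT : A ≤ B ⊔ T := (S.dichotomy hTn inf_le_right).resolve_left fun hle =>
    hTW (le_trans (le_inf le_rfl hle) hTB)
  have hWTB : W ⊓ T ≤ B := by
    refine (S.dichotomy (Subgroup.normal_inf_normal W T) (inf_le_right.trans inf_le_right)).resolve_right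
      fun hle => hTW fun t ht => ?_
    obtain ⟨b, hb, w, hw, rfl⟩ := Subgroup.mem_sup_of_normal_left.1 (hle ht.2)
    refine W.mul_mem (hTB ⟨?_, hb⟩) hw.1
    simpa using T.mul_mem ht (T.inv_mem hw.2)
  -- the two maps on `T`
  set V := U.map (QuotientGroup.mk' W) with hV
  let π : ↥T →* ↥V := ((QuotientGroup.mk' W).comp T.subtype).codRestrict V fun t => ⟨t, t.2.1, rfl⟩
  have hπ : Function.Surjective π := by
    rintro ⟨_, u, hu, rfl⟩
    obtain ⟨w, hw, t, ht, rfl⟩ := Subgroup.mem_sup_of_normal_left.1 (hUA hu)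
    refine ⟨⟨t, ht⟩, Subtype.ext ?_⟩
    show (QuotientGroup.mk t : G ⧸ W) = QuotientGroup.mk (w * t)
    rw [QuotientGroup.mk_mul, (QuotientGroup.eq_one_iff w).2 hw, one_mul]
  let φ : ↥T →* Multiplicative (Fin 2 → F) :=
    { toFun := fun t => Multiplicative.ofAdd (S.ψ ⟨t, t.2.2⟩)
      map_one' := congrArg Multiplicative.ofAdd S.map_one
      map_mul' := fun a b => congrArg Multiplicative.ofAdd (S.map_mul ⟨a, a.2.2⟩ ⟨b, b.2.2⟩) }
  have hφ : Function.Surjective φ := fun u => by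
    obtain ⟨a, ha⟩ := S.surjψ u.toAdd
    obtain ⟨b, hb, t, ht, e⟩ := Subgroup.mem_sup_of_normal_left.1 (hAT a.2)
    refine ⟨⟨t, ht⟩, congrArg Multiplicative.ofAdd (Eq.trans ?_ ha)⟩
    rw [show a = ⟨b, S.le hb⟩ * ⟨t, ht.2⟩ from Subtype.ext e.symm, S.map_mul,
      (S.ker ⟨b, S.le hb⟩).2 hb, zero_add]
  have hker : φ.ker = π.ker := by
    ext t
    constructor
    · intro ht
      refine Subtype.ext ((QuotientGroup.eq_one_iff (t : G)).2 (hTB ⟨t.2, ?_⟩))
      exact (S.ker ⟨t, t.2.2⟩).1 (Multiplicative.ofAdd.injective ht)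
    · intro ht
      have h1 : (t : G) ∈ W := (QuotientGroup.eq_one_iff (t : G)).1 (congrArg Subtype.val ht)
      exact congrArg Multiplicative.ofAdd ((S.ker ⟨t, t.2.2⟩).2 (hWTB ⟨h1, t.2⟩))
  let eV : ↥V ≃* Multiplicative (Fin 2 → F) :=
    ((QuotientGroup.quotientKerEquivOfSurjective π hπ).symm.trans
      (QuotientGroup.quotientMulEquivOfEq hker.symm)).trans
      (QuotientGroup.quotientKerEquivOfSurjective φ hφ)
  have heV : ∀ t, eV (π t) = φ t := fun t => by
    show (QuotientGroup.quotientKerEquivOfSurjective φ hφ) (QuotientGroup.quotientMulEquivOfEq hker.symm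
      ((QuotientGroup.quotientKerEquivOfSurjective π hπ).symm (π t))) = φ t
    rw [show (QuotientGroup.quotientKerEquivOfSurjective π hπ).symm (π t) = QuotientGroup.mk t from
      (MulEquiv.symm_apply_eq _).2 rfl]
    rfl
  -- the action
  have hWρ : W ≤ S.ρ.ker := fun w hw => (S.rho_eq_one_iff w).2 fun a ha => by
    obtain ⟨b, hb, t, ht, rfl⟩ := Subgroup.mem_sup_of_normal_left.1 (hAT ha)
    have e : ⁅w, b * t⁆ = ⁅w, b⁆ * (b * ⁅w, t⁆ * b⁻¹) := by simp [commutatorElement_def, mul_assoc]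
    rw [e]
    refine B.mul_mem (B.mul_mem (Subgroup.Normal.conj_mem S.normal' b hb w) (B.inv_mem hb))
      (B.mul_mem (B.mul_mem hb (hWTB ⟨?_, ?_⟩)) (B.inv_mem hb))
    · simpa [commutatorElement_def, mul_assoc] using
        W.mul_mem hw (Subgroup.Normal.conj_mem ‹W.Normal› _ (W.inv_mem hw) t)
    · exact T.mul_mem (hTn.conj_mem t ht w) (T.inv_mem ht)
  refine ⟨fun g _ => ?_, (QuotientGroup.lift W S.ρ hWρ).comp (⊤ : Subgroup (G ⧸ W)).subtype,
    MulEquiv.toAdditiveLeft eV, ?_, ?_, ?_⟩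
  · haveI : V.Normal := Subgroup.Normal.map hU _ (QuotientGroup.mk'_surjective W)
    rw [Subgroup.normalizer_eq_top]; trivial
  · intro γ
    obtain ⟨g, rfl⟩ := S.surjρ γ
    exact ⟨⟨QuotientGroup.mk g, trivial⟩, rfl⟩
  · ext ⟨g, hg⟩
    obtain ⟨g, rfl⟩ := QuotientGroup.mk_surjective g
    rw [MonoidHom.mem_ker, Subgroup.mem_subgroupOf, Subgroup.mem_centralizer_iff]
    show S.ρ g = 1 ↔ ∀ z ∈ (V : Set (G ⧸ W)), z * QuotientGroup.mk g = QuotientGroup.mk g * z
    constructor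
    · intro hρ z hz
      obtain ⟨t, e⟩ := hπ ⟨z, hz⟩
      rw [← show (π t : G ⧸ W) = z from congrArg Subtype.val e]
      have h1 : ⁅g, (t : G)⁆ ∈ W := hTB
        ⟨T.mul_mem (hTn.conj_mem t t.2 g) (T.inv_mem t.2), (S.rho_eq_one_iff g).1 hρ t t.2.2⟩
      refine (commutatorElement_eq_one_iff_mul_comm.1 ?_).symm
      rw [← (QuotientGroup.eq_one_iff _).2 h1]; rfl
    · intro hc
      refine (S.rho_eq_one_iff g).2 fun a ha => ?_
      obtain ⟨b, hb, t, ht, rfl⟩ := Subgroup.mem_sup_of_normal_left.1 (hAT ha)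
      have e : ⁅g, b * t⁆ = ⁅g, b⁆ * (b * ⁅g, t⁆ * b⁻¹) := by simp [commutatorElement_def, mul_assoc]
      rw [e]
      refine B.mul_mem (B.mul_mem (Subgroup.Normal.conj_mem S.normal' b hb g) (B.inv_mem hb))
        (B.mul_mem (B.mul_mem hb (hWTB ⟨?_, ?_⟩)) (B.inv_mem hb))
      · refine (QuotientGroup.eq_one_iff _).1 ?_
        exact commutatorElement_eq_one_iff_mul_comm.2 (hc _ (π ⟨t, ht⟩).2).symm
      · exact T.mul_mem (hTn.conj_mem t ht g) (T.inv_mem ht)
  · rintro ⟨g, hg⟩ z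
    obtain ⟨g, rfl⟩ := QuotientGroup.mk_surjective g
    obtain ⟨t, rfl⟩ := hπ z
    have ht' : g * (t : G) * g⁻¹ ∈ T := hTn.conj_mem t t.2 g
    refine ⟨π ⟨_, ht'⟩, rfl, ?_⟩
    show (eV (π ⟨_, ht'⟩)).toAdd = ((S.ρ g : SL(2, F)) : M₂) *ᵥ (eV (π t)).toAdd
    rw [heV, heV]
    exact S.equiv g ⟨t, t.2.2⟩ ⟨_, ht'.2⟩ rfl

end CfsgLib.PushUp.RankOne
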