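import Cfsg.Agent.Lib.PushUp.RankOne.PSLFacts
import Cfsg.Agent.Lib.TwoGroupTricks.PushingUpBase

/-!
Rank one pushing up: elementary consequences of the hypotheses for the abstract group.
-/

set_option autoImplicit false
set_option linter.unusedSectionVars false
set_option linter.style.haveILetI false

namespace CfsgLib.PushUp.RankOne

open Cfsg
open CfsgLib.TwoGroupTricks.PushingUp (le_of_ne_top inf_normal_le_pCore)

variable {G : Type*} [Group G] [Finite G] {p : ℕ} [hp : Fact p.Prime]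

/-- Everything the rank one pushing-up configuration needs from the group. -/
structure Base (G : Type*) [Group G] (p q : ℕ) (S : Subgroup G) (Q V : Subgroup G) (M : Subgroup G) :
    Prop where
  one_lt : 1 < q
  pgroup : IsPGroup p S
  normQ : Q.Normal
  normV : V.Normal
  Q_le : Q ≤ S
  V_le : V ≤ Q
  comm : ∀ a ∈ Q, ∀ v ∈ V, a * v = v * a
  powV : ∀ v ∈ V, v ^ p = 1
  conj : ∀ H : Subgroup G, IsPGroup p H → ∃ g : G, H ≤ S.map (MulAut.conj g).toMonoidHom
  card : Nat.card S = q * Nat.card Q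
  cent : ∀ g ∈ S, (∀ v ∈ V, g * v = v * g) → g ∈ Q
  center_le : ∀ z ∈ S, (∀ g ∈ S, g * z = z * g) → z ^ p = 1 → z ∈ V
  le_M : S ≤ M
  M_ne : M ≠ ⊤
  uniq : ∀ H : Subgroup G, S ≤ H → H ≠ ⊤ → H ≤ M
  ti : ∀ g : G, ∀ z ∈ S, z ∉ Q → g * z * g⁻¹ ∈ S → g ∈ M
  centV : ∀ g : G, (∀ v ∈ V, g * v = v * g) → g ∈ M
  core : ∀ T : Subgroup G, T ≤ S → T.Normal →
    (∀ α : ↥S ≃* ↥S, (T.subgroupOf S).map α.toMonoidHom = T.subgroupOf S) → T = ⊥

/-- The normal subgroup of elements of order `p` of the centre of a normal subgroup. -/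
def omegaCenter (p : ℕ) (Q : Subgroup G) : Subgroup G where
  carrier := {z | z ∈ Q ∧ (∀ a ∈ Q, a * z = z * a) ∧ z ^ p = 1}
  one_mem' := ⟨Q.one_mem, fun a _ => by simp, one_pow p⟩
  mul_mem' := fun {z w} hz hw => ⟨Q.mul_mem hz.1 hw.1,
    fun a ha => (Commute.mul_right (hz.2.1 a ha) (hw.2.1 a ha)),
    by rw [(show Commute z w from hw.2.1 z hz.1).mul_pow, hz.2.2, hw.2.2, mul_one]⟩
  inv_mem' := fun {z} hz => ⟨Q.inv_mem hz.1, fun a ha => (Commute.inv_right (hz.2.1 a ha)),
    by rw [inv_pow, hz.2.2, inv_one]⟩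

omit [Finite G] hp in
theorem omegaCenter_normal {Q : Subgroup G} (hQ : Q.Normal) : (omegaCenter p Q).Normal :=
  ⟨fun z hz g => ⟨hQ.conj_mem z hz.1 g, fun a ha => by
    have h1 := hz.2.1 _ (hQ.conj_mem a ha g⁻¹)
    rw [inv_inv] at h1
    calc a * (g * z * g⁻¹) = g * (g⁻¹ * a * g * z) * g⁻¹ := by simp [mul_assoc]
      _ = g * (z * (g⁻¹ * a * g)) * g⁻¹ := by rw [h1]
      _ = g * z * g⁻¹ * a := by simp [mul_assoc],
    by rw [conj_pow, hz.2.2, mul_one, mul_inv_cancel]⟩⟩

theorem exists_base (S : Sylow p G) (hE₁ : Subgroup.centralizer (pCore p G : Set G) ≤ pCore p G)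
    (hE₂ : ∃! M : Subgroup G, IsCoatom M ∧ (S : Subgroup G) ≤ M) (K : Subgroup G) [K.Normal]
    (F : Type) [Field F] [Fintype F] (n : ℕ) (hn : 1 ≤ n) (hF : Fintype.card F = p ^ n)
    (hE₃ : Nonempty (G ⧸ K ≃* Matrix.ProjectiveSpecialLinearGroup (Fin 2) F))
    (hd : ∀ T : Subgroup ↥(S : Subgroup G), T ≠ ⊥ → T.Characteristic →
      ¬ (T.map (S : Subgroup G).subtype).Normal) :
    ∃ V M : Subgroup G, Base G p (p ^ n) (S : Subgroup G) (pCore p G) V M := by
  obtain ⟨M, ⟨hM, hSM⟩, huniq⟩ := hE₂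
  obtain ⟨θ⟩ := hE₃
  have hFc : Nat.card F = p ^ n := by rw [Nat.card_eq_fintype_card, hF]
  let f : G →* Matrix.ProjectiveSpecialLinearGroup (Fin 2) F :=
    θ.toMonoidHom.comp (QuotientGroup.mk' K)
  have hf : Function.Surjective f := θ.surjective.comp (QuotientGroup.mk'_surjective K)
  set Q := pCore p G with hQdef
  haveI hQn : Q.Normal := Cfsg.pCore_normal p G
  have hQS : Q ≤ (S : Subgroup G) := CfsgLib.Cores.pCore_le_sylow S
  have hSker := (CfsgLib.TwoGroupTricks.PushingUp.card_le_mul_pCore S hM huniq hn hFc f hf).2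
  have hSK : (S : Subgroup G) ⊓ f.ker ≤ Q := inf_normal_le_pCore S hM huniq f.ker hSker
  -- the image of `S`
  set T := S.mapSurjective hf
  have hT : ((T : Sylow p _) : Subgroup (Matrix.ProjectiveSpecialLinearGroup (Fin 2) F)) =
      (S : Subgroup G).map f := Sylow.coe_mapSurjective hf S
  have hQK : Q ≤ f.ker := fun a ha => by
    by_contra hne
    refine sylowPSL_not_normal hn hFc T (eq_top_iff.2 fun γ _ => ?_)
    obtain ⟨g, rfl⟩ := hf γ
    refine sylowPSL_ti hn hFc T (z := f a) (hT ▸ ⟨a, hQS ha, rfl⟩) hne ?_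
    rw [hT, ← map_inv, ← map_mul, ← map_mul]
    exact ⟨_, hQS (hQn.conj_mem a ha g), rfl⟩
  have hQeq : (S : Subgroup G) ⊓ f.ker = Q := le_antisymm hSK (le_inf hQS hQK)
  have hcard : Nat.card (S : Subgroup G) = p ^ n * Nat.card Q := by
    rw [Subgroup.card_eq_card_quotient_mul_card_subgroup (f.comp (S : Subgroup G).subtype).ker,
      Nat.card_congr (QuotientGroup.quotientKerEquivRange _).toEquiv, MonoidHom.range_comp,
      Subgroup.range_subtype, ← hT, card_sylowPSL hn hFc T, ← MonoidHom.comap_ker]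
    congr 1
    have e : Subgroup.comap (S : Subgroup G).subtype f.ker = Q.subgroupOf (S : Subgroup G) := by
      rw [← hQeq]; ext z; simp [Subgroup.mem_subgroupOf]
    rw [e]
    exact Nat.card_congr (Subgroup.subgroupOfEquivOfLe hQS).toEquiv
  have hq : 1 < p ^ n := Nat.one_lt_pow (by omega) hp.out.one_lt
  have hle : ∀ H : Subgroup G, (S : Subgroup G) ≤ H → H ≠ ⊤ → H ≤ M := fun H => le_of_ne_top huniq
  -- the module
  set Z : Set G := {z | z ∈ (S : Subgroup G) ∧ (∀ g ∈ (S : Subgroup G), g * z = z * g) ∧ z ^ p = 1}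
  set V := Subgroup.normalClosure Z
  have hVn : V.Normal := Subgroup.normalClosure_normal
  have hZΩ : Z ⊆ omegaCenter p Q := fun z hz => by
    have hzQ : z ∈ Q := hE₁ fun a ha => hz.2.1 a (hQS ha)
    exact ⟨hzQ, fun a ha => hz.2.1 a (hQS ha), hz.2.2⟩
  haveI := omegaCenter_normal (p := p) hQn
  have hVΩ : V ≤ omegaCenter p Q := Subgroup.normalClosure_le_normal hZΩ
  -- the centraliser of `V`
  set C := Subgroup.centralizer (V : Set G)
  haveI : C.Normal := inferInstance
  have hCS : (S : Subgroup G) ⊔ C ≠ ⊤ := by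
    intro e
    let Zg : Subgroup ↥(S : Subgroup G) :=
      { carrier := {z | (∀ g, g * z = z * g) ∧ z ^ p = 1}
        one_mem' := ⟨fun g => by simp, one_pow p⟩
        mul_mem' := fun {z w} hz hw => ⟨fun g => Commute.mul_right (hz.1 g) (hw.1 g),
          by rw [(show Commute z w from hw.1 z).mul_pow, hz.2, hw.2, mul_one]⟩
        inv_mem' := fun {z} hz => ⟨fun g => Commute.inv_right (hz.1 g),
          by rw [inv_pow, hz.2, inv_one]⟩ }
    have hch : Zg.Characteristic := by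
      refine Subgroup.characteristic_iff_map_le.2 fun α => ?_
      rintro _ ⟨z, hz, rfl⟩
      refine ⟨fun g => ?_, ?_⟩
      · obtain ⟨g, rfl⟩ := α.surjective g
        exact (map_mul α g z).symm.trans ((congrArg α (hz.1 g)).trans (map_mul α z g))
      · show α z ^ p = 1
        rw [← map_pow, hz.2, map_one]
    have hne : Zg ≠ ⊥ := by
      haveI : Nontrivial ↥(S : Subgroup G) := by
        rw [← Finite.one_lt_card_iff_nontrivial]
        have : 1 ≤ Nat.card Q := Nat.card_pos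
        rw [hcard]; nlinarith
      have hc := S.2.center_nontrivial
      obtain ⟨k, hk⟩ := IsPGroup.iff_card.1 (S.2.to_subgroup (Subgroup.center ↥(S : Subgroup G)))
      have hdvd : p ∣ Nat.card (Subgroup.center ↥(S : Subgroup G)) := by
        have h1 : 1 < Nat.card (Subgroup.center ↥(S : Subgroup G)) :=
          Finite.one_lt_card_iff_nontrivial.2 hc
        rw [hk] at h1 ⊢
        exact dvd_pow_self p fun h0 => by rw [h0, pow_zero] at h1; omega
      obtain ⟨z, hz⟩ := exists_prime_orderOf_dvd_card' p hdvd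
      intro hbot
      have hmem : (z : ↥(S : Subgroup G)) ∈ Zg := by
        refine ⟨fun g => Subgroup.mem_center_iff.1 z.2 g, ?_⟩
        have hzp := pow_orderOf_eq_one z
        rw [hz] at hzp
        exact congrArg Subtype.val hzp
      rw [hbot, Subgroup.mem_bot] at hmem
      have hz1 : z = 1 := Subtype.ext hmem
      rw [hz1, orderOf_one] at hz
      exact hp.out.ne_one hz.symm
    refine hd Zg hne hch ⟨?_⟩
    rintro _ ⟨z, hz, rfl⟩ g
    have hzV : (z : G) ∈ V := Subgroup.subset_normalClosure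
      ⟨z.2, fun a ha => congrArg Subtype.val (hz.1 ⟨a, ha⟩),
        by simpa using congrArg Subtype.val hz.2⟩
    obtain ⟨s, hs, c, hc, rfl⟩ := Subgroup.mem_sup_of_normal_right.1 (e ▸ Subgroup.mem_top g : g ∈ _ ⊔ C)
    refine ⟨z, hz, ?_⟩
    have h1 : c * (z : G) * c⁻¹ = z := by
      rw [← hc _ hzV, mul_inv_cancel_right]
    have h2 : s * (z : G) * s⁻¹ = z := by
      have := congrArg Subtype.val (hz.1 ⟨s, hs⟩)
      simp only [Subgroup.coe_mul] at this
      rw [this, mul_inv_cancel_right]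
    show (z : G) = s * c * z * (s * c)⁻¹
    calc (z : G) = s * (c * z * c⁻¹) * s⁻¹ := by rw [h1, h2]
      _ = _ := by simp [mul_assoc]
  refine ⟨V, M, hq, S.2, hQn, hVn, hQS, fun v hv => (hVΩ hv).1, fun a ha v hv => (hVΩ hv).2.1 a ha,
    fun v hv => (hVΩ hv).2.2, fun H hH => ?_, hcard, fun g hg hgV => ?_,
    fun z hz hzc hzp => Subgroup.subset_normalClosure ⟨hz, hzc, hzp⟩, hSM, hM.1, hle, ?_, ?_, ?_⟩
  · obtain ⟨T', hT'⟩ := hH.exists_le_sylow
    obtain ⟨g, hg⟩ := MulAction.exists_smul_eq G S T'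
    refine ⟨g, ?_⟩
    rw [← hg, Sylow.coe_subgroup_smul] at hT'
    exact hT'
  · exact inf_normal_le_pCore S hM huniq C hCS ⟨hg, fun v hv => (hgV v hv).symm⟩
  · intro g z hz hzQ hgz
    set N := (Subgroup.normalizer (((T : Sylow p _) : Subgroup
      (Matrix.ProjectiveSpecialLinearGroup (Fin 2) F)) :
      Set (Matrix.ProjectiveSpecialLinearGroup (Fin 2) F))).comap f
    have hgN : g ∈ N := by
      refine sylowPSL_ti hn hFc T (z := f z) (hT ▸ ⟨z, hz, rfl⟩)
        (fun h1 => hzQ (hSK ⟨hz, h1⟩)) ?_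
      rw [hT, ← map_inv, ← map_mul, ← map_mul]
      exact ⟨_, hgz, rfl⟩
    refine hle N (fun s hs => Subgroup.le_normalizer (hT ▸ ⟨s, hs, rfl⟩)) (fun e => ?_) hgN
    refine sylowPSL_not_normal hn hFc T (eq_top_iff.2 fun γ _ => ?_)
    obtain ⟨g', rfl⟩ := hf γ
    have : g' ∈ N := by rw [e]; exact Subgroup.mem_top _
    exact this
  · intro g hg
    exact hle _ le_sup_left hCS (Subgroup.mem_sup_right fun v hv => (hg v hv).symm)
  · intro T' hT'S hT'n hchar
    by_contra hne
    refine hd (T'.subgroupOf (S : Subgroup G)) (fun e => hne ?_)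
      (Subgroup.characteristic_iff_map_eq.2 hchar) ?_
    · rw [← inf_eq_left.2 hT'S, ← Subgroup.subgroupOf_map_subtype, e, Subgroup.map_bot]
    · rw [Subgroup.subgroupOf_map_subtype, inf_eq_left.2 hT'S]
      exact hT'n

end CfsgLib.PushUp.RankOne
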