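import Cfsg.Agent.Lib.PushUp.RankOne.Large

/-!
Rank one pushing up: commutator and power tools.
-/

set_option autoImplicit false

namespace CfsgLib.PushUp.RankOne

open scoped commutatorElement

variable {X : Type*} [Group X]

theorem sub_iff {a b : X} : ⁅a, b⁆ = 1 ↔ a * b = b * a := commutatorElement_eq_one_iff_mul_comm

/-- Commutators of a join. -/
theorem commutator_sup_le {A B C T : Subgroup X}
    (hT : A ⊔ B ≤ Subgroup.normalizer (T : Set X)) (hA : ⁅A, C⁆ ≤ T) (hB : ⁅B, C⁆ ≤ T) :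
    ⁅A ⊔ B, C⁆ ≤ T := by
  let K : Subgroup X :=
    { carrier := {g | g ∈ Subgroup.normalizer (T : Set X) ∧ ∀ c ∈ C, ⁅g, c⁆ ∈ T}
      one_mem' := ⟨one_mem _, fun c _ => by simp⟩
      mul_mem' := fun {a b} ha hb => ⟨mul_mem ha.1 hb.1, fun c hc => by
        have e : ⁅a * b, c⁆ = a * ⁅b, c⁆ * a⁻¹ * ⁅a, c⁆ := by simp [commutatorElement_def, mul_assoc]
        rw [e]
        exact T.mul_mem ((Subgroup.mem_normalizer_iff.1 ha.1 _).1 (hb.2 c hc)) (ha.2 c hc)⟩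
      inv_mem' := fun {a} ha => ⟨inv_mem ha.1, fun c hc => by
        have e : ⁅a⁻¹, c⁆ = a⁻¹ * ⁅a, c⁆⁻¹ * a⁻¹⁻¹ := by simp [commutatorElement_def, mul_assoc]
        rw [e]
        exact (Subgroup.mem_normalizer_iff.1 (inv_mem ha.1) _).1 (T.inv_mem (ha.2 c hc))⟩ }
  have hAK : A ≤ K := fun a ha => ⟨hT (Subgroup.mem_sup_left ha),
    fun c hc => hA (Subgroup.commutator_mem_commutator ha hc)⟩
  have hBK : B ≤ K := fun a ha => ⟨hT (Subgroup.mem_sup_right ha),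
    fun c hc => hB (Subgroup.commutator_mem_commutator ha hc)⟩
  rw [Subgroup.commutator_le]
  exact fun g hg c hc => (sup_le hAK hBK hg).2 c hc

theorem commutator_sup_le' {A B C T : Subgroup X}
    (hT : A ⊔ B ≤ Subgroup.normalizer (T : Set X)) (hA : ⁅C, A⁆ ≤ T) (hB : ⁅C, B⁆ ≤ T) :
    ⁅C, A ⊔ B⁆ ≤ T := by
  rw [Subgroup.commutator_comm] at hA hB ⊢
  exact commutator_sup_le hT hA hB

theorem commutator_eq_bot_of {A B : Subgroup X} (h : ∀ a ∈ A, ∀ b ∈ B, a * b = b * a) : ⁅A, B⁆ = ⊥ := by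
  rw [eq_bot_iff, Subgroup.commutator_le]
  exact fun a ha b hb => Subgroup.mem_bot.2 (sub_iff.2 (h a ha b hb))

theorem commutator_centralizer_bot {A B : Subgroup X} (h : A ≤ Subgroup.centralizer (B : Set X)) :
    ⁅A, B⁆ = ⊥ := commutator_eq_bot_of fun a ha b hb => ((h ha) b hb).symm

theorem le_normalizer_of_central {H T : Subgroup X} (h : T ≤ Subgroup.centralizer (H : Set X)) :
    H ≤ Subgroup.normalizer (T : Set X) := by
  have h' : H ≤ Subgroup.centralizer (T : Set X) := Subgroup.le_centralizer_iff.1 h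
  exact h'.trans (Subgroup.centralizer_le_normalizer _)

/-- The subgroup generated by the `n`th powers. -/
def pw (n : ℕ) (H : Subgroup X) : Subgroup X := Subgroup.closure {z | ∃ h ∈ H, h ^ n = z}

theorem pow_mem_pw {n : ℕ} {H : Subgroup X} {h : X} (hh : h ∈ H) : h ^ n ∈ pw n H :=
  Subgroup.subset_closure ⟨h, hh, rfl⟩

theorem pw_le_iff {n : ℕ} {H T : Subgroup X} : pw n H ≤ T ↔ ∀ h ∈ H, h ^ n ∈ T := by
  rw [pw, Subgroup.closure_le]
  exact ⟨fun h a ha => h ⟨a, ha, rfl⟩, fun h z ⟨a, ha, e⟩ => e ▸ h a ha⟩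

theorem pw_mono {n : ℕ} {H K : Subgroup X} (h : H ≤ K) : pw n H ≤ pw n K :=
  pw_le_iff.2 fun _ ha => pow_mem_pw (h ha)

theorem pw_le_self (n : ℕ) (H : Subgroup X) : pw n H ≤ H := pw_le_iff.2 fun _ ha => pow_mem ha n

theorem cj_pw (g : X) (n : ℕ) (H : Subgroup X) : cj g (pw n H) = pw n (cj g H) := by
  rw [pw, pw, cj, MonoidHom.map_closure]
  congr 1
  ext z
  constructor
  · rintro ⟨_, ⟨h, hh, rfl⟩, rfl⟩
    exact ⟨_, conj_mem_cj hh, by simp⟩
  · rintro ⟨_, ⟨h, hh, rfl⟩, rfl⟩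
    exact ⟨h ^ n, ⟨h, hh, rfl⟩, by simp⟩

theorem cj_commutator (g : X) (A B : Subgroup X) : cj g ⁅A, B⁆ = ⁅cj g A, cj g B⁆ :=
  Subgroup.map_commutator _ _ _

theorem cj_lowerCentralSeries (g : X) (H : Subgroup X) (n : ℕ) :
    cj g (H.lowerCentralSeries n) = (cj g H).lowerCentralSeries n :=
  H.map_lowerCentralSeries _ n

theorem lowerCentralSeries_le_self (H : Subgroup X) (n : ℕ) : H.lowerCentralSeries n ≤ H :=
  H.lowerCentralSeries_antitone (Nat.zero_le n)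

/-- Powers of a product with central commutator. -/
theorem mul_pow_of_central {a b c : X} (hc : b * a = c * (a * b)) (hca : Commute c a)
    (hcb : Commute c b) : ∀ n : ℕ, (a * b) ^ n = a ^ n * b ^ n * c ^ (n.choose 2) := by
  have hba : ∀ n : ℕ, b ^ n * a = c ^ n * (a * b ^ n) := by
    intro n
    induction n with
    | zero => simp
    | succ n ih =>
      calc b ^ (n + 1) * a = b ^ n * (b * a) := by rw [pow_succ, mul_assoc]
        _ = (b ^ n * c) * (a * b) := by rw [hc, mul_assoc]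
        _ = c * ((b ^ n * a) * b) := by rw [← (hcb.pow_right n).eq]; simp [mul_assoc]
        _ = c ^ (n + 1) * (a * b ^ (n + 1)) := by
          rw [ih, pow_succ' c, pow_succ b]; simp [mul_assoc]
  intro n
  induction n with
  | zero => simp
  | succ n ih =>
    have hcab : Commute (c ^ (n.choose 2)) (a * b) := (hca.mul_right hcb).pow_left _
    have h2 : Commute (c ^ n) (a ^ n) := hca.pow_pow _ _
    have h3 : Commute (c ^ n) (a ^ (n + 1) * b ^ (n + 1)) :=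
      (hca.pow_pow _ _).mul_right (hcb.pow_pow _ _)
    calc (a * b) ^ (n + 1) = a ^ n * b ^ n * c ^ (n.choose 2) * (a * b) := by rw [pow_succ, ih]
      _ = a ^ n * b ^ n * (a * b) * c ^ (n.choose 2) := by
        rw [mul_assoc _ (c ^ _), hcab.eq, ← mul_assoc]
      _ = a ^ n * (b ^ n * a) * b * c ^ (n.choose 2) := by simp [mul_assoc]
      _ = a ^ n * c ^ n * (a * b ^ n) * b * c ^ (n.choose 2) := by rw [hba]; simp [mul_assoc]
      _ = c ^ n * (a ^ (n + 1) * b ^ (n + 1)) * c ^ (n.choose 2) := by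
        rw [← h2.eq, pow_succ a, pow_succ b]; simp [mul_assoc]
      _ = a ^ (n + 1) * b ^ (n + 1) * c ^ ((n + 1).choose 2) := by
        rw [h3.eq, Nat.choose_succ_succ, Nat.choose_one_right, pow_add c]; simp [mul_assoc, pow_add]

/-- Ninth powers in class three with derived group of exponent three. -/
theorem mul_pow_nine {P : Subgroup X} {a b : X} (ha : a ∈ P) (hb : b ∈ P)
    (h3 : ∀ c ∈ ⁅⁅P, P⁆, P⁆, ∀ g ∈ P, g * c = c * g) (he : ∀ c ∈ ⁅P, P⁆, c ^ 3 = 1) :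
    (a * b) ^ 9 = a ^ 9 * b ^ 9 := by
  have hmem2 : ∀ u ∈ P, ∀ w ∈ P, ⁅u, w⁆ ∈ ⁅P, P⁆ :=
    fun u hu w hw => Subgroup.commutator_mem_commutator hu hw
  have h23 : ⁅P, P⁆ ≤ P := by
    rw [Subgroup.commutator_le]
    exact fun u hu w hw => P.mul_mem (P.mul_mem (P.mul_mem hu hw) (P.inv_mem hu)) (P.inv_mem hw)
  -- cubes commute with `P` modulo the third term, and with cubes and the derived group
  have hγ : ∀ u ∈ P, ∀ c ∈ ⁅P, P⁆, ⁅u, c⁆ ∈ ⁅⁅P, P⁆, P⁆ := fun u hu c hc => by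
    rw [← commutatorElement_inv]
    exact Subgroup.inv_mem _ (Subgroup.commutator_mem_commutator hc hu)
  have h3' : ∀ c ∈ ⁅⁅P, P⁆, P⁆, ∀ g ∈ P, Commute c g := fun c hc g hg => (h3 c hc g hg).symm
  have hcube : ∀ u ∈ P, ∀ w ∈ P, ⁅u ^ 3, w⁆ ∈ ⁅⁅P, P⁆, P⁆ := by
    intro u hu w hw
    have hc := hmem2 u hu w hw
    set c := ⁅u, w⁆ with hcd
    set z := ⁅u, c⁆ with hzd
    have hz := hγ u hu c hc
    have e1 : u * c = z * c * u := by simp [hzd, commutatorElement_def, mul_assoc]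
    have hzu : u * z = z * u := h3 z hz u hu
    have e2 : u ^ 3 * w = (u ^ 2 * c * u⁻¹ ^ 2) * (u * c * u⁻¹) * c * (w * u ^ 3) := by
      simp [hcd, commutatorElement_def, pow_succ, mul_assoc]
    have e3 : u * c * u⁻¹ = z * c := by rw [e1, mul_inv_cancel_right]
    have e4 : u ^ 2 * c * u⁻¹ ^ 2 = z * (z * c) := by
      calc u ^ 2 * c * u⁻¹ ^ 2 = u * (u * c * u⁻¹) * u⁻¹ := by simp [pow_two, mul_assoc]
        _ = (u * z) * c * u⁻¹ := by rw [e3]; simp [mul_assoc]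
        _ = z * (u * c * u⁻¹) := by rw [hzu]; simp [mul_assoc]
        _ = z * (z * c) := by rw [e3]
    have hzc : Commute z c := h3' z hz c (h23 hc)
    have e5 : ⁅u ^ 3, w⁆ = z * (z * c) * (z * c) * c := by
      rw [commutatorElement_def, e2, e3, e4]
      simp [mul_assoc]
    have e6 : z * (z * c) * (z * c) * c = z ^ 3 * c ^ 3 := by
      calc z * (z * c) * (z * c) * c = z * z * (c * z) * c * c := by simp [mul_assoc]
        _ = z * z * (z * c) * c * c := by rw [hzc.eq]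
        _ = z ^ 3 * c ^ 3 := by simp [pow_succ, mul_assoc]
    rw [e5, e6, he c hc, mul_one]
    exact pow_mem hz 3
  have hγ3 : ∀ c ∈ ⁅⁅P, P⁆, P⁆, c ^ 3 = 1 := fun c hc => he c
    (Subgroup.commutator_mono (by exact h23) le_rfl hc)
  -- bilinearity in the third term
  have hpow : ∀ u : X, ∀ w ∈ P, u ∈ P → ⁅u, w⁆ ∈ ⁅⁅P, P⁆, P⁆ → ⁅u, w ^ 3⁆ = 1 := by
    intro u w hw hu hd
    have hd' := h3' _ hd
    have e : ∀ n : ℕ, ⁅u, w ^ n⁆ = ⁅u, w⁆ ^ n := by
      intro n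
      induction n with
      | zero => simp
      | succ n ih =>
        have : ⁅u, w ^ n * w⁆ = ⁅u, w ^ n⁆ * (w ^ n * ⁅u, w⁆ * (w ^ n)⁻¹) := by
          simp [commutatorElement_def, mul_assoc]
        rw [pow_succ, this, ih, ← ((hd' w hw).pow_right n).eq, mul_inv_cancel_right, pow_succ]
    rw [e, hγ3 _ hd]
  obtain ⟨c, hc, hcd⟩ : ∃ c ∈ ⁅P, P⁆, (a * b) ^ 3 = a ^ 3 * b ^ 3 * c := by
    have hn : ∀ w ∈ P, ∀ c ∈ ⁅P, P⁆, w * c * w⁻¹ ∈ ⁅P, P⁆ := by
      intro w hw c hc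
      have h1 : ⁅w, c⁆ * c = w * c * w⁻¹ := by simp [commutatorElement_def, mul_assoc]
      rw [← h1]
      exact Subgroup.mul_mem _ (hmem2 w hw c (h23 hc)) hc
    refine ⟨(a ^ 3 * b ^ 3)⁻¹ * (a * b) ^ 3, ?_, by simp [mul_assoc]⟩
    have e : (a ^ 3 * b ^ 3)⁻¹ * (a * b) ^ 3 =
        b⁻¹ ^ 3 * (⁅a⁻¹ ^ 2, b⁆ * (b * ⁅a⁻¹, b⁆ * b⁻¹)) * (b⁻¹ ^ 3)⁻¹ := by
      simp [commutatorElement_def, pow_succ, mul_assoc]
    rw [e]
    have hbi : b⁻¹ ^ 3 ∈ P := pow_mem (P.inv_mem hb) 3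
    exact hn _ hbi _ (Subgroup.mul_mem _ (hmem2 _ (pow_mem (P.inv_mem ha) 2) _ hb)
      (hn b hb _ (hmem2 _ (P.inv_mem ha) _ hb)))
  have hab : Commute (a ^ 3) (b ^ 3) := sub_iff.1 (hpow (a ^ 3) b hb (pow_mem ha 3) (hcube a ha b hb))
  have hu : ∀ u ∈ P, Commute (u ^ 3) c := fun u hu => by
    have h1 : ⁅c, u ^ 3⁆ = 1 :=
      hpow c u hu (h23 hc) (Subgroup.commutator_mem_commutator hc hu)
    exact (sub_iff.1 h1).symm
  have h9 : (a * b) ^ 9 = ((a * b) ^ 3) ^ 3 := by rw [← pow_mul]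
  rw [h9, hcd, (((hu a ha).mul_left (hu b hb))).mul_pow, hab.mul_pow, he c hc, mul_one, ← pow_mul,
    ← pow_mul]

theorem exists_mul_of_sup {H N : Subgroup X} (hn : H ≤ Subgroup.normalizer (N : Set X)) {z : X}
    (hz : z ∈ H ⊔ N) : ∃ h ∈ H, ∃ n ∈ N, z = h * n := exists_mul_of_mem_sup hn hz

namespace Sys

variable {p q : ℕ} {Γ : Type*} [MulAction X Γ] (D : Sys p q X Γ) {x : Γ} {P : Subgroup X}
variable [Finite X]

/-- A subgroup attached to `P` and equal to one attached to `Q` is trivial. -/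
theorem bot_of_eq (hP : D.I x P) (f : Subgroup X → Subgroup X)
    (hf : ∀ g H, cj g (f H) = f (cj g H)) (hle : ∀ H, f H ≤ H) (hmono : f (D.Q x) ≤ f P)
    (h : f P ≤ f (D.Q x)) : f P = ⊥ := by
  refine D.core hP _ (hle P) (fun g hg t ht => ?_) (fun g hg t ht => ?_)
  · rw [le_antisymm h hmono] at ht ⊢
    have := conj_mem_cj (g := g) ht
    rwa [hf, D.cjQ hg] at this
  · have := conj_mem_cj (g := g) ht
    rwa [hf, hg] at this

theorem lcs_eq_bot (hP : D.I x P) (n : ℕ)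
    (h : P.lowerCentralSeries n ≤ (D.Q x).lowerCentralSeries n) : P.lowerCentralSeries n = ⊥ :=
  D.bot_of_eq hP (fun H => H.lowerCentralSeries n) (fun g H => cj_lowerCentralSeries g H n)
    (fun H => lowerCentralSeries_le_self H n)
    (Subgroup.lowerCentralSeries_mono n (D.Q_le hP)) h

theorem pw_eq_bot (hP : D.I x P) (n : ℕ) (h : pw n P ≤ pw n (D.Q x)) : pw n P = ⊥ :=
  D.bot_of_eq hP (pw n) (fun g H => cj_pw g n H) (pw_le_self n) (pw_mono (D.Q_le hP)) h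

theorem pw_commutator_eq_bot (hP : D.I x P) (n : ℕ)
    (h : pw n ⁅P, P⁆ ≤ pw n ⁅D.Q x, D.Q x⁆) : pw n ⁅P, P⁆ = ⊥ :=
  D.bot_of_eq hP (fun H => pw n ⁅H, H⁆) (fun g H => by rw [cj_pw, cj_commutator])
    (fun H => (pw_le_self n _).trans (lowerCentralSeries_le_self H 1))
    (pw_mono (Subgroup.commutator_mono (D.Q_le hP) (D.Q_le hP))) h

end Sys

end CfsgLib.PushUp.RankOne
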