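import Cfsg.Agent.Lib.PushUp.RankOne.One

/-!
Rank one pushing up: the case `b = 2`, commutator structure of an edge.
-/

set_option autoImplicit false
set_option linter.unusedSectionVars false

namespace CfsgLib.PushUp.RankOne

open scoped commutatorElement

variable {X : Type*} [Group X] {p q : ℕ} {Γ : Type*} [MulAction X Γ]

theorem comm_mul_left (a b c : X) : ⁅a * b, c⁆ = a * ⁅b, c⁆ * a⁻¹ * ⁅a, c⁆ := by
  simp [commutatorElement_def, mul_assoc]

theorem comm_mul_right (a b c : X) : ⁅a, b * c⁆ = ⁅a, b⁆ * (b * ⁅a, c⁆ * b⁻¹) := by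
  simp [commutatorElement_def, mul_assoc]

namespace Sys

variable (D : Sys p q X Γ) [Finite X] [hp : Fact p.Prime]
variable {L : ℕ} {v : ℕ → Γ} {Pc : ℕ → Subgroup X}

/-- What is fixed about `b = 2`. -/
structure Two (L : ℕ) (v : ℕ → Γ) (Pc : ℕ → Subgroup X) : Prop where
  good : ∀ x, D.Good x
  b_eq : D.b = 2
  chain : D.Chain L L v Pc
  four : 4 ≤ L

namespace Two

variable {D} (h : D.Two L v Pc)
include h

theorem crit {i : ℕ} (hi : i + 2 ≤ L) : D.Crit (v i) (v (i + 2)) (Pc i) (Pc (i + 1)) := by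
  have h1 := h.chain.crit' D (i := i) (by rw [h.b_eq]; exact hi)
  rw [h.b_eq] at h1
  exact h1

theorem edge : D.I (v 2) (Pc 2) := (h.crit (i := 2) h.four).first

theorem two_le : 2 ≤ D.b := h.b_eq.ge

theorem right {i : ℕ} (hi : i < 4) : D.I (v (i + 1)) (Pc i) :=
  h.chain.right i (lt_of_lt_of_le hi h.four)

theorem left {i : ℕ} (hi : i < 4) : D.I (v i) (Pc i) := h.chain.left i (lt_of_lt_of_le hi h.four)

theorem V_le_Q {i j : ℕ} (hij : i ≤ j) (hj : j ≤ 4) (hd : j ≤ i + 1) :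
    D.V (v i) ≤ D.Q (v j) ∧ D.V (v j) ≤ D.Q (v i) :=
  h.chain.le_Q' D hij (le_trans hj h.four) (by rw [h.b_eq]; omega)

theorem R1_le : ⁅D.V (v 1), D.V (v 3)⁆ ≤
    D.V (v 2) ⊓ Subgroup.centralizer (D.Gv (v 2) : Set X) := by
  have h1 := h.chain.comm_le_G D h.good h.two_le (i := 1) (j := 1) le_rfl
    (by rw [h.b_eq]; omega) (by rw [h.b_eq]; exact h.four)
  rw [h.b_eq] at h1
  exact h1

theorem R0_le : ⁅D.V (v 2), D.V (v 4)⁆ ≤
    D.V (v 2) ⊓ Subgroup.centralizer (Pc 2 : Set X) :=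
  le_inf ((h.crit (i := 2) h.four).comm_le_V D) ((h.crit (i := 2) h.four).comm_le_center D h.good)

theorem comm_Q3 {a y : X} (ha : a ∈ D.Q (v 3)) (hy : y ∈ D.V (v 4)) :
    ⁅y, a⁆ ∈ ⁅D.V (v 2), D.V (v 4)⁆ := by
  have hc := h.crit (i := 2) h.four
  rw [Subgroup.commutator_comm, ← hc.symm.comm_eq D h.good]
  exact Subgroup.commutator_mem_commutator hy (D.Q_le (h.left (i := 3) (by omega)) ha)

theorem comm_Q2 {a x : X} (ha : a ∈ D.Q (v 2)) (hx : x ∈ D.V (v 1)) :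
    ⁅x, a⁆ ∈ ⁅D.V (v 1), D.V (v 3)⁆ := by
  rw [← (h.crit (i := 1) (by have := h.four; omega)).comm_eq D h.good]
  exact Subgroup.commutator_mem_commutator hx (D.Q_le (h.right (i := 1) (by omega)) ha)

theorem decomp {a : X} (ha : a ∈ D.Q (v 2)) :
    ∃ u ∈ D.V (v 1), ∃ d ∈ D.Q (v 2) ⊓ D.Q (v 3), a = u * d := by
  have hc := h.crit (i := 1) (by have := h.four; omega)
  obtain ⟨u, hu, d, hd, rfl⟩ := hc.symm.exists_decomp D h.good (D.Q_le h.edge ha)
  refine ⟨u, hu, d, ⟨?_, hd⟩, rfl⟩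
  simpa using (D.Q (v 2)).mul_mem ((D.Q (v 2)).inv_mem
    ((h.V_le_Q (i := 1) (j := 2) (by omega) (by omega) le_rfl).1 hu)) ha

theorem edge_eq : Pc 2 = D.V (v 4) ⊔ (D.V (v 1) ⊔ (D.Q (v 2) ⊓ D.Q (v 3))) := by
  have hc := h.crit (i := 2) h.four
  refine le_antisymm ?_ (sup_le hc.mem_first (sup_le
    (h.crit (i := 1) (by have := h.four; omega)).mem_last (inf_le_left.trans (D.Q_le h.edge))))
  conv_lhs => rw [hc.sup_first D h.good]
  refine sup_le_sup le_rfl fun a ha => ?_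
  obtain ⟨u, hu, d, hd, rfl⟩ := h.decomp ha
  exact Subgroup.mul_mem _ (Subgroup.mem_sup_left hu) (Subgroup.mem_sup_right hd)

theorem comm41 : ⁅D.V (v 4), D.V (v 1)⁆ ≤ D.Q (v 2) ⊓ D.Q (v 3) := by
  rw [Subgroup.commutator_le]
  intro y hy a ha
  have hyP := (h.crit (i := 2) h.four).mem_first hy
  have haP := (h.crit (i := 1) (by have := h.four; omega)).mem_last ha
  constructor
  · have h1 := D.normQ y (D.le_G h.edge hyP) a
      ((h.V_le_Q (i := 1) (j := 2) (by omega) (by omega) le_rfl).1 ha)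
    exact (D.Q (v 2)).mul_mem h1 ((D.Q (v 2)).inv_mem
      ((h.V_le_Q (i := 1) (j := 2) (by omega) (by omega) le_rfl).1 ha))
  · have hy3 := (h.V_le_Q (i := 3) (j := 4) (by omega) le_rfl le_rfl).2 hy
    have h1 := D.normQ a (D.le_G (h.right (i := 2) (by omega)) haP) y⁻¹ ((D.Q (v 3)).inv_mem hy3)
    simpa [commutatorElement_def, mul_assoc] using (D.Q (v 3)).mul_mem hy3 h1

/-- The first three terms of the lower central series of the edge and the derived group. -/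
theorem series :
    ⁅⁅⁅Pc 2, Pc 2⁆, Pc 2⁆, Pc 2⁆ = ⊥ ∧
      (p = 3 → ∀ c ∈ ⁅Pc 2, Pc 2⁆, c ^ 3 = 1) := by
  set P := Pc 2 with hPdef
  set D0 := D.Q (v 2) ⊓ D.Q (v 3) with hD0
  set A := D.V (v 4)
  set B := D.V (v 1)
  set R1 := ⁅D.V (v 1), D.V (v 3)⁆
  set R0 := ⁅D.V (v 2), D.V (v 4)⁆
  have hP : P = A ⊔ (B ⊔ D0) := h.edge_eq
  have hAP : A ≤ P := hP ▸ le_sup_left
  have hBP : B ≤ P := hP ▸ le_trans le_sup_left le_sup_right
  have hDP : D0 ≤ P := hP ▸ le_trans le_sup_right le_sup_right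
  have hR1P : R1 ≤ Subgroup.centralizer (P : Set X) :=
    (h.R1_le.trans inf_le_right).trans (Subgroup.centralizer_le (D.le_G h.edge))
  have hR0P : R0 ≤ Subgroup.centralizer (P : Set X) := h.R0_le.trans inf_le_right
  have hR1D : R1 ≤ D0 := le_inf
    ((h.R1_le.trans inf_le_left).trans (D.V_le _))
    ((h.R1_le.trans inf_le_left).trans (h.V_le_Q (i := 2) (j := 3) (by omega) (by omega) le_rfl).1)
  have hR0D : R0 ≤ D0 := le_inf
    ((h.R0_le.trans inf_le_left).trans (D.V_le _))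
    ((h.R0_le.trans inf_le_left).trans (h.V_le_Q (i := 2) (j := 3) (by omega) (by omega) le_rfl).1)
  set R := R1 ⊔ R0 with hR
  have hRP : R ≤ Subgroup.centralizer (P : Set X) := sup_le hR1P hR0P
  set E := ⁅A, B⁆ ⊔ R with hE
  have hEB : ⁅A, B⁆ ≤ D0 := h.comm41
  have hnD : P ≤ Subgroup.normalizer (D0 : Set X) := le_normalizer_of_conj fun g hg a ha =>
    ⟨D.normQ g (D.le_G h.edge hg) a ha.1, D.normQ g (D.le_G (h.right (i := 2) (by omega)) hg) a ha.2⟩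
  have hAD : ⁅A, D0⁆ ≤ R0 := Subgroup.commutator_le.2 fun y hy a ha => h.comm_Q3 ha.2 hy
  have hBD : ⁅B, D0⁆ ≤ R1 := Subgroup.commutator_le.2 fun x hx a ha => h.comm_Q2 ha.1 hx
  have hAA : ⁅A, A⁆ = ⊥ := commutator_eq_bot_of fun a ha c hc => D.commV ha hc
  have hBB : ⁅B, B⁆ = ⊥ := commutator_eq_bot_of fun a ha c hc => D.commV ha hc
  -- the commutator of `⁅A, B⁆` with the generators
  have h1 : ⁅⁅A, B⁆, A⁆ ≤ R := by
    rw [Subgroup.commutator_comm _ A]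
    exact ((Subgroup.commutator_mono le_rfl hEB).trans hAD).trans le_sup_right
  have h2 : ⁅⁅A, B⁆, B⁆ ≤ R := by
    rw [Subgroup.commutator_comm _ B]
    exact ((Subgroup.commutator_mono le_rfl hEB).trans hBD).trans le_sup_left
  have hR1c : ∀ C : Subgroup X, C ≤ P → ⁅R1, C⁆ = ⊥ := fun C hC =>
    commutator_centralizer_bot (hR1P.trans (Subgroup.centralizer_le hC))
  have hR0c : ∀ C : Subgroup X, C ≤ P → ⁅R0, C⁆ = ⊥ := fun C hC =>
    commutator_centralizer_bot (hR0P.trans (Subgroup.centralizer_le hC))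
  have h3 : ⁅⁅A, B⁆, D0⁆ = ⊥ := by
    refine Subgroup.commutator_commutator_eq_bot_of_rotate ?_ ?_
    · exact le_bot_iff.1 ((Subgroup.commutator_mono hBD le_rfl).trans (hR1c A hAP).le)
    · refine le_bot_iff.1 (le_trans (Subgroup.commutator_mono ?_ le_rfl) (hR0c B hBP).le)
      rw [Subgroup.commutator_comm]; exact hAD
  have hnR : P ≤ Subgroup.normalizer (R : Set X) := le_normalizer_of_central hRP
  have hnAB : P ≤ Subgroup.normalizer (E : Set X) := by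
    refine le_normalizer_of_conj fun g hg t ht => ?_
    have h4 : ⁅E, P⁆ ≤ R := by
      refine commutator_sup_le (sup_le (hEB.trans (hDP.trans hnR)) ?_) ?_
        ((commutator_centralizer_bot hRP) ▸ bot_le)
      · exact ((sup_le hR1D hR0D).trans hDP).trans hnR
      · have hn' : A ⊔ (B ⊔ D0) ≤ Subgroup.normalizer (R : Set X) := hP ▸ hnR
        conv_lhs => rw [hP]
        exact commutator_sup_le' hn' h1
          (commutator_sup_le' (le_trans le_sup_right hn') h2 (h3 ▸ bot_le))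
    have h5 : ⁅t, g⁆ ∈ E := Subgroup.mem_sup_right (h4 (Subgroup.commutator_mem_commutator ht hg))
    simpa [commutatorElement_def, mul_assoc] using E.mul_mem (E.inv_mem h5) ht
  have hED : E ≤ D0 := sup_le hEB (sup_le hR1D hR0D)
  have hEP : ⁅E, P⁆ ≤ R := by
    refine commutator_sup_le (sup_le (hEB.trans (hDP.trans hnR))
      (((sup_le hR1D hR0D).trans hDP).trans hnR)) ?_ ((commutator_centralizer_bot hRP) ▸ bot_le)
    have hn' : A ⊔ (B ⊔ D0) ≤ Subgroup.normalizer (R : Set X) := hP ▸ hnR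
    conv_lhs => rw [hP]
    exact commutator_sup_le' hn' h1
      (commutator_sup_le' (le_trans le_sup_right hn') h2 (h3 ▸ bot_le))
  have hnD' : P ≤ Subgroup.normalizer ((⁅D0, D0⁆ : Subgroup X) : Set X) :=
    le_normalizer_commutator hnD hnD
  have hnT := le_normalizer_sup hnAB hnD'
  set T := E ⊔ ⁅D0, D0⁆ with hT
  have hnT' : A ⊔ (B ⊔ D0) ≤ Subgroup.normalizer (T : Set X) := hP ▸ hnT
  have hγ2 : ⁅P, P⁆ ≤ T := by
    have hRT : R ≤ T := le_trans le_sup_right le_sup_left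
    have hABT : ⁅A, B⁆ ≤ T := le_trans le_sup_left le_sup_left
    have hn'' : B ⊔ D0 ≤ Subgroup.normalizer (T : Set X) := le_trans le_sup_right hnT'
    have hA' : ⁅A, P⁆ ≤ T := by
      conv_lhs => rw [hP]
      exact commutator_sup_le' hnT' (hAA ▸ bot_le)
        (commutator_sup_le' hn'' hABT ((hAD.trans le_sup_right).trans hRT))
    have hB' : ⁅B, P⁆ ≤ T := by
      conv_lhs => rw [hP]
      exact commutator_sup_le' hnT' (Subgroup.commutator_comm A B ▸ hABT)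
        (commutator_sup_le' hn'' (hBB ▸ bot_le) ((hBD.trans le_sup_left).trans hRT))
    have hD' : ⁅D0, P⁆ ≤ T := by
      conv_lhs => rw [hP]
      exact commutator_sup_le' hnT'
        (Subgroup.commutator_comm A D0 ▸ (hAD.trans le_sup_right).trans hRT)
        (commutator_sup_le' hn'' (Subgroup.commutator_comm B D0 ▸ (hBD.trans le_sup_left).trans hRT)
          le_sup_right)
    have := commutator_sup_le hnT' hA' (commutator_sup_le hn'' hB' hD')
    rwa [← hP] at this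
  -- commutators with `⁅D0, D0⁆`
  have hD'A : ⁅⁅D0, D0⁆, A⁆ = ⊥ := by
    refine Subgroup.commutator_commutator_eq_bot_of_rotate ?_ ?_
    · refine le_bot_iff.1 (le_trans (Subgroup.commutator_mono ?_ le_rfl) (hR0c D0 hDP).le)
      rw [Subgroup.commutator_comm]; exact hAD
    · exact le_bot_iff.1 ((Subgroup.commutator_mono hAD le_rfl).trans (hR0c D0 hDP).le)
  have hD'B : ⁅⁅D0, D0⁆, B⁆ = ⊥ := by
    refine Subgroup.commutator_commutator_eq_bot_of_rotate ?_ ?_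
    · refine le_bot_iff.1 (le_trans (Subgroup.commutator_mono ?_ le_rfl) (hR1c D0 hDP).le)
      rw [Subgroup.commutator_comm]; exact hBD
    · exact le_bot_iff.1 ((Subgroup.commutator_mono hBD le_rfl).trans (hR1c D0 hDP).le)
  set G3 := ⁅⁅D0, D0⁆, D0⁆ with hG3
  have hnG3 : P ≤ Subgroup.normalizer (G3 : Set X) := le_normalizer_commutator hnD' hnD
  have hD'D : ⁅D0, D0⁆ ≤ D0 := lowerCentralSeries_le_self D0 1
  have hD'P : ⁅⁅D0, D0⁆, P⁆ ≤ G3 := by
    have hn' : A ⊔ (B ⊔ D0) ≤ Subgroup.normalizer (G3 : Set X) := hP ▸ hnG3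
    conv_lhs => rw [hP]
    exact commutator_sup_le' hn' (hD'A ▸ bot_le)
      (commutator_sup_le' (le_trans le_sup_right hn') (hD'B ▸ bot_le) le_rfl)
  have hγ3 : ⁅⁅P, P⁆, P⁆ ≤ R ⊔ G3 := by
    have hn3 : P ≤ Subgroup.normalizer ((R ⊔ G3 : Subgroup X) : Set X) := le_normalizer_sup hnR hnG3
    refine (Subgroup.commutator_mono hγ2 le_rfl).trans (commutator_sup_le
      (sup_le ((hED.trans hDP).trans hn3) ((hD'D.trans hDP).trans hn3)) (hEP.trans le_sup_left)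
      (hD'P.trans le_sup_right))
  have hG3D : G3 ≤ D0 := lowerCentralSeries_le_self D0 2
  have hγ4 : ⁅⁅⁅P, P⁆, P⁆, P⁆ ≤ ⁅G3, D0⁆ := by
    have hn4 : P ≤ Subgroup.normalizer ((⁅G3, D0⁆ : Subgroup X) : Set X) :=
      le_normalizer_commutator hnG3 hnD
    refine (Subgroup.commutator_mono hγ3 le_rfl).trans (commutator_sup_le
      (sup_le (((sup_le hR1D hR0D).trans hDP).trans hn4) ((hG3D.trans hDP).trans hn4))
      ((commutator_centralizer_bot hRP) ▸ bot_le) ?_)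
    have hn' : A ⊔ (B ⊔ D0) ≤ Subgroup.normalizer ((⁅G3, D0⁆ : Subgroup X) : Set X) := hP ▸ hn4
    have hG3c : ∀ C, ⁅⁅D0, D0⁆, C⁆ = ⊥ → ⁅G3, C⁆ ≤ ⁅G3, D0⁆ := fun C hC => by
      refine le_trans ?_ bot_le (b := ⊥)
      rw [← hC]
      exact Subgroup.commutator_mono
        ((Subgroup.commutator_mono hD'D le_rfl : G3 ≤ ⁅D0, D0⁆)) le_rfl
    conv_lhs => rw [hP]
    exact commutator_sup_le' hn' (hG3c A hD'A)
      (commutator_sup_le' (le_trans le_sup_right hn') (hG3c B hD'B) le_rfl)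
  have h4 : ⁅⁅⁅P, P⁆, P⁆, P⁆ = ⊥ := D.lcs_eq_bot h.edge 3
    (hγ4.trans (Subgroup.commutator_mono (Subgroup.commutator_mono
      (Subgroup.commutator_mono inf_le_left inf_le_left) inf_le_left) inf_le_left))
  refine ⟨h4, fun h3' => ?_⟩
  subst h3'
  -- the derived group has exponent three
  have hab : ⁅⁅P, P⁆, ⁅P, P⁆⁆ = ⊥ := by
    refine Subgroup.commutator_commutator_eq_bot_of_rotate ?_ ?_
    · rw [Subgroup.commutator_comm P]; exact h4
    · exact h4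
  have hgen3 : ∀ c ∈ E, c ^ 3 = 1 := by
    have hEγ : E ≤ ⁅P, P⁆ := sup_le (Subgroup.commutator_mono hAP hBP) (sup_le
      (by
        refine le_trans (Subgroup.commutator_mono (hBP) ?_) le_rfl
        exact (D.V_le (v 3)).trans (D.Q_le (h.right (i := 2) (by omega))))
      (Subgroup.commutator_mono ((D.V_le (v 2)).trans (D.Q_le h.edge)) hAP))
    have hcomm : ∀ a ∈ ⁅P, P⁆, ∀ c ∈ ⁅P, P⁆, Commute a c := fun a ha c hc =>
      sub_iff.1 (Subgroup.mem_bot.1 (hab ▸ Subgroup.commutator_mem_commutator ha hc))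
    let C3 : Subgroup X :=
      { carrier := {c | c ∈ ⁅P, P⁆ ∧ c ^ 3 = 1}
        one_mem' := ⟨one_mem _, one_pow 3⟩
        mul_mem' := fun {a c} ha hc => ⟨Subgroup.mul_mem _ ha.1 hc.1, by
          rw [(hcomm a ha.1 c hc.1).mul_pow, ha.2, hc.2, one_mul]⟩
        inv_mem' := fun {a} ha => ⟨Subgroup.inv_mem _ ha.1, by rw [inv_pow, ha.2, inv_one]⟩ }
    have hA3 : ⁅A, B⁆ ≤ C3 := by
      rw [Subgroup.commutator_le]
      intro y hy a ha
      refine ⟨Subgroup.commutator_mem_commutator (hAP hy) (hBP ha), ?_⟩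
      set c := ⁅y, a⁆ with hc
      have hcD : c ∈ D0 := hEB (Subgroup.commutator_mem_commutator hy ha)
      set r := ⁅a, c⁆ with hr
      have hrR : r ∈ R1 := hBD (Subgroup.commutator_mem_commutator ha hcD)
      have hrc : ∀ g ∈ P, g * r = r * g := fun g hg => hR1P hrR g hg
      have hr3 : r ^ 3 = 1 := D.powV r ((h.R1_le hrR).1)
      have e1 : a * c * a⁻¹ = r * c := by simp [hr, commutatorElement_def, mul_assoc]
      have e2 : a * (a * c * a⁻¹) * a⁻¹ = r * (r * c) := by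
        rw [e1]
        calc a * (r * c) * a⁻¹ = (a * r) * c * a⁻¹ := by simp [mul_assoc]
          _ = r * (a * c * a⁻¹) := by rw [hrc a (hBP ha)]; simp [mul_assoc]
          _ = r * (r * c) := by rw [e1]
      have e3 : ⁅y, a ^ 3⁆ = c * (a * c * a⁻¹) * (a * (a * c * a⁻¹) * a⁻¹) := by
        simp [hc, commutatorElement_def, pow_succ, mul_assoc]
      rw [D.powV a ha, commutatorElement_one_right, e2, e1] at e3
      have hrc' : Commute r c := (hrc c (hDP hcD)).symm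
      calc c ^ 3 = r ^ 3 * c ^ 3 := by rw [hr3, one_mul]
        _ = c * (r * c) * (r * (r * c)) := by
          simp only [pow_succ, pow_zero, one_mul, mul_assoc, hrc'.left_comm, hrc'.eq]
        _ = 1 := e3.symm
    have hR3 : R ≤ C3 := sup_le
      (fun z hz => ⟨hEγ (Subgroup.mem_sup_right (Subgroup.mem_sup_left hz)), D.powV z (h.R1_le hz).1⟩)
      (fun z hz => ⟨hEγ (Subgroup.mem_sup_right (Subgroup.mem_sup_right hz)), D.powV z (h.R0_le hz).1⟩)
    exact fun c hc => (sup_le hA3 hR3 hc).2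
  have h3 : pw 3 ⁅P, P⁆ = ⊥ := D.pw_commutator_eq_bot h.edge 3 (pw_le_iff.2 fun z hz => by
    obtain ⟨e, he, d, hd, rfl⟩ := exists_mul_of_sup
      ((hED.trans hDP).trans hnD') (hγ2 hz)
    have hce : Commute e d := by
      have h5 : ⁅⁅D0, D0⁆, E⁆ = ⊥ := by
        refine commutator_eq_bot_of fun d hd e he => ?_
        have hC : E ≤ Subgroup.centralizer ((⁅D0, D0⁆ : Subgroup X) : Set X) := by
          have hAc : A ≤ Subgroup.centralizer ((⁅D0, D0⁆ : Subgroup X) : Set X) := Subgroup.le_centralizer_iff.1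
            fun d hd a ha => (sub_iff.1 (Subgroup.mem_bot.1
              (hD'A ▸ Subgroup.commutator_mem_commutator hd ha))).symm
          have hBc : B ≤ Subgroup.centralizer ((⁅D0, D0⁆ : Subgroup X) : Set X) := Subgroup.le_centralizer_iff.1
            fun d hd a ha => (sub_iff.1 (Subgroup.mem_bot.1
              (hD'B ▸ Subgroup.commutator_mem_commutator hd ha))).symm
          refine sup_le (Subgroup.commutator_le.2 fun a ha c hc => ?_)
            (hRP.trans (Subgroup.centralizer_le (hD'D.trans hDP)))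
          exact mul_mem (mul_mem (mul_mem (hAc ha) (hBc hc)) (inv_mem (hAc ha))) (inv_mem (hBc hc))
        exact hC he d hd
      exact (sub_iff.1 (Subgroup.mem_bot.1 (h5 ▸ Subgroup.commutator_mem_commutator hd he))).symm
    rw [hce.mul_pow, hgen3 e he, one_mul]
    exact pw_mono (Subgroup.commutator_mono inf_le_left inf_le_left) (pow_mem_pw hd))
  exact fun c hc => Subgroup.mem_bot.1 (h3 ▸ pow_mem_pw hc)

theorem pow_nine (hp3 : p = 3) : ∀ z ∈ Pc 2, z ^ 9 = 1 := by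
  obtain ⟨h4, h3⟩ := h.series
  have hc3 := h3 hp3
  have hcen : ∀ c ∈ ⁅⁅Pc 2, Pc 2⁆, Pc 2⁆, ∀ g ∈ Pc 2, g * c = c * g := fun c hc g hg =>
    (sub_iff.1 (Subgroup.mem_bot.1 (h4 ▸ Subgroup.commutator_mem_commutator hc hg))).symm
  have h9 : pw 9 (Pc 2) = ⊥ := D.pw_eq_bot h.edge 9 (pw_le_iff.2 fun z hz => by
    obtain ⟨u, hu, a, ha, rfl⟩ := (h.crit (i := 2) h.four).exists_decomp D h.good hz
    rw [mul_pow_nine ((h.crit (i := 2) h.four).mem_first hu) (D.Q_le h.edge ha) hcen hc3]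
    have e : u ^ 9 = 1 := by
      rw [show 9 = 3 * 3 by rfl, pow_mul, ← hp3, D.powV u hu, one_pow]
    rw [e, one_mul]
    exact pow_mem_pw ha)
  exact fun z hz => Subgroup.mem_bot.1 (h9 ▸ pow_mem_pw hz)

theorem W_le : D.W (v 2) ≤ D.Q (v 2) := D.W_le_Q h.two_le _

theorem V1_le_W : D.V (v 1) ≤ D.W (v 2) :=
  (D.V_le_U (h.left (i := 1) (by omega))).trans (D.U_le_W (h.right (i := 1) (by omega)))

theorem V2_le_W : D.V (v 2) ≤ D.W (v 2) := (D.V_le_U h.edge).trans (D.U_le_W h.edge)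

theorem central_R1 {g r : X} (hg : g ∈ D.Gv (v 2)) (hr : r ∈ ⁅D.V (v 1), D.V (v 3)⁆) :
    g * r = r * g := (h.R1_le hr).2 g hg

/-- The double commutators do not all centralise the next vertex. -/
theorem exists_nonzero : ∃ x ∈ D.V (v 1), ∃ y ∈ D.V (v 4), ∃ x' ∈ D.V (v 1),
    ⁅⁅y, x⁆, x'⁆ ∉ Subgroup.centralizer (D.Gv (v 3) : Set X) := by
  by_contra hc
  push Not at hc
  set C3 := Subgroup.centralizer (D.Gv (v 3) : Set X)
  set W := D.W (v 2)
  have hWG : W ≤ D.Gv (v 2) := h.W_le.trans (D.Q_le_G _)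
  have hval : ∀ w ∈ W, ∀ u ∈ D.V (v 1), ⁅w, u⁆ ∈ ⁅D.V (v 1), D.V (v 3)⁆ := fun w hw u hu => by
    rw [← commutatorElement_inv]; exact Subgroup.inv_mem _ (h.comm_Q2 (h.W_le hw) hu)
  let K : Subgroup X :=
    { carrier := {w | w ∈ W ∧ ∀ u ∈ D.V (v 1), ⁅w, u⁆ ∈ C3}
      one_mem' := ⟨one_mem _, fun u _ => by simp⟩
      mul_mem' := fun {a c} ha hc => ⟨W.mul_mem ha.1 hc.1, fun u hu => by
        rw [comm_mul_left, h.central_R1 (hWG ha.1) (hval c hc.1 u hu), mul_inv_cancel_right]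
        exact C3.mul_mem (hc.2 u hu) (ha.2 u hu)⟩
      inv_mem' := fun {a} ha => ⟨W.inv_mem ha.1, fun u hu => by
        have e : a * ⁅a⁻¹, u⁆ * a⁻¹ = ⁅a⁻¹, u⁆ := by
          rw [h.central_R1 (hWG ha.1) (hval _ (W.inv_mem ha.1) u hu), mul_inv_cancel_right]
        have : ⁅a⁻¹, u⁆ = ⁅a, u⁆⁻¹ := by
          rw [← e]; simp [commutatorElement_def, mul_assoc]
        rw [this]; exact C3.inv_mem (ha.2 u hu)⟩ }
  have hone : ∀ {a u : X}, a * u = u * a → ⁅a, u⁆ ∈ C3 := fun e => by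
    rw [sub_iff.2 e]; exact one_mem _
  have hI1 := h.right (i := 1) (by omega)
  have hUK : D.U (Pc 1) ≤ K := iSup₂_le fun w hw a ha =>
    ⟨D.U_le_W hI1 (D.V_le_U hw ha), fun u hu => hone
      (D.commute_of_near (k := 1) (by rw [h.b_eq]; omega)
        (D.near_one hw (h.left (i := 1) (by omega))) ha hu)⟩
  have hV2K : D.V (v 2) ≤ K := (D.V_le_U hI1).trans hUK
  have hc0 := h.crit (i := 0) (by have := h.four; omega)
  have hc2 := h.crit (i := 2) h.four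
  have hz : ∀ z ∈ D.V (v 0), ∀ w ∈ K, z * w * z⁻¹ ∈ K := by
    intro z hz w hw
    have hzG : z ∈ D.Gv (v 2) := D.le_G hI1 (hc0.mem_last hz)
    refine ⟨D.W_conj hzG hw.1, fun u hu => ?_⟩
    have e : z * u = u * z := D.comm z
      ((h.V_le_Q (i := 0) (j := 1) (by omega) (by omega) le_rfl).1 hz) u hu
    have e' : z⁻¹ * u * z = u := by rw [mul_assoc, ← e]; group
    have e1 : ⁅z * w * z⁻¹, u⁆ = z * ⁅w, z⁻¹ * u * z⁆ * z⁻¹ := by
      simp [commutatorElement_def, mul_assoc]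
    rw [e1, e', h.central_R1 hzG (hval w hw.1 u hu), mul_inv_cancel_right]
    exact hw.2 u hu
  have hy : ∀ y ∈ D.V (v 4), ∀ w ∈ K, y * w * y⁻¹ ∈ K := by
    intro y hy w hw
    have hyG : y ∈ D.Gv (v 2) := D.le_G h.edge (hc2.mem_first hy)
    obtain ⟨a, ha, c, hcQ, rfl⟩ := h.decomp (h.W_le hw.1)
    have haK : a ∈ K := hUK (D.V_le_U (h.left (i := 1) (by omega)) ha)
    have hcK : c ∈ K := by simpa using K.mul_mem (K.inv_mem haK) hw
    have hya : ⁅y, a⁆ ∈ K := by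
      refine ⟨W.mul_mem (D.W_conj hyG haK.1) (W.inv_mem haK.1), fun u hu => hc a ha y hy u hu⟩
    have hyc : ⁅y, c⁆ ∈ K := hV2K (h.R0_le (h.comm_Q3 hcQ.2 hy)).1
    have e : y * (a * c) * y⁻¹ = ⁅y, a⁆ * a * (⁅y, c⁆ * c) := by
      simp [commutatorElement_def, mul_assoc]
    rw [e]
    exact K.mul_mem (K.mul_mem hya haK) (K.mul_mem hyc hcK)
  set H : Subgroup X := D.V (v 0) ⊔ D.V (v 4) with hH
  have hHK : H ≤ Subgroup.normalizer (K : Set X) :=
    sup_le (le_normalizer_of_conj hz) (le_normalizer_of_conj hy)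
  have hHG : H ≤ D.Gv (v 2) := sup_le (fun z hz => D.le_G hI1 (hc0.mem_last hz))
    (fun z hz => D.le_G hc2.first (hc2.mem_first hz))
  have hgen : D.Gv (v 2) ≤ H ⊔ D.Q (v 2) := by
    have h1 := h.chain.gen 1 (by have := h.four; omega) (by have := h.four; omega)
    rw [← h1, hc2.sup_first D h.good, hc0.sup_last D h.good]
    exact sup_le (sup_le (le_trans le_sup_left le_sup_left) le_sup_right)
      (sup_le (le_trans le_sup_right le_sup_left) le_sup_right)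
  obtain ⟨g, hg, hgP⟩ := D.conj_I hI1 h.edge
  obtain ⟨g', hg', a, ha, rfl⟩ := exists_mul_of_mem_sup
    (le_normalizer_of_conj fun g hg => D.normQ g (hHG hg)) (hgen hg)
  rw [cj_mul, cj_eq_self_of_mem (D.Q_le hI1 ha)] at hgP
  have hU2 : D.U (Pc 2) ≤ K := by
    intro t ht
    have h1 : g'⁻¹ * t * g' ∈ D.U (Pc 1) := by
      have := D.conj_mem_U g'⁻¹ ht
      rw [hgP, cj_inv_cj, inv_inv] at this
      exact this
    have := (Subgroup.mem_normalizer_iff.1 (hHK hg') _).1 (hUK h1)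
    simpa [mul_assoc] using this
  have hc1 := h.crit (i := 1) (by have := h.four; omega)
  refine (h.good (v 3)).not_central (Pc 2) (h.right (i := 2) (by omega)) ?_
  rw [hc1.symm.comm_eq D h.good, Subgroup.commutator_le]
  exact fun a ha u hu => (hU2 (D.V_le_U (h.right (i := 2) (by omega)) ha)).2 u hu

theorem symm_triple {x x' y : X} (hx : x ∈ D.V (v 1)) (hx' : x' ∈ D.V (v 1)) (hy : y ∈ D.V (v 4)) :
    ⁅⁅y, x⁆, x'⁆ = ⁅⁅y, x'⁆, x⁆ := by
  have hc2 := h.crit (i := 2) h.four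
  have hyG : y ∈ D.Gv (v 2) := D.le_G h.edge (hc2.mem_first hy)
  have hQ : ∀ {a : X}, a ∈ D.V (v 1) → a ∈ D.Q (v 2) := fun ha =>
    (h.V_le_Q (i := 1) (j := 2) (by omega) (by omega) le_rfl).1 ha
  have hxx : ⁅x, x'⁆ = 1 := sub_iff.2 (D.commV hx hx')
  have e1 : ⁅⁅y, x⁆, x'⁆ = ⁅y * x * y⁻¹, x'⁆ := by
    have e : y * x * y⁻¹ = ⁅y, x⁆ * x := by simp [commutatorElement_def]
    rw [e, comm_mul_left, hxx, mul_one, mul_inv_cancel, one_mul]
  set c' := ⁅y⁻¹, x'⁆ with hc'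
  have e2 : ⁅y * x * y⁻¹, x'⁆ = y * ⁅x, c' * x'⁆ * y⁻¹ := by
    simp [hc', commutatorElement_def, mul_assoc]
  have hc'Q : c' ∈ D.Q (v 2) :=
    (D.Q (v 2)).mul_mem (D.normQ y⁻¹ ((D.Gv (v 2)).inv_mem hyG) x' (hQ hx')) ((D.Q (v 2)).inv_mem (hQ hx'))
  have e3 : ⁅x, c' * x'⁆ = ⁅x, c'⁆ := by rw [comm_mul_right, hxx]; simp
  rw [e1, e2, e3, h.central_R1 hyG (h.comm_Q2 hc'Q hx), mul_inv_cancel_right]
  set c := ⁅y, x'⁆ with hc
  have hcD := h.comm41 (Subgroup.commutator_mem_commutator hy hx')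
  set r := ⁅y⁻¹, c⁻¹⁆ with hr
  have e4 : c' = r * c⁻¹ := by simp [hc', hr, hc, commutatorElement_def, mul_assoc]
  have hrV : r ∈ D.V (v 2) :=
    (h.R0_le (h.comm_Q3 ((D.Q (v 3)).inv_mem hcD.2) ((D.V (v 4)).inv_mem hy))).1
  have hxr : ⁅x, r⁆ = 1 := sub_iff.2 (D.comm x (hQ hx) r hrV)
  have hcG : c ∈ D.Gv (v 2) := D.Q_le_G _ hcD.1
  have hrG : r ∈ D.Gv (v 2) := D.V_le_G _ hrV
  have e5 : ⁅x, c⁻¹⁆ = c⁻¹ * ⁅c, x⁆ * c := by simp [commutatorElement_def, mul_assoc]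
  have hcx : ⁅c, x⁆ ∈ ⁅D.V (v 1), D.V (v 3)⁆ := by
    rw [← commutatorElement_inv]; exact Subgroup.inv_mem _ (h.comm_Q2 hcD.1 hx)
  rw [e4, comm_mul_right, hxr, one_mul, h.central_R1 hrG (h.comm_Q2 ((D.Q (v 2)).inv_mem hcD.1) hx),
    mul_inv_cancel_right, e5, h.central_R1 ((D.Gv (v 2)).inv_mem hcG) hcx, inv_mul_cancel_right]

/-- For odd `p` some diagonal double commutator is not central at the next vertex. -/
theorem exists_diag (hp2 : p ≠ 2) : ∃ x ∈ D.V (v 1), ∃ y ∈ D.V (v 4),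
    ⁅⁅y, x⁆, x⁆ ∉ Subgroup.centralizer (D.Gv (v 3) : Set X) := by
  by_contra hc
  push Not at hc
  obtain ⟨x, hx, y, hy, x', hx', hne⟩ := h.exists_nonzero
  have hc2 := h.crit (i := 2) h.four
  have hQ : ∀ {a : X}, a ∈ D.V (v 1) → a ∈ D.Q (v 2) := fun ha =>
    (h.V_le_Q (i := 1) (j := 2) (by omega) (by omega) le_rfl).1 ha
  have hG2 : ∀ {a : X}, a ∈ D.V (v 1) → a ∈ D.Gv (v 2) := fun ha => D.Q_le_G _ (hQ ha)
  have hD : ∀ {a : X}, a ∈ D.V (v 1) → ⁅y, a⁆ ∈ D.Q (v 2) ⊓ D.Q (v 3) := fun ha =>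
    h.comm41 (Subgroup.commutator_mem_commutator hy ha)
  have hval : ∀ {c z : X}, c ∈ D.Q (v 2) → z ∈ D.V (v 1) → ⁅c, z⁆ ∈ ⁅D.V (v 1), D.V (v 3)⁆ :=
    fun hc hz => by rw [← commutatorElement_inv]; exact Subgroup.inv_mem _ (h.comm_Q2 hc hz)
  have hsecond : ∀ {c z z' : X}, c ∈ D.Q (v 2) → z ∈ D.V (v 1) → z' ∈ D.V (v 1) →
      ⁅c, z * z'⁆ = ⁅c, z⁆ * ⁅c, z'⁆ := fun hc hz hz' => by
    rw [comm_mul_right, h.central_R1 (hG2 hz) (hval hc hz'), mul_inv_cancel_right]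
  have hfirst : ∀ {z z' u : X}, z ∈ D.V (v 1) → z' ∈ D.V (v 1) → u ∈ D.V (v 1) →
      ⁅⁅y, z * z'⁆, u⁆ = ⁅⁅y, z'⁆, u⁆ * ⁅⁅y, z⁆, u⁆ := by
    intro z z' u hz hz' hu
    set r := ⁅z, ⁅y, z'⁆⁆
    have hr : r ∈ ⁅D.V (v 1), D.V (v 3)⁆ := h.comm_Q2 (hD hz').1 hz
    have e : z * ⁅y, z'⁆ * z⁻¹ = r * ⁅y, z'⁆ := by simp [r, commutatorElement_def, mul_assoc]
    have hru : ⁅r, u⁆ = 1 := sub_iff.2 (h.central_R1 (hG2 hu) hr).symm
    have hcQ := (hD hz).1
    have hrG : r ∈ D.Gv (v 2) := D.V_le_G _ (h.R1_le hr).1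
    rw [comm_mul_right, e, comm_mul_left ⁅y, z⁆, comm_mul_left r, hru, mul_one,
      h.central_R1 hrG (hval (hD hz').1 hu), mul_inv_cancel_right,
      h.central_R1 (D.Q_le_G _ hcQ) (hval (hD hz').1 hu), mul_inv_cancel_right]
  have hzz := (D.V (v 1)).mul_mem hx hx'
  have e := hc (x * x') hzz y hy
  rw [hfirst hx hx' hzz, hsecond (hD hx').1 hx hx', hsecond (hD hx).1 hx hx',
    h.symm_triple hx' hx hy] at e
  set C3 := Subgroup.centralizer (D.Gv (v 3) : Set X)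
  set t := ⁅⁅y, x⁆, x'⁆ with ht
  have h1 := hc x hx y hy
  have h2 := hc x' hx' y hy
  have htR := hval (hD hx).1 hx'
  have hcomm : ⁅⁅y, x'⁆, x'⁆ * (⁅⁅y, x⁆, x⁆ * t) = ⁅⁅y, x⁆, x⁆ * ⁅⁅y, x'⁆, x'⁆ * t := by
    rw [← mul_assoc, h.central_R1 (D.V_le_G _ (h.R1_le (hval (hD hx').1 hx')).1) (hval (hD hx).1 hx)]
  have e' : t * (⁅⁅y, x'⁆, x'⁆ * (⁅⁅y, x⁆, x⁆ * t)) ∈ C3 := by simpa [ht, mul_assoc] using e
  have hsq : t ^ 2 ∈ C3 := by
    rw [hcomm, ← mul_assoc] at e'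
    have hct : t * (⁅⁅y, x⁆, x⁆ * ⁅⁅y, x'⁆, x'⁆) = (⁅⁅y, x⁆, x⁆ * ⁅⁅y, x'⁆, x'⁆) * t :=
      (h.central_R1 (D.V_le_G _ (h.R1_le htR).1)
        (Subgroup.mul_mem _ (hval (hD hx).1 hx) (hval (hD hx').1 hx')))
    rw [hct] at e'
    have := C3.mul_mem (C3.inv_mem (C3.mul_mem h1 h2)) e'
    rw [mul_assoc (⁅⁅y, x⁆, x⁆ * ⁅⁅y, x'⁆, x'⁆) t t, inv_mul_cancel_left] at this
    rwa [pow_two]
  have htp : t ^ p = 1 := D.powV t (h.R1_le htR).1
  obtain ⟨k, hk⟩ := hp.out.odd_of_ne_two hp2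
  refine hne ?_
  have : t = ((t ^ 2) ^ k)⁻¹ := by
    rw [eq_inv_iff_mul_eq_one, ← pow_mul, ← pow_succ', ← hk, htp]
  rw [this]
  exact C3.inv_mem (C3.pow_mem hsq k)

/-- The edge does not have exponent three. -/
theorem exists_pow_three_ne (hp2 : p ≠ 2) : ∃ z ∈ Pc 2, z ^ 3 ≠ 1 := by
  by_contra hc
  push Not at hc
  obtain ⟨x, hx, y, hy, hne⟩ := h.exists_diag hp2
  refine hne ?_
  have hxP := (h.crit (i := 1) (by have := h.four; omega)).mem_last hx
  have hyP := (h.crit (i := 2) h.four).mem_first hy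
  have h1 := hc (x * y) ((Pc 2).mul_mem hxP hyP)
  have h2 := hc (x * y⁻¹) ((Pc 2).mul_mem hxP ((Pc 2).inv_mem hyP))
  have hy3 := hc y hyP
  have e1 : x * y * x = y⁻¹ * x⁻¹ * y⁻¹ := by
    refine eq_of_mul_inv_eq_one ?_
    rw [← h1]; simp [pow_succ, mul_assoc]
  have e2 : x * y⁻¹ * x = y * x⁻¹ * y := by
    refine eq_of_mul_inv_eq_one ?_
    rw [← h2]; simp [pow_succ, mul_assoc]
  have e3 : y * y = y⁻¹ := by
    refine eq_of_mul_inv_eq_one ?_
    rw [← hy3]; simp [pow_succ, mul_assoc]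
  have key : x * (y * x * y⁻¹) = (y * x * y⁻¹) * x := by
    calc x * (y * x * y⁻¹) = (x * y * x) * y⁻¹ := by simp [mul_assoc]
      _ = y⁻¹ * x⁻¹ * (y⁻¹ * y⁻¹) := by rw [e1]; simp [mul_assoc]
      _ = y⁻¹ * x⁻¹ * y := by rw [← mul_inv_rev y y, e3, inv_inv]
      _ = y * (y * x⁻¹ * y) := by rw [← e3]; simp [mul_assoc]
      _ = (y * x * y⁻¹) * x := by rw [← e2]; simp [mul_assoc]
  have e4 : ⁅⁅y, x⁆, x⁆ = 1 := by
    have e : ⁅y, x⁆ = (y * x * y⁻¹) * x⁻¹ := by simp [commutatorElement_def]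
    rw [e, comm_mul_left, sub_iff.2 (Commute.inv_left (Commute.refl x)).eq, sub_iff.2 key.symm]
    simp
  rw [e4]; exact one_mem _

end Two

end Sys

end CfsgLib.PushUp.RankOne
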