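import Cfsg.Agent.Lib.PushUp.RankOne.TwoForm
import Cfsg.Agent.Lib.PushUp.RankOne.Kernel

/-!
Rank one pushing up: the case `b = 2`, the coupling of the two natural sections; `p = 3` and the kernel.
-/

set_option autoImplicit false
set_option linter.unusedSectionVars false

namespace CfsgLib.PushUp.RankOne

open scoped commutatorElement MatrixGroups
open Matrix
open CfsgLib.ClassicalLinear (upS upS_coe upS_add)
open CfsgLib.SL2Gen (lowS lowS_coe)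

variable {F : Type} [Field F]

local notation "M₂" => Matrix (Fin 2) (Fin 2) F

theorem weyl_word {x y : F} (h : x * y = -1) :
    ((upS x * lowS y * upS x : SL(2, F)) : M₂) = !![0, x; y, 0] := by
  rw [Matrix.SpecialLinearGroup.coe_mul, Matrix.SpecialLinearGroup.coe_mul, upS_coe, lowS_coe]
  ext i j
  fin_cases i <;> fin_cases j <;> simp [Matrix.mul_apply]
  all_goals first | linear_combination h | exact Or.inl (by linear_combination h)

theorem upS_pow (t : F) (n : ℕ) : upS t ^ n = upS ((n : F) * t) := by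
  induction n with
  | zero => rw [pow_zero, Nat.cast_zero, zero_mul]; exact (Matrix.SpecialLinearGroup.transvection_coeff_zero _).symm
  | succ n ih => rw [pow_succ, ih, ← upS_add, Nat.cast_succ, add_mul, one_mul]

theorem lowS_pow (t : F) (n : ℕ) : lowS t ^ n = lowS ((n : F) * t) := by
  induction n with
  | zero =>
    rw [pow_zero, Nat.cast_zero, zero_mul]
    apply Subtype.ext
    rw [lowS_coe]
    exact Matrix.one_fin_two
  | succ n ih => rw [pow_succ, ih, ← lowS_add, Nat.cast_succ, add_mul, one_mul]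

theorem upS_mul_coe {g : SL(2, F)} (t : F) :
    ((upS t * g : SL(2, F)) : M₂) =
      !![(g : M₂) 0 0 + t * (g : M₂) 1 0, (g : M₂) 0 1 + t * (g : M₂) 1 1; (g : M₂) 1 0, (g : M₂) 1 1] := by
  rw [Matrix.SpecialLinearGroup.coe_mul, upS_coe]
  ext i j
  fin_cases i <;> fin_cases j <;> simp [Matrix.mul_apply]

theorem nsmul_fin {n : ℕ} {v : Fin 2 → F} (i : Fin 2) : (n • v) i = (n : F) * v i := by
  rw [Pi.smul_apply, nsmul_eq_mul]

theorem map_pow_of_add {G : Type*} [Group G] (f : G → (Fin 2 → F))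
    (h : ∀ a b, f (a * b) = f a + f b) (a : G) : ∀ n : ℕ, f (a ^ n) = n • f a
  | 0 => by
    have h1 := h 1 1
    rw [mul_one] at h1
    rw [pow_zero, zero_smul]
    exact left_eq_add.1 h1
  | n + 1 => by rw [pow_succ, h, map_pow_of_add f h a n, succ_nsmul]

variable {X : Type*} [Group X] {p q : ℕ} {Γ : Type*} [MulAction X Γ]

namespace Sys

variable (D : Sys p q X Γ) [Finite X] [hp : Fact p.Prime]
variable {L : ℕ} {v : ℕ → Γ} {Pc : ℕ → Subgroup X}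

namespace Two.Coords

variable {D} {h : D.Two L v Pc} {RV : D.Rep (v 2) (D.V (v 2)) ⊥ F}
  {RM : D.Rep (v 2) (D.W (v 2)) (D.V (v 2)) F} [Fintype F] [CharP F p] (hC : h.Coords RV RM)
include hC

/-- Commutators of the first step with the edge are fixed by the edge. -/
theorem comm_C_edge {c s : X} (hc : c ∈ D.W (v 2) ⊓ D.Q (v 3)) (hs : s ∈ Pc 2) :
    ⁅c, s⁆ ∈ D.V (v 2) ⊓ Subgroup.centralizer (Pc 2 : Set X) := by
  obtain ⟨u, hu, a, ha, rfl⟩ := (h.crit (i := 2) h.four).exists_decomp D h.good hs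
  have huP := (h.crit (i := 2) h.four).mem_first hu
  have h1 : ⁅c, u⁆ ∈ D.V (v 2) ⊓ Subgroup.centralizer (Pc 2 : Set X) := by
    rw [← commutatorElement_inv]
    exact Subgroup.inv_mem _ (h.R0_le (h.comm_Q3 hc.2 hu))
  have h2 := hC.comm_Q_cent hc.1 ha
  have h3 : ⁅c, a⁆ ∈ D.V (v 2) := h.comm_W_Q (Subgroup.commutator_mem_commutator hc.1 ha)
  rw [comm_mul_right, h2 u (D.le_G h.edge huP), mul_inv_cancel_right]
  exact Subgroup.mul_mem _ h1 ⟨h3, Subgroup.centralizer_le (D.le_G h.edge) h2⟩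

omit hC in
include h in
theorem comm_W_edge {w s : X} (hw : w ∈ D.W (v 2)) (hs : s ∈ Pc 2) :
    ⁅w, s⁆ ∈ D.W (v 2) ⊓ D.Q (v 3) := by
  rw [← commutatorElement_inv]
  exact Subgroup.inv_mem _ (h.comm_edge_W hs hw)

theorem triple_mem (w : ↥(D.W (v 2))) (s t : ↥(Pc 2)) :
    ⁅⁅(w : X), (s : X)⁆, (t : X)⁆ ∈ D.V (v 2) ⊓ Subgroup.centralizer (Pc 2 : Set X) :=
  hC.comm_C_edge (comm_W_edge (h := h) w.2 s.2) t.2

/-- The double commutator in coordinates. -/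
def val (w : ↥(D.W (v 2))) (s t : ↥(Pc 2)) : Fin 2 → F :=
  RV.ψ ⟨⁅⁅(w : X), (s : X)⁆, (t : X)⁆, (hC.triple_mem w s t).1⟩

omit hC in
theorem psi_congr {a b : X} (e : a = b) (ha : a ∈ D.V (v 2)) (hb : b ∈ D.V (v 2)) :
    RV.ψ ⟨a, ha⟩ = RV.ψ ⟨b, hb⟩ := by subst e; rfl

theorem val_third (w : ↥(D.W (v 2))) (s t t' : ↥(Pc 2)) :
    hC.val w s (t * t') = hC.val w s t + hC.val w s t' := by
  unfold val
  rw [← RV.map_mul]
  refine psi_congr ?_ _ _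
  rw [Subgroup.coe_mul, comm_mul_right, (hC.triple_mem w s t').2 t t.2, mul_inv_cancel_right]

theorem val_second (w : ↥(D.W (v 2))) (s s' t : ↥(Pc 2)) :
    hC.val w (s * s') t = hC.val w s t + hC.val w s' t := by
  set c := ⁅(w : X), (s : X)⁆
  set c' := ⁅(w : X), (s' : X)⁆
  have hc : c ∈ D.W (v 2) ⊓ D.Q (v 3) := comm_W_edge (h := h) w.2 s.2
  have hc' : c' ∈ D.W (v 2) ⊓ D.Q (v 3) := comm_W_edge (h := h) w.2 s'.2
  have hz : ⁅(s : X), c'⁆ ∈ D.V (v 2) ⊓ Subgroup.centralizer (Pc 2 : Set X) := by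
    rw [← commutatorElement_inv]
    exact Subgroup.inv_mem _ (hC.comm_C_edge hc' s.2)
  have e1 : ⁅(w : X), ((s * s' : ↥(Pc 2)) : X)⁆ = c * (⁅(s : X), c'⁆ * c') := by
    simp [c, c', commutatorElement_def, mul_assoc]
  have e2 : ⁅⁅(s : X), c'⁆ * c', (t : X)⁆ = ⁅c', (t : X)⁆ := by
    rw [comm_mul_left, sub_iff.2 (hz.2 t t.2).symm, mul_one,
      D.comm _ (D.V_le _ hz.1) _ (hC.comm_C_edge hc' t.2).1, mul_inv_cancel_right]
  have e3 : ⁅c * (⁅(s : X), c'⁆ * c'), (t : X)⁆ = ⁅c, (t : X)⁆ * ⁅c', (t : X)⁆ := by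
    rw [comm_mul_left, e2, D.comm c (h.W_le hc.1) _ (hC.comm_C_edge hc' t.2).1,
      mul_inv_cancel_right]
    exact D.commV (hC.comm_C_edge hc' t.2).1 (hC.comm_C_edge hc t.2).1
  unfold val
  rw [← RV.map_mul]
  exact psi_congr (by rw [e1, e3]) _ _

theorem val_first (w w' : ↥(D.W (v 2))) (s t : ↥(Pc 2)) :
    hC.val (w * w') s t = hC.val w s t + hC.val w' s t := by
  set c := ⁅(w : X), (s : X)⁆
  set c' := ⁅(w' : X), (s : X)⁆
  have hc : c ∈ D.W (v 2) ⊓ D.Q (v 3) := comm_W_edge (h := h) w.2 s.2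
  have hc' : c' ∈ D.W (v 2) ⊓ D.Q (v 3) := comm_W_edge (h := h) w'.2 s.2
  have hz := hC.comm_W_cent w.2 hc'.1
  have hzV : ⁅(w : X), c'⁆ ∈ D.V (v 2) := h.comm_W w.2 hc'.1
  have e1 : ⁅((w * w' : ↥(D.W (v 2))) : X), (s : X)⁆ = ⁅(w : X), c'⁆ * (c' * c) := by
    simp [c, c', commutatorElement_def, mul_assoc]
  have hcc : ⁅c' * c, (t : X)⁆ = ⁅c, (t : X)⁆ * ⁅c', (t : X)⁆ := by
    rw [comm_mul_left, D.comm c' (h.W_le hc'.1) _ (hC.comm_C_edge hc t.2).1, mul_inv_cancel_right]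
  have hccV : ⁅c' * c, (t : X)⁆ ∈ D.V (v 2) := by
    rw [hcc]; exact (D.V _).mul_mem (hC.comm_C_edge hc t.2).1 (hC.comm_C_edge hc' t.2).1
  have e2 : ⁅⁅(w : X), c'⁆ * (c' * c), (t : X)⁆ = ⁅c, (t : X)⁆ * ⁅c', (t : X)⁆ := by
    rw [comm_mul_left, sub_iff.2 (hz t (D.le_G h.edge t.2)).symm, mul_one, D.commV hzV hccV,
      mul_inv_cancel_right, hcc]
  unfold val
  rw [← RV.map_mul]
  exact psi_congr (by rw [e1, e2]) _ _

theorem val_of_C {w : ↥(D.W (v 2))} (hw : RM.ψ w 1 = 0) (s t : ↥(Pc 2)) : hC.val w s t = 0 := by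
  have h1 := hC.comm_C_edge ⟨w.2, (hC.memM w).1 hw⟩ s.2
  have : ⁅⁅(w : X), (s : X)⁆, (t : X)⁆ = 1 := sub_iff.2 (h1.2 t t.2).symm
  exact (psi_congr this _ (one_mem _)).trans RV.map_one

theorem val_of_Q {s : ↥(Pc 2)} (hs : (s : X) ∈ D.Q (v 2)) (w : ↥(D.W (v 2))) (t : ↥(Pc 2)) :
    hC.val w s t = 0 ∧ hC.val w t s = 0 := by
  have hG := D.le_G h.edge t.2
  constructor
  · have h1 := hC.comm_Q_cent w.2 hs
    have : ⁅⁅(w : X), (s : X)⁆, (t : X)⁆ = 1 := sub_iff.2 (h1 t hG).symm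
    exact (psi_congr this _ (one_mem _)).trans RV.map_one
  · have hc := comm_W_edge (h := h) w.2 t.2
    exact (RV.ker _).2 fun g hg => Subgroup.mem_bot.2
      (commutator_eq_one_of (hC.comm_Q_cent hc.1 hs g hg))

theorem val_congr {w w' : ↥(D.W (v 2))} {s s' : ↥(Pc 2)} (hw : RM.ψ w 1 = RM.ψ w' 1)
    (hs : RV.ρ ⟨s, D.le_G h.edge s.2⟩ = RV.ρ ⟨s', D.le_G h.edge s'.2⟩) :
    hC.val w s s = hC.val w' s' s' := by
  have hd : ((s'⁻¹ * s : ↥(Pc 2)) : X) ∈ D.Q (v 2) :=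
    RV.kerP (Pc 2) h.edge ⟨_, D.le_G h.edge (s'⁻¹ * s).2⟩ (s'⁻¹ * s).2 (by
      rw [show (⟨((s'⁻¹ * s : ↥(Pc 2)) : X), _⟩ : ↥(D.Gv (v 2))) =
        (⟨s', D.le_G h.edge s'.2⟩ : ↥(D.Gv (v 2)))⁻¹ * ⟨s, D.le_G h.edge s.2⟩ from rfl,
        _root_.map_mul, _root_.map_inv, hs, inv_mul_cancel])
  have hk : RM.ψ (w'⁻¹ * w) 1 = 0 := by rw [RM.map_mul, RM.map_inv]; simp [hw]
  have e1 : w = w' * (w'⁻¹ * w) := by simp
  have e2 : s = s' * (s'⁻¹ * s) := by simp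
  rw [e1, hC.val_first, hC.val_of_C hk, add_zero, e2, hC.val_second, (hC.val_of_Q hd w' _).1,
    add_zero, hC.val_third, (hC.val_of_Q hd w' s').2, add_zero]

omit hC in
theorem mul_le_G {g : X} (hg : g ∈ D.Gv (v 2)) (w : ↥(D.W (v 2))) :
    g * (w : X) * g⁻¹ ∈ D.W (v 2) := D.W_conj hg w.2

theorem val_conj (g : ↥(D.Gv (v 2))) (hg : ∀ s ∈ Pc 2, (g : X) * s * (g : X)⁻¹ ∈ Pc 2)
    (w : ↥(D.W (v 2))) (s t : ↥(Pc 2)) :
    hC.val ⟨_, mul_le_G g.2 w⟩ ⟨_, hg s s.2⟩ ⟨_, hg t t.2⟩ =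
      ((RV.ρ g : SL(2, F)) : M₂) *ᵥ hC.val w s t := by
  refine RV.equiv g _ _ ?_
  show ⁅⁅(g : X) * w * (g : X)⁻¹, (g : X) * s * (g : X)⁻¹⁆, (g : X) * t * (g : X)⁻¹⁆ = _
  rw [← comm_conj, ← comm_conj]

/-- Some diagonal double commutator is not central in the middle group. -/
theorem exists_val_ne (h5 : 5 ≤ L) :
    ∃ w s, RV.ψ ⟨_, (hC.triple_mem w s s).1⟩ 0 ≠ 0 := by
  obtain ⟨y, hy, a, ha, hne⟩ := (h.rev 5 (by omega) h5).exists_diag (hC.p_ne_two h5)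
  have hyP : y ∈ Pc 2 := (h.crit (i := 2) h.four).mem_first hy
  refine ⟨⟨a, h.V1_le_W ha⟩, ⟨y, hyP⟩, fun h0 => hne ?_⟩
  have hm := hC.triple_mem ⟨a, h.V1_le_W ha⟩ ⟨y, hyP⟩ ⟨y, hyP⟩
  have h1 : RV.ψ ⟨_, hm.1⟩ 1 = 0 := (hC.memV _).2 hm.2
  have h2 : RV.ψ ⟨_, hm.1⟩ = 0 := by funext i; fin_cases i; exacts [h0, h1]
  exact fun g hg => sub_iff.1 (Subgroup.mem_bot.1 ((RV.ker _).1 h2 g hg))

/-- An element upper triangular in both sections can be moved to normalise the edge. -/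
theorem exists_normalizing (g : ↥(D.Gv (v 2))) (hV : ((RV.ρ g : SL(2, F)) : M₂) 1 0 = 0)
    (hM : ((RM.ρ g : SL(2, F)) : M₂) 1 0 = 0) :
    ∃ g' : ↥(D.Gv (v 2)), (∀ s ∈ Pc 2, (g' : X) * s * (g' : X)⁻¹ ∈ Pc 2) ∧
      (∃ μ, RV.ρ g' = upS μ * RV.ρ g) ∧ ∃ ν, RM.ρ g' = upS ν * RM.ρ g := by
  let H : Subgroup ↥(D.Gv (v 2)) :=
    { carrier := {x | (∃ t, RV.ρ x = upS t) ∧ ∃ t, RM.ρ x = upS t}
      one_mem' := ⟨⟨0, by rw [_root_.map_one]; exact (Matrix.SpecialLinearGroup.transvection_coeff_zero _).symm⟩,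
        ⟨0, by rw [_root_.map_one]; exact (Matrix.SpecialLinearGroup.transvection_coeff_zero _).symm⟩⟩
      mul_mem' := fun {a b} ⟨⟨s, hs⟩, s', hs'⟩ ⟨⟨t, ht⟩, t', ht'⟩ =>
        ⟨⟨s + t, by rw [_root_.map_mul, hs, ht, upS_add]⟩, s' + t', by rw [_root_.map_mul, hs', ht', upS_add]⟩
      inv_mem' := fun {a} ⟨⟨s, hs⟩, s', hs'⟩ =>
        ⟨⟨-s, by rw [_root_.map_inv, hs, inv_eq_of_mul_eq_one_right]; rw [← upS_add, add_neg_cancel]; exact Matrix.SpecialLinearGroup.transvection_coeff_zero _⟩,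
          -s', by rw [_root_.map_inv, hs', inv_eq_of_mul_eq_one_right]; rw [← upS_add, add_neg_cancel]; exact Matrix.SpecialLinearGroup.transvection_coeff_zero _⟩ }
  set K := H.map (D.Gv (v 2)).subtype
  have hPK : Pc 2 ≤ K := fun s hs => ⟨⟨s, D.le_G h.edge hs⟩,
    ⟨hC.normV.upper _ hs, hC.normM.upper _ hs⟩, rfl⟩
  have hgK : cj (g : X) (Pc 2) ≤ K := by
    rintro _ ⟨s, hs, rfl⟩
    obtain ⟨t, ht⟩ := hC.normV.upper ⟨s, D.le_G h.edge hs⟩ hs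
    obtain ⟨t', ht'⟩ := hC.normM.upper ⟨s, D.le_G h.edge hs⟩ hs
    refine ⟨g * ⟨s, D.le_G h.edge hs⟩ * g⁻¹, ⟨⟨((RV.ρ g : SL(2, F)) : M₂) 0 0 ^ 2 * t, ?_⟩,
      ⟨((RM.ρ g : SL(2, F)) : M₂) 0 0 ^ 2 * t', ?_⟩⟩, by simp⟩
    · rw [_root_.map_mul, _root_.map_mul, ht, _root_.map_inv]; exact conj_upS hV t
    · rw [_root_.map_mul, _root_.map_mul, ht', _root_.map_inv]; exact conj_upS hM t'
  obtain ⟨m, hm, hmP⟩ := D.conj_into' h.edge hPK (Subgroup.map_subtype_le H) hgK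
    ((D.pgroup h.edge).map _)
  obtain ⟨m, ⟨⟨μ, hμ⟩, ν, hν⟩, rfl⟩ := hm
  refine ⟨m * g, fun s hs => ?_, ⟨μ, by rw [_root_.map_mul, hμ]⟩, ν, by rw [_root_.map_mul, hν]⟩
  simpa [mul_assoc] using hmP _ (conj_mem_cj hs)

/-- Scaling of the diagonal double commutator by a normalising element. -/
theorem scale (h5 : 5 ≤ L) (g : ↥(D.Gv (v 2))) (hV : ((RV.ρ g : SL(2, F)) : M₂) 1 0 = 0)
    (hM : ((RM.ρ g : SL(2, F)) : M₂) 1 0 = 0) (m k : ℕ)
    (hm : ((RM.ρ g : SL(2, F)) : M₂) 1 1 * (m : F) = 1)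
    (hk : ((RV.ρ g : SL(2, F)) : M₂) 0 0 ^ 2 = (k : F)) :
    (k : F) * k = ((RV.ρ g : SL(2, F)) : M₂) 0 0 * m := by
  obtain ⟨g', hg', ⟨μ, hμ⟩, ν, hν⟩ := hC.exists_normalizing g hV hM
  obtain ⟨w, s, hne⟩ := hC.exists_val_ne h5
  set ζ := hC.val w s s with hζ
  have hne' : ζ 0 ≠ 0 := hne
  have hζ1 : ζ 1 = 0 := (hC.memV _).2 (hC.triple_mem w s s).2
  have hg'V : ((RV.ρ g' : SL(2, F)) : M₂) 1 0 = 0 ∧
      ((RV.ρ g' : SL(2, F)) : M₂) 0 0 = ((RV.ρ g : SL(2, F)) : M₂) 0 0 := by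
    rw [hμ, upS_mul_coe]; simp [hV]
  have hg'M : ((RM.ρ g' : SL(2, F)) : M₂) 1 0 = 0 ∧
      ((RM.ρ g' : SL(2, F)) : M₂) 1 1 = ((RM.ρ g : SL(2, F)) : M₂) 1 1 := by
    rw [hν, upS_mul_coe]; simp [hM]
  have e1 := hC.val_conj g' hg' (w ^ m) s s
  rw [map_pow_of_add (fun w => hC.val w s s) (fun a b => hC.val_first a b s s) w m] at e1
  have hw : RM.ψ ⟨_, mul_le_G g'.2 (w ^ m)⟩ 1 = RM.ψ w 1 := by
    rw [RM.equiv g' (w ^ m) ⟨_, mul_le_G g'.2 (w ^ m)⟩ rfl, map_pow_of_add RM.ψ RM.map_mul w m]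
    simp only [Matrix.mulVec, dotProduct, Fin.sum_univ_two, nsmul_fin, hg'M.1, hg'M.2, zero_mul,
      zero_add]
    rw [← mul_assoc, hm, one_mul]
  obtain ⟨t, ht⟩ := hC.normV.upper ⟨s, D.le_G h.edge s.2⟩ s.2
  have hs : RV.ρ ⟨_, D.le_G h.edge (⟨_, hg' s s.2⟩ : ↥(Pc 2)).2⟩ =
      RV.ρ ⟨_, D.le_G h.edge (s ^ k).2⟩ := by
    rw [show (⟨((s ^ k : ↥(Pc 2)) : X), _⟩ : ↥(D.Gv (v 2))) =
        (⟨s, D.le_G h.edge s.2⟩ : ↥(D.Gv (v 2))) ^ k from Subtype.ext (by simp),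
      show (⟨(g' : X) * s * (g' : X)⁻¹, _⟩ : ↥(D.Gv (v 2))) = g' * ⟨s, D.le_G h.edge s.2⟩ * g'⁻¹
        from rfl, _root_.map_mul, _root_.map_mul, _root_.map_pow, _root_.map_inv, ht,
      conj_upS hg'V.1, upS_pow, hg'V.2, hk]
  rw [hC.val_congr hw hs] at e1
  have e2 : hC.val w (s ^ k) (s ^ k) = k • (k • ζ) := by
    rw [map_pow_of_add (fun x => hC.val w x (s ^ k)) (fun a b => hC.val_second w a b _) s k,
      map_pow_of_add (fun x => hC.val w s x) (fun a b => hC.val_third w s a b) s k]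
  rw [e2] at e1
  have e3 := congrFun e1 0
  simp only [Matrix.mulVec, dotProduct, Fin.sum_univ_two, nsmul_fin, hg'V.2, ← hζ, hζ1, mul_zero,
    add_zero] at e3
  exact mul_right_cancel₀ hne' (by rw [mul_assoc, mul_assoc]; exact e3)

/-- The kernel on the middle module acts trivially on the join. -/
theorem kerV_le (h5 : 5 ≤ L) {g : ↥(D.Gv (v 2))} (hg : RV.ρ g = 1) : RM.ρ g = 1 := by
  have hker : ∀ {P}, D.I (v 2) P → ∀ x : ↥(D.Gv (v 2)), RM.ρ x = 1 → (x : X) ∈ D.M (v 2) P :=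
    fun hP x hx => h.fix_mem_M hP x.2 ((RM.kerρ x).1 hx)
  have hM : ∀ {P}, D.I (v 2) P → ∀ x : ↥(D.Gv (v 2)), RV.ρ x = 1 → (x : X) ∈ D.M (v 2) P :=
    fun hP x hx => D.mem_M_of_kerV rfl hP hx
  have hdiag : ∀ x : ↥(D.Gv (v 2)), RV.ρ x = 1 →
      ((RM.ρ x : SL(2, F)) : M₂) 1 0 = 0 ∧ ((RM.ρ x : SL(2, F)) : M₂) 0 1 = 0 := fun x hx =>
    ⟨RM.mem_M_of_upper h.edge hC.normM (hker h.edge) (hM h.edge x hx),
      RM.mem_M_of_lower h.edge1 hC.normM (hker h.edge1) (hM h.edge1 x hx)⟩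
  obtain ⟨h10, h01⟩ := hdiag g hg
  obtain ⟨a, -, hat⟩ := hC.normM.exists_upper 1
  have h2 := (hdiag (a * g * a⁻¹) (by rw [_root_.map_mul, _root_.map_mul, hg, mul_one, _root_.map_inv, mul_inv_cancel])).2
  rw [_root_.map_mul, _root_.map_mul, _root_.map_inv, hat, Matrix.SpecialLinearGroup.coe_mul,
    upS_mul_coe, Matrix.SpecialLinearGroup.coe_inv, upS_coe, Matrix.adjugate_fin_two_of] at h2
  simp [Matrix.mul_apply, h10, h01] at h2
  have hdet := CfsgLib.SL2.det_eq (RM.ρ g)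
  rw [h10, h01, mul_zero, sub_zero] at hdet
  have heq : ((RM.ρ g : SL(2, F)) : M₂) 0 0 = ((RM.ρ g : SL(2, F)) : M₂) 1 1 := by
    linear_combination -h2
  rw [heq] at hdet
  rcases mul_self_eq_one_iff.1 hdet with e | e
  · apply Subtype.ext
    rw [Matrix.SpecialLinearGroup.coe_one]
    ext i j; fin_cases i <;> fin_cases j <;> simp [h10, h01, heq, e]
  · exfalso
    have h1 := hC.scale h5 g (by simp [hg]) h10 (p - 1) 1
      (by rw [e, Nat.cast_sub hp.out.one_le, CharP.cast_eq_zero F p]; simp) (by simp [hg])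
    rw [hg, Nat.cast_sub hp.out.one_le, CharP.cast_eq_zero F p] at h1
    simp at h1
    have h2' : ((2 : ℕ) : F) = 0 := by push_cast; linear_combination h1
    rw [CharP.cast_eq_zero_iff F p] at h2'
    exact hC.p_ne_two h5 ((Nat.prime_dvd_prime_iff_eq hp.out Nat.prime_two).1 h2')

/-- The prime is three. -/
theorem p_eq_three (h5 : 5 ≤ L) : p = 3 := by
  have hp2 := hC.p_ne_two h5
  obtain ⟨a, ha, haM⟩ := hC.normM.exists_upper 1
  obtain ⟨c, hc, hcM⟩ := hC.normM.exists_lower (-1)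
  obtain ⟨α, haV⟩ := hC.normV.upper a ha
  obtain ⟨β, hcV⟩ := hC.normV.lower c hc
  set n := a * c * a with hn
  have hnM : ((RM.ρ n : SL(2, F)) : M₂) = !![0, 1; -1, 0] := by
    rw [hn, _root_.map_mul, _root_.map_mul, haM, hcM]; exact weyl_word (by ring)
  -- the word swaps the edges in the other section
  have hαβ : α * β = -1 := by
    have hI : D.I (v 2) (cj (n : X) (Pc 2)) := D.I_conj n.2 h.edge
    have hle : cj (n : X) (Pc 2) ≤ D.M (v 2) (Pc 1) := by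
      refine RM.le_M_of_low h.edge1 hI (fun x hx => ?_) (fun x hx => ?_)
      · obtain ⟨t, ht⟩ := hC.normM.lower x hx
        rw [ht, lowS_coe]; simp
      · obtain ⟨s, hs, e⟩ := hx
        obtain ⟨t, ht⟩ := hC.normM.upper ⟨s, D.le_G h.edge hs⟩ hs
        rw [show x = n * ⟨s, D.le_G h.edge hs⟩ * n⁻¹ from Subtype.ext (by simpa using e.symm),
          _root_.map_mul, _root_.map_mul, _root_.map_inv, ht, Matrix.SpecialLinearGroup.coe_mul,
          Matrix.SpecialLinearGroup.coe_mul, Matrix.SpecialLinearGroup.coe_inv, hnM, upS_coe,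
          Matrix.adjugate_fin_two_of]
        simp [Matrix.mul_apply]
    obtain ⟨s, hs, hst⟩ := hC.normV.exists_upper 1
    have h0 := RV.mem_M_of_lower h.edge1 hC.normV (fun x hx => D.mem_M_of_kerV rfl h.edge1 hx)
      (g := n * s * n⁻¹) (hle (conj_mem_cj hs))
    have hdet : (1 + α * β) * (1 + α * β) = 0 := by
      rw [hn, _root_.map_mul, _root_.map_mul, _root_.map_inv, _root_.map_mul, _root_.map_mul, haV, hcV,
        hst, Matrix.SpecialLinearGroup.coe_mul, Matrix.SpecialLinearGroup.coe_mul,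
        Matrix.SpecialLinearGroup.coe_mul, Matrix.SpecialLinearGroup.coe_mul,
        Matrix.SpecialLinearGroup.coe_inv, Matrix.SpecialLinearGroup.coe_mul,
        Matrix.SpecialLinearGroup.coe_mul, upS_coe, lowS_coe, upS_coe] at h0
      simp [Matrix.mul_apply, Matrix.adjugate_fin_two] at h0
      linear_combination h0
    linear_combination mul_self_eq_zero.1 hdet
  have hnV : ((RV.ρ n : SL(2, F)) : M₂) = !![0, α; β, 0] := by
    rw [hn, _root_.map_mul, _root_.map_mul, haV, hcV]; exact weyl_word hαβ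
  -- the word for two
  obtain ⟨l, hl⟩ := hp.out.odd_of_ne_two hp2
  have hl2 : (2 : F) * ((l + 1 : ℕ) : F) = 1 := by
    have h1 := CharP.cast_eq_zero F p
    rw [hl] at h1
    push_cast at h1 ⊢
    linear_combination h1
  have hl2' : (2 : F) * ((l : F) + 1) = 1 := by simpa using hl2
  set n' := a ^ 2 * c ^ (l + 1) * a ^ 2 with hn'
  set e := n' * n⁻¹ with he
  have key : ∀ {W' Y' : Subgroup X} (R : D.Rep (v 2) W' Y' F) (x y : F), R.ρ a = upS x →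
      R.ρ c = lowS y → x * y = -1 → ((R.ρ n : SL(2, F)) : M₂) = !![0, x; y, 0] →
      ((R.ρ e : SL(2, F)) : M₂) = !![2, 0; 0, ((l + 1 : ℕ) : F)] := by
    intro W' Y' R x y hx hy hxy hN
    rw [he, hn', _root_.map_mul, _root_.map_inv, _root_.map_mul, _root_.map_mul, _root_.map_pow,
      _root_.map_pow, hx, hy, upS_pow, lowS_pow, Matrix.SpecialLinearGroup.coe_mul,
      Matrix.SpecialLinearGroup.coe_inv, hN,
      weyl_word (by push_cast; linear_combination (2 * ((l : F) + 1)) * hxy - hl2'),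
      Matrix.adjugate_fin_two_of]
    ext i j
    fin_cases i <;> fin_cases j <;> simp [Matrix.mul_apply]
    · linear_combination (-2 : F) * hxy
    · linear_combination (-((l : F) + 1)) * hxy
  have eV := key RV α β haV hcV hαβ hnV
  have eM := key RM 1 (-1) haM hcM (by ring) hnM
  have h1 := hC.scale h5 e (by simp [eV]) (by simp [eM]) 2 4
    (by rw [eM]; simp only [Matrix.of_apply, Matrix.cons_val', Matrix.cons_val_one, Matrix.cons_val_fin_one]; push_cast at hl2 ⊢; linear_combination hl2)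
    (by rw [eV]; norm_num)
  rw [eV] at h1
  have h12 : ((12 : ℕ) : F) = 0 := by
    push_cast
    simp at h1
    linear_combination h1
  rw [CharP.cast_eq_zero_iff F p, show 12 = 2 ^ 2 * 3 by rfl, hp.out.dvd_mul] at h12
  rcases h12 with hd | hd
  · exact absurd ((Nat.prime_dvd_prime_iff_eq hp.out Nat.prime_two).1 (hp.out.dvd_of_dvd_pow hd)) hp2
  · exact (Nat.prime_dvd_prime_iff_eq hp.out Nat.prime_three).1 hd

omit hC in
include h in
/-- A normal subgroup covering the edge acts trivially on `Q` modulo the join. -/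
theorem exists_trivial_Q : ∃ N : Subgroup X, N ≤ D.Gv (v 2) ∧
    (∀ g ∈ D.Gv (v 2), ∀ n ∈ N, g * n * g⁻¹ ∈ N) ∧ N ⊔ Pc 2 = D.Gv (v 2) ∧
    ∀ n ∈ N, ∀ d ∈ D.Q (v 2), ⁅n, d⁆ ∈ D.W (v 2) := by
  let N : Subgroup X :=
    { carrier := {g | g ∈ D.Gv (v 2) ∧ ∀ d ∈ D.Q (v 2), ⁅g, d⁆ ∈ D.W (v 2)}
      one_mem' := ⟨one_mem _, fun d _ => by simp⟩
      mul_mem' := fun {a b} ha hb => ⟨(D.Gv _).mul_mem ha.1 hb.1, fun d hd => by
        rw [comm_mul_left]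
        exact (D.W _).mul_mem (D.W_conj ha.1 (hb.2 d hd)) (ha.2 d hd)⟩
      inv_mem' := fun {a} ha => ⟨(D.Gv _).inv_mem ha.1, fun d hd => by
        have e : ⁅a⁻¹, d⁆ = a⁻¹ * ⁅a, d⁆⁻¹ * a⁻¹⁻¹ := by simp [commutatorElement_def, mul_assoc]
        rw [e]
        exact D.W_conj ((D.Gv _).inv_mem ha.1) ((D.W _).inv_mem (ha.2 d hd))⟩ }
  have hnorm : ∀ g ∈ D.Gv (v 2), ∀ n ∈ N, g * n * g⁻¹ ∈ N := fun g hg n hn =>
    ⟨(D.Gv _).mul_mem ((D.Gv _).mul_mem hg hn.1) ((D.Gv _).inv_mem hg), fun d hd => by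
      have h1 := D.W_conj hg (hn.2 _ (D.normQ g⁻¹ ((D.Gv _).inv_mem hg) d hd))
      simpa [commutatorElement_def, mul_assoc] using h1⟩
  obtain ⟨y, hy, hyQ⟩ := SetLike.not_le_iff_exists.1 (h.crit (i := 2) h.four).not_le'
  have hyP := (h.crit (i := 2) h.four).mem_first hy
  refine ⟨N, fun g hg => hg.1, hnorm, ?_, fun n hn => hn.2⟩
  exact D.sup_eq_of_normal h.edge (fun g hg => hg.1) hnorm
    (show y ∈ N from ⟨D.le_G h.edge hyP, fun d hd => comm_V4_Q (h := h) hy hd⟩) hyP hyQ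

/-- The kernel on the middle module is `Q`. -/
theorem kerV_eq_Q (h5 : 5 ≤ L)
    (hcQ : ∀ g ∈ D.Gv (v 2), (∀ a ∈ D.Q (v 2), g * a = a * g) → g ∈ D.Q (v 2))
    (g : ↥(D.Gv (v 2))) : RV.ρ g = 1 ↔ (g : X) ∈ D.Q (v 2) := by
  obtain ⟨N, -, hnorm, hsup, hN⟩ := exists_trivial_Q (h := h)
  exact D.kerV_eq h.edge hcQ RV (D.W (v 2)) h.W_le N hnorm hsup hN
    (fun x hx a ha => (RM.kerρ x).1 (hC.kerV_le h5 hx) a ha) g

end Two.Coords

end Sys

end CfsgLib.PushUp.RankOne
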