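import Cfsg.Agent.Lib.PushUp.RankOne.TwoModule

/-!
Rank one pushing up: the case `b = 2`, the commutator form on the join of the neighbours, and `p ≠ 2`.
-/

set_option autoImplicit false
set_option linter.unusedSectionVars false

namespace CfsgLib.PushUp.RankOne

open scoped commutatorElement MatrixGroups
open Matrix
open CfsgLib.ClassicalLinear (upS upS_coe upS_add)
open CfsgLib.SL2Gen (lowS lowS_coe)

variable {X : Type*} [Group X] {p q : ℕ} {Γ : Type*} [MulAction X Γ]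

namespace Sys

variable (D : Sys p q X Γ) [Finite X] [hp : Fact p.Prime]
variable {L : ℕ} {v : ℕ → Γ} {Pc : ℕ → Subgroup X} {F : Type} [Field F]

namespace Two.Coords

variable {D} {h : D.Two L v Pc} {RV : D.Rep (v 2) (D.V (v 2)) ⊥ F}
  {RM : D.Rep (v 2) (D.W (v 2)) (D.V (v 2)) F} (hC : h.Coords RV RM)
include hC

omit hC in
theorem comm_conj {g a c : X} : g * ⁅a, c⁆ * g⁻¹ = ⁅g * a * g⁻¹, g * c * g⁻¹⁆ := by
  simp [commutatorElement_def, mul_assoc]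

/-- The members of `V v₄` realise the upper group. -/
theorem exists_V4_rho (t : F) : ∃ y : ↥(D.Gv (v 2)), (y : X) ∈ D.V (v 4) ∧ RM.ρ y = upS t := by
  obtain ⟨g, hg, hgt⟩ := hC.normM.exists_upper t
  obtain ⟨u, hu, a, ha, e⟩ := (h.crit (i := 2) h.four).exists_decomp D h.good hg
  have huG := D.le_G h.edge ((h.crit (i := 2) h.four).mem_first hu)
  refine ⟨⟨u, huG⟩, hu, ?_⟩
  rw [← hgt, show g = ⟨u, huG⟩ * ⟨a, D.Q_le_G _ ha⟩ from Subtype.ext e, map_mul,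
    RM.kerQ ⟨a, D.Q_le_G _ ha⟩ ha, mul_one]

/-- Commutation with an element of the edge. -/
theorem psi_comm {g : ↥(D.Gv (v 2))} {t : F} (hg : RM.ρ g = upS t) (w : ↥(D.W (v 2))) :
    RM.ψ ⟨⁅(g : X), (w : X)⁆, h.W_normal g.2 w.2⟩ = ![t * RM.ψ w 1, 0] := by
  rw [RM.map_comm (g := g) (w := w) (c := ⟨_, h.W_normal g.2 w.2⟩) rfl, hg, upS_mulVec]
  funext i; fin_cases i <;> simp

theorem psi_comm_low {g : ↥(D.Gv (v 2))} {t : F} (hg : RM.ρ g = lowS t) (w : ↥(D.W (v 2))) :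
    RM.ψ ⟨⁅(g : X), (w : X)⁆, h.W_normal g.2 w.2⟩ = ![0, t * RM.ψ w 0] := by
  rw [RM.map_comm (g := g) (w := w) (c := ⟨_, h.W_normal g.2 w.2⟩) rfl, hg, lowS_mulVec]
  funext i; fin_cases i <;> simp

theorem psi_zero_V1 {a : X} (ha : a ∈ D.V (v 1)) : RM.ψ ⟨a, h.V1_le_W ha⟩ 0 = 0 := by
  obtain ⟨g, hg, hgt⟩ := hC.normM.exists_lower 1
  have h1 : ⁅(g : X), a⁆ ∈ D.V (v 2) := by
    rw [← commutatorElement_inv]
    exact Subgroup.inv_mem _ (h.comm_U h.edge1 (Subgroup.commutator_mem_commutator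
      (D.V_le_U (h.left (i := 1) (by omega)) ha) hg)).1
  have h2 := hC.psi_comm_low hgt ⟨a, h.V1_le_W ha⟩
  rw [RM.kerY _ h1] at h2
  have h3 := congrFun h2 1
  simpa using h3.symm

theorem psi_one_V3 {c : X} (hc : c ∈ D.V (v 3)) : RM.ψ ⟨c, (h.V3_le_C hc).1⟩ 1 = 0 :=
  (hC.memM _).2 (h.V3_le_C hc).2

/-- A kernel element of `ψ` lies in the first neighbour. -/
theorem ker_mem_Q1 [Fintype F] [CharP F p] {w : ↥(D.W (v 2))} (hw : RM.ψ w = 0) :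
    (w : X) ∈ D.Q (v 1) := by
  have hF : Fintype.card F = q := by rw [← Nat.card_eq_fintype_card, hC.card]
  obtain ⟨RV', RM', hC'⟩ := (h.rev 4 le_rfl h.four).exists_coords (F := F) hF
  have h1 : RM'.ψ w = 0 := (RM'.ker w).2 ((RM.ker w).1 hw)
  exact (hC'.memM w).1 (by rw [h1]; rfl)

omit hC in
theorem surj_of_card [Fintype F] {H K : Subgroup X} {n : ℕ} (hKH : K ≤ H)
    (f : ↥H →* Multiplicative F) (hf : f.ker ≤ K.subgroupOf H) (hn : Fintype.card F = n)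
    (hc : Nat.card H = n * Nat.card K) : Function.Surjective f := by
  have h1 : Nat.card f.ker ≤ Nat.card K := by
    refine (Subgroup.card_le_of_le hf).trans ?_
    rw [Nat.card_congr (Subgroup.subgroupOfEquivOfLe hKH).toEquiv]
  have h2 : Nat.card H = Nat.card f.range * Nat.card f.ker := by
    rw [Subgroup.card_eq_card_quotient_mul_card_subgroup f.ker,
      Nat.card_congr (QuotientGroup.quotientKerEquivRange f).toEquiv]
  rw [← MonoidHom.range_eq_top]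
  refine Subgroup.eq_top_of_le_card _ ?_
  rw [Nat.card_congr Multiplicative.toAdd, Nat.card_eq_fintype_card, hn]
  refine Nat.le_of_mul_le_mul_right ?_ (Nat.card_pos (α := K))
  rw [← hc, h2]
  exact Nat.mul_le_mul_left _ h1

variable [Fintype F] [CharP F p]

theorem exists_V1_psi (η : F) : ∃ a : X, ∃ ha : a ∈ D.V (v 1),
    RM.ψ ⟨a, h.V1_le_W ha⟩ = ![0, η] := by
  let f : ↥(D.V (v 1)) →* Multiplicative F :=
    { toFun := fun a => Multiplicative.ofAdd (RM.ψ (Subgroup.inclusion h.V1_le_W a) 1)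
      map_one' := by rw [_root_.map_one, RM.map_one]; rfl
      map_mul' := fun a b => by rw [_root_.map_mul, RM.map_mul]; rfl }
  have hc := h.crit (i := 1) (by have := h.four; omega)
  have hs : Function.Surjective f := surj_of_card (K := D.V (v 1) ⊓ D.Q (v 3)) inf_le_left f
    (fun a ha => ⟨a.2, (hC.memM (Subgroup.inclusion h.V1_le_W a)).1 ha⟩)
    (by rw [← Nat.card_eq_fintype_card, hC.card])
    (by rw [hc.inf_eq D h.good]; exact (h.good _).card_V _ hc.first)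
  obtain ⟨a, ha⟩ := hs (Multiplicative.ofAdd η)
  refine ⟨a, a.2, ?_⟩
  funext i
  fin_cases i
  · exact hC.psi_zero_V1 a.2
  · exact ha

theorem exists_V3_psi (ξ : F) : ∃ c : X, ∃ hc : c ∈ D.V (v 3),
    RM.ψ ⟨c, (h.V3_le_C hc).1⟩ = ![ξ, 0] := by
  let f : ↥(D.V (v 3)) →* Multiplicative F :=
    { toFun := fun a => Multiplicative.ofAdd (RM.ψ ⟨a, (h.V3_le_C a.2).1⟩ 0)
      map_one' := congrArg Multiplicative.ofAdd (congrFun RM.map_one 0)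
      map_mul' := fun a b => congrArg Multiplicative.ofAdd
        (congrFun (RM.map_mul ⟨a, (h.V3_le_C a.2).1⟩ ⟨b, (h.V3_le_C b.2).1⟩) 0) }
  have hc := h.crit (i := 1) (by have := h.four; omega)
  have hs : Function.Surjective f := surj_of_card (K := D.V (v 3) ⊓ D.Q (v 1)) inf_le_left f
    (fun a ha => ⟨a.2, hC.ker_mem_Q1 (w := ⟨a, (h.V3_le_C a.2).1⟩) (by
      funext i; fin_cases i
      · exact ha
      · exact hC.psi_one_V3 a.2)⟩)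
    (by rw [← Nat.card_eq_fintype_card, hC.card])
    (by rw [hc.symm.inf_eq D h.good]; exact (h.good _).card_V _ hc.last)
  obtain ⟨a, ha⟩ := hs (Multiplicative.ofAdd ξ)
  refine ⟨a, a.2, ?_⟩
  funext i
  fin_cases i
  · exact ha
  · exact hC.psi_one_V3 a.2

/-- The neighbours span the join modulo the kernel. -/
theorem decomp_W {w : X} (hw : w ∈ D.W (v 2)) :
    ∃ a ∈ D.V (v 1), ∃ c ∈ D.V (v 3), ∃ f : ↥(D.W (v 2)), RM.ψ f = 0 ∧ w = a * c * f := by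
  obtain ⟨a, ha, ea⟩ := hC.exists_V1_psi (RM.ψ ⟨w, hw⟩ 1)
  obtain ⟨c, hc, ec⟩ := hC.exists_V3_psi (RM.ψ ⟨w, hw⟩ 0)
  refine ⟨a, ha, c, hc, (⟨a, h.V1_le_W ha⟩ * ⟨c, (h.V3_le_C hc).1⟩)⁻¹ * ⟨w, hw⟩, ?_, by simp [mul_assoc]⟩
  rw [RM.map_mul, RM.map_inv, RM.map_mul, ea, ec]
  funext i; fin_cases i <;> simp

omit hC in
include h in
theorem comm_V_Q {a d : X} (ha : a ∈ D.V (v 1) ∨ a ∈ D.V (v 3)) (hd : d ∈ D.Q (v 2)) :
    ⁅a, d⁆ ∈ Subgroup.centralizer (D.Gv (v 2) : Set X) := by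
  rcases ha with ha | ha
  · exact (h.R1_le (h.comm_Q2 hd ha)).2
  · exact ((h.rev 4 le_rfl h.four).R1_le ((h.rev 4 le_rfl h.four).comm_Q2 hd ha)).2

/-- A criterion for lying in the centre of the middle group. -/
theorem mem_cent_of {w d : X} (hw : w ∈ D.W (v 2)) (hd : d ∈ D.Q (v 2))
    (hker : ∀ f : ↥(D.W (v 2)), RM.ψ f = 0 →
      ⁅(f : X), d⁆ ∈ Subgroup.centralizer (D.Gv (v 2) : Set X)) :
    ⁅w, d⁆ ∈ Subgroup.centralizer (D.Gv (v 2) : Set X) := by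
  set Z := Subgroup.centralizer (D.Gv (v 2) : Set X)
  have hmul : ∀ {a b : X}, a ∈ D.Gv (v 2) → ⁅a, d⁆ ∈ Z → ⁅b, d⁆ ∈ Z → ⁅a * b, d⁆ ∈ Z :=
    fun {a b} haG ha hb => by
      rw [comm_mul_left, hb a haG, mul_inv_cancel_right]; exact Z.mul_mem hb ha
  obtain ⟨a, ha, c, hc, f, hf, rfl⟩ := hC.decomp_W hw
  have haG := h.W_le_G (h.V1_le_W ha)
  exact hmul ((D.Gv _).mul_mem haG (h.W_le_G (h.V3_le_C hc).1))
    (hmul haG (comm_V_Q (h := h) (Or.inl ha) hd) (comm_V_Q (h := h) (Or.inr hc) hd))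
    (hker f hf)

omit hC in
theorem mem_cent_of_conj {c : X} (hc : ∀ g ∈ D.Gv (v 2), g * c * g⁻¹ = c) :
    c ∈ Subgroup.centralizer (D.Gv (v 2) : Set X) := fun g hg => by
  simpa using congrArg (· * g) (hc g hg)

omit hC in
include h in
/-- The middle group moves kernel elements only inside the middle module. -/
theorem conj_ker {f : ↥(D.W (v 2))} (hf : RM.ψ f = 0) {g : X} (hg : g ∈ D.Gv (v 2)) :
    ∃ z ∈ D.V (v 2), g * (f : X) * g⁻¹ = z * (f : X) :=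
  ⟨⁅g, (f : X)⁆, (RM.ker f).1 hf g hg, by simp [commutatorElement_def]⟩

omit hC in
include h in
theorem comm_V_W {z w : X} (hz : z ∈ D.V (v 2)) (hw : w ∈ D.Q (v 2)) : w * z = z * w :=
  D.comm w hw z hz

omit hC in
include h in
theorem comm_mul_V {a b z : X} (hz : z ∈ D.V (v 2)) (ha : a ∈ D.Q (v 2)) (hb : b ∈ D.Q (v 2)) :
    ⁅z * a, b⁆ = ⁅a, b⁆ ∧ ⁅a, z * b⁆ = ⁅a, b⁆ := by
  have h1 : ∀ {u : X}, u ∈ D.Q (v 2) → ⁅z, u⁆ = 1 ∧ ⁅u, z⁆ = 1 := fun hu =>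
    ⟨sub_iff.2 (comm_V_W (h := h) hz hu).symm, sub_iff.2 (comm_V_W (h := h) hz hu)⟩
  have hab : ⁅a, b⁆ ∈ D.Q (v 2) :=
    (D.Q _).mul_mem ((D.Q _).mul_mem ((D.Q _).mul_mem ha hb) ((D.Q _).inv_mem ha)) ((D.Q _).inv_mem hb)
  have e : z * ⁅a, b⁆ * z⁻¹ = ⁅a, b⁆ := by
    rw [← comm_V_W (h := h) hz hab, mul_inv_cancel_right]
  constructor
  · rw [comm_mul_left, (h1 hb).1, mul_one, e]
  · rw [comm_mul_right, (h1 ha).2, one_mul, e]

/-- `[W, W]` is central in the middle group. -/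
theorem comm_W_cent {a b : X} (ha : a ∈ D.W (v 2)) (hb : b ∈ D.W (v 2)) :
    ⁅a, b⁆ ∈ Subgroup.centralizer (D.Gv (v 2) : Set X) := by
  refine hC.mem_cent_of ha (h.W_le hb) fun f hf => ?_
  rw [← commutatorElement_inv]
  refine Subgroup.inv_mem _ (hC.mem_cent_of hb (h.W_le f.2) fun f' hf' => ?_)
  refine mem_cent_of_conj fun g hg => ?_
  obtain ⟨z, hz, e⟩ := conj_ker (h := h) hf' hg
  obtain ⟨z', hz', e'⟩ := conj_ker (h := h) hf hg
  rw [comm_conj, e, e', (comm_mul_V (h := h) hz (h.W_le f'.2)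
    ((D.Q _).mul_mem (D.V_le _ hz') (h.W_le f.2))).1,
    (comm_mul_V (h := h) hz' (h.W_le f'.2) (h.W_le f.2)).2]

omit hC in
include h in
/-- The neighbouring vertices act on `Q` modulo the join trivially. -/
theorem comm_V4_Q {y d : X} (hy : y ∈ D.V (v 4)) (hd : d ∈ D.Q (v 2)) : ⁅y, d⁆ ∈ D.W (v 2) := by
  obtain ⟨u, hu, c, hc, rfl⟩ := h.decomp hd
  have hyG : y ∈ D.Gv (v 2) := D.le_G h.edge ((h.crit (i := 2) h.four).mem_first hy)
  rw [comm_mul_right]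
  refine (D.W _).mul_mem (h.W_normal hyG (h.V1_le_W hu)) (D.W_conj (D.Q_le_G _ ?_) ?_)
  · exact (h.V_le_Q (i := 1) (j := 2) (by omega) (by omega) le_rfl).1 hu
  · exact h.V2_le_W (h.R0_le (h.comm_Q3 hc.2 hy)).1

omit hC in
include h in
theorem comm_V0_Q {y d : X} (hy : y ∈ D.V (v 0)) (hd : d ∈ D.Q (v 2)) : ⁅y, d⁆ ∈ D.W (v 2) :=
  comm_V4_Q (h := h.rev 4 le_rfl h.four) hy hd

/-- The two Sylow subgroups fix only central elements of the middle module. -/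
theorem fixV {a : X} (ha : a ∈ D.V (v 2))
    (hy : ∀ y, y ∈ D.V (v 4) ∨ y ∈ D.V (v 0) →
      ∃ z ∈ Subgroup.centralizer (D.Gv (v 2) : Set X), y * a * y⁻¹ = z * a) :
    a ∈ Subgroup.centralizer (D.Gv (v 2) : Set X) := by
  have hc0 := h.crit (i := 0) (by have := h.four; omega)
  have hc2 := h.crit (i := 2) h.four
  have key : ∀ g : ↥(D.Gv (v 2)), (∃ u, (u ∈ D.V (v 4) ∨ u ∈ D.V (v 0)) ∧ ∃ c ∈ D.Q (v 2), (g : X) = u * c) →
      ((RV.ρ g : SL(2, F)) : Matrix (Fin 2) (Fin 2) F) *ᵥ RV.ψ ⟨a, ha⟩ = RV.ψ ⟨a, ha⟩ := by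
    rintro g ⟨u, hu, c, hc, e⟩
    have huG : u ∈ D.Gv (v 2) := hu.elim (fun h1 => D.le_G h.edge (hc2.mem_first h1))
      (fun h1 => D.le_G h.edge1 (hc0.mem_last h1))
    obtain ⟨z, hz, ez⟩ := hy u hu
    have hzV : z ∈ D.V (v 2) := by
      simpa [ez] using (D.V (v 2)).mul_mem (D.normV u huG a ha) ((D.V (v 2)).inv_mem ha)
    have e1 : RV.ψ ⟨z, hzV⟩ = 0 := (RV.ker _).2 fun k hk =>
      Subgroup.mem_bot.2 (commutator_eq_one_of (hz k hk))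
    have e2 : ((⟨z, hzV⟩ * ⟨a, ha⟩ : ↥(D.V (v 2))) : X) = (g : X) * a * (g : X)⁻¹ := by
      rw [e]
      have e3 : c * a * c⁻¹ = a := by rw [D.comm c hc a ha, mul_inv_cancel_right]
      calc z * a = u * (c * a * c⁻¹) * u⁻¹ := by rw [e3, ez]
        _ = _ := by simp [mul_assoc]
    rw [← RV.equiv g ⟨a, ha⟩ _ e2, RV.map_mul, e1, zero_add]
  obtain ⟨g, hg, hgt⟩ := hC.normV.exists_upper 1
  obtain ⟨g', hg', hgt'⟩ := hC.normV.exists_lower 1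
  obtain ⟨u, hu, c, hc, e⟩ := hc2.exists_decomp D h.good hg
  obtain ⟨u', hu', c', hc', e'⟩ := hc0.symm.exists_decomp D h.good hg'
  have h1 := key g ⟨u, Or.inl hu, c, hc, e⟩
  have h2 := key g' ⟨u', Or.inr hu', c', hc', e'⟩
  rw [hgt, upS_mulVec] at h1
  rw [hgt', lowS_mulVec] at h2
  have h3 := congrFun h1 0
  have h4 := congrFun h2 1
  simp at h3 h4
  have h5 : RV.ψ ⟨a, ha⟩ = 0 := by funext i; fin_cases i <;> simp [h3, h4]
  exact fun k hk => sub_iff.1 (Subgroup.mem_bot.1 ((RV.ker _).1 h5 k hk))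

/-- `[W, Q]` is central in the middle group. -/
theorem comm_Q_cent {w d : X} (hw : w ∈ D.W (v 2)) (hd : d ∈ D.Q (v 2)) :
    ⁅w, d⁆ ∈ Subgroup.centralizer (D.Gv (v 2) : Set X) := by
  refine hC.mem_cent_of hw hd fun f hf => ?_
  refine hC.fixV (h.comm_W_Q (Subgroup.commutator_mem_commutator f.2 hd)) fun y hy => ?_
  have hyG : y ∈ D.Gv (v 2) := hy.elim
    (fun h1 => D.le_G h.edge ((h.crit (i := 2) h.four).mem_first h1))
    (fun h1 => D.le_G h.edge1 ((h.crit (i := 0) (by have := h.four; omega)).mem_last h1))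
  have hw' : ⁅y, d⁆ ∈ D.W (v 2) := hy.elim (fun h1 => comm_V4_Q (h := h) h1 hd)
    (fun h1 => comm_V0_Q (h := h) h1 hd)
  obtain ⟨z, hz, e⟩ := conj_ker (h := h) hf hyG
  have hzc := hC.comm_W_cent f.2 hw'
  refine ⟨⁅(f : X), ⁅y, d⁆⁆, hzc, ?_⟩
  have e' : y * d * y⁻¹ = ⁅y, d⁆ * d := by simp [commutatorElement_def]
  have hwdQ : ⁅y, d⁆ * d ∈ D.Q (v 2) := (D.Q _).mul_mem (h.W_le hw') hd
  have hfd : ⁅(f : X), d⁆ ∈ D.V (v 2) := h.comm_W_Q (Subgroup.commutator_mem_commutator f.2 hd)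
  rw [comm_conj, e, e', (comm_mul_V (h := h) hz (h.W_le f.2) hwdQ).1, comm_mul_right,
    comm_V_W (h := h) hfd (h.W_le hw'), mul_inv_cancel_right]

/-- Kernel elements commute with commutators of the middle group and the join. -/
theorem comm_ker {f : ↥(D.W (v 2))} (hf : RM.ψ f = 0) {a : X}
    (ha : a ∈ ⁅D.Gv (v 2), D.W (v 2)⁆) : (f : X) * a = a * f := by
  suffices ⁅D.Gv (v 2), D.W (v 2)⁆ ≤ Subgroup.centralizer {(f : X)} from
    Subgroup.mem_centralizer_singleton_iff.1 (this ha) |>.symm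
  rw [Subgroup.commutator_le]
  intro g hg w hw
  rw [Subgroup.mem_centralizer_singleton_iff]
  set z := ⁅(f : X), w⁆ with hz
  have hzc := hC.comm_W_cent f.2 hw
  obtain ⟨u, hu, e⟩ := conj_ker (h := h) hf ((D.Gv _).inv_mem hg)
  rw [inv_inv] at e
  have e1 : ⁅(f : X), g * w * g⁻¹⁆ = z := by
    have : ⁅(f : X), g * w * g⁻¹⁆ = g * ⁅g⁻¹ * f * g, w⁆ * g⁻¹ := by
      simp [commutatorElement_def, mul_assoc]
    rw [this, e, (comm_mul_V (h := h) hu (h.W_le f.2) (h.W_le hw)).1, hzc g hg, mul_inv_cancel_right]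
  have e2 : (f : X) * (g * w * g⁻¹) * (f : X)⁻¹ = z * (g * w * g⁻¹) := by
    rw [← e1]; simp [commutatorElement_def, mul_assoc]
  have e3 : (f : X) * w * (f : X)⁻¹ = z * w := by simp [hz, commutatorElement_def, mul_assoc]
  have hzm : g * w * g⁻¹ * w⁻¹ * z = z * (g * w * g⁻¹ * w⁻¹) := hzc _ ((D.Gv _).mul_mem
    ((D.Gv _).mul_mem ((D.Gv _).mul_mem hg (h.W_le_G hw)) ((D.Gv _).inv_mem hg))
    ((D.Gv _).inv_mem (h.W_le_G hw)))
  have e4 : (f : X) * ⁅g, w⁆ * (f : X)⁻¹ = ⁅g, w⁆ := by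
    calc (f : X) * ⁅g, w⁆ * (f : X)⁻¹
        = ((f : X) * (g * w * g⁻¹) * (f : X)⁻¹) * ((f : X) * w * (f : X)⁻¹)⁻¹ := by
          simp [commutatorElement_def, mul_assoc]
      _ = z * (g * w * g⁻¹ * w⁻¹) * z⁻¹ := by rw [e2, e3]; simp [mul_assoc]
      _ = ⁅g, w⁆ := by rw [← hzm, mul_inv_cancel_right]; rfl
  calc ⁅g, w⁆ * (f : X) = (f : X) * ⁅g, w⁆ * (f : X)⁻¹ * f := by rw [e4]
    _ = f * ⁅g, w⁆ := by simp

theorem exists_Wc (u : Fin 2 → F) :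
    ∃ a ∈ ⁅D.Gv (v 2), D.W (v 2)⁆, ∃ ha : a ∈ D.W (v 2), RM.ψ ⟨a, ha⟩ = u := by
  obtain ⟨g, -, hgt⟩ := hC.normM.exists_upper (u 0)
  obtain ⟨g', -, hgt'⟩ := hC.normM.exists_lower (u 1)
  obtain ⟨w, hw⟩ := RM.surjψ ![0, 1]
  obtain ⟨w', hw'⟩ := RM.surjψ ![1, 0]
  refine ⟨⁅(g : X), (w : X)⁆ * ⁅(g' : X), (w' : X)⁆,
    Subgroup.mul_mem _ (Subgroup.commutator_mem_commutator g.2 w.2)
      (Subgroup.commutator_mem_commutator g'.2 w'.2),
    (D.W _).mul_mem (h.W_normal g.2 w.2) (h.W_normal g'.2 w'.2), ?_⟩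
  have := RM.map_mul ⟨_, h.W_normal g.2 w.2⟩ ⟨_, h.W_normal g'.2 w'.2⟩
  rw [hC.psi_comm hgt w, hC.psi_comm_low hgt' w', hw, hw'] at this
  refine this.trans ?_
  funext i; fin_cases i <;> simp

/-- The commutator form depends only on coordinates. -/
theorem form_congr {a a' b b' : ↥(D.W (v 2))} (ha : (a : X) ∈ ⁅D.Gv (v 2), D.W (v 2)⁆)
    (ha' : (a' : X) ∈ ⁅D.Gv (v 2), D.W (v 2)⁆) (e : RM.ψ a = RM.ψ a') (e' : RM.ψ b = RM.ψ b') :
    ⁅(a : X), (b : X)⁆ = ⁅(a' : X), (b' : X)⁆ := by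
  have hk : RM.ψ (b⁻¹ * b') = 0 := by rw [RM.map_mul, RM.map_inv, e', neg_add_cancel]
  have hk' : RM.ψ (a⁻¹ * a') = 0 := by rw [RM.map_mul, RM.map_inv, e, neg_add_cancel]
  obtain ⟨c, hc, hcW, ec⟩ := hC.exists_Wc (RM.ψ b)
  have hk'' : RM.ψ (⟨c, hcW⟩⁻¹ * b) = 0 := by rw [RM.map_mul, RM.map_inv, ec, neg_add_cancel]
  have hka : ((a⁻¹ * a' : ↥(D.W (v 2))) : X) ∈ ⁅D.Gv (v 2), D.W (v 2)⁆ :=
    Subgroup.mul_mem _ (Subgroup.inv_mem _ ha) ha'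
  have hcomm : ((a⁻¹ * a' : ↥(D.W (v 2))) : X) * b = b * ((a⁻¹ * a' : ↥(D.W (v 2))) : X) := by
    have h1 := hC.comm_ker hk' hc
    have h2 := (hC.comm_ker hk'' hka).symm
    have h3 : (b : X) = c * ((⟨c, hcW⟩⁻¹ * b : ↥(D.W (v 2))) : X) := by simp
    rw [h3]
    exact Commute.mul_right h1 h2
  have h1 : ⁅(a' : X), (b' : X)⁆ = ⁅(a' : X), (b : X)⁆ := by
    rw [show (b' : X) = b * ((b⁻¹ * b' : ↥(D.W (v 2))) : X) by simp, comm_mul_right,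
      sub_iff.2 (hC.comm_ker hk ha').symm]
    simp
  rw [h1, show (a' : X) = a * ((a⁻¹ * a' : ↥(D.W (v 2))) : X) by simp, comm_mul_left,
    sub_iff.2 hcomm]
  simp

omit hC in
include h in
theorem R0_cent (h5 : 5 ≤ L) :
    ⁅D.V (v 2), D.V (v 4)⁆ ≤ Subgroup.centralizer (D.Gv (v 3) : Set X) := by
  have h1 := h.chain.comm_le_G D h.good h.two_le (i := 2) (j := 1) le_rfl
    (by rw [h.b_eq]; omega) (by rw [h.b_eq]; exact h5)
  rw [h.b_eq] at h1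
  exact h1.trans inf_le_right

theorem p_ne_two (h5 : 5 ≤ L) : p ≠ 2 := by
  intro hp2
  obtain ⟨x, hx, y, hy, x', hx', hne⟩ := h.exists_nonzero
  set C3 := Subgroup.centralizer (D.Gv (v 3) : Set X)
  have hG : ∀ {y : X}, y ∈ D.V (v 4) → y ∈ D.Gv (v 2) := fun hy =>
    D.le_G h.edge ((h.crit (i := 2) h.four).mem_first hy)
  have hyG := hG hy
  obtain ⟨τ, hτ⟩ := hC.normM.upper ⟨y, hyG⟩ ((h.crit (i := 2) h.four).mem_first hy)
  set η := RM.ψ ⟨x, h.V1_le_W hx⟩ 1 with hη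
  set η' := RM.ψ ⟨x', h.V1_le_W hx'⟩ 1 with hη'
  have e1 : RM.ψ ⟨x', h.V1_le_W hx'⟩ = ![0, η'] := by
    funext i; fin_cases i
    · exact hC.psi_zero_V1 hx'
    · rfl
  have e0 : RM.ψ ⟨⁅y, x⁆, h.W_normal hyG (h.V1_le_W hx)⟩ = ![τ * η, 0] :=
    hC.psi_comm hτ ⟨x, h.V1_le_W hx⟩
  have hmem : ⁅y, x⁆ ∈ ⁅D.Gv (v 2), D.W (v 2)⁆ :=
    Subgroup.commutator_mem_commutator hyG (h.V1_le_W hx)
  refine hne ?_
  by_cases hη0 : η' = 0
  · have := hC.form_congr (a := ⟨_, h.W_normal hyG (h.V1_le_W hx)⟩) (b := ⟨x', h.V1_le_W hx'⟩)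
      (b' := 1) hmem hmem rfl (by rw [e1, hη0, RM.map_one]; funext i; fin_cases i <;> rfl)
    rw [show ((1 : ↥(D.W (v 2))) : X) = 1 from rfl] at this
    rw [this, commutatorElement_one_right]
    exact one_mem _
  obtain ⟨y', hy', hyt⟩ := hC.exists_V4_rho (τ * η * η')
  obtain ⟨x₀, hx₀, ex₀⟩ := hC.exists_V1_psi 1
  obtain ⟨g, hg⟩ := RM.surjρ ⟨!![η', 0; 0, η'⁻¹], by simp [Matrix.det_fin_two, hη0]⟩
  have hgy : (g : X) * y * (g : X)⁻¹ ∈ D.Gv (v 2) :=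
    (D.Gv _).mul_mem ((D.Gv _).mul_mem g.2 hyG) ((D.Gv _).inv_mem g.2)
  have hcW : (g : X) * ⁅y, x⁆ * (g : X)⁻¹ ∈ D.W (v 2) := D.W_conj g.2 (h.W_normal hyG (h.V1_le_W hx))
  have hxW : (g : X) * x' * (g : X)⁻¹ ∈ D.W (v 2) := D.W_conj g.2 (h.V1_le_W hx')
  have hmem' : (g : X) * ⁅y, x⁆ * (g : X)⁻¹ ∈ ⁅D.Gv (v 2), D.W (v 2)⁆ := by
    rw [comm_conj]
    exact Subgroup.commutator_mem_commutator hgy (D.W_conj g.2 (h.V1_le_W hx))
  have key : ⁅⁅y, x⁆, x'⁆ = ⁅⁅(y' : X), x₀⁆, x₀⁆ := by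
    have hz := hC.comm_W_cent (h.W_normal hyG (h.V1_le_W hx)) (h.V1_le_W hx')
    have e2 : ⁅⁅y, x⁆, x'⁆ = ⁅(g : X) * ⁅y, x⁆ * (g : X)⁻¹, (g : X) * x' * (g : X)⁻¹⁆ := by
      rw [← comm_conj, hz g g.2, mul_inv_cancel_right]
    rw [e2]
    refine hC.form_congr (a := ⟨_, hcW⟩) (a' := ⟨_, h.W_normal y'.2 (h.V1_le_W hx₀)⟩)
      (b := ⟨_, hxW⟩) (b' := ⟨x₀, h.V1_le_W hx₀⟩) hmem'
      (Subgroup.commutator_mem_commutator y'.2 (h.V1_le_W hx₀)) ?_ ?_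
    · rw [RM.equiv g ⟨_, h.W_normal hyG (h.V1_le_W hx)⟩ ⟨_, hcW⟩ rfl, e0,
        hC.psi_comm hyt ⟨x₀, h.V1_le_W hx₀⟩, ex₀, hg]
      funext i; fin_cases i <;> simp [Matrix.mulVec, dotProduct, Fin.sum_univ_two]; ring
    · rw [RM.equiv g ⟨_, h.V1_le_W hx'⟩ ⟨_, hxW⟩ rfl, e1, ex₀, hg]
      funext i; fin_cases i <;> simp [Matrix.mulVec, dotProduct, Fin.sum_univ_two, hη0]
  -- the diagonal in characteristic two
  rw [key]
  set c := ⁅(y' : X), x₀⁆ with hc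
  have hcD := h.comm41 (Subgroup.commutator_mem_commutator hy' hx₀)
  have hinv : ∀ {z : X} {w : Γ}, z ∈ D.V w → z⁻¹ = z := fun {z w} hz => by
    refine (eq_inv_of_mul_eq_one_left ?_).symm
    have h1 := D.powV z hz
    rwa [hp2, pow_two] at h1
  have hy2 := hinv hy'
  have hx2 := hinv hx₀
  have ec : c = (y' : X) * x₀ * y' * x₀ := by rw [hc, commutatorElement_def, hy2, hx2]
  have eci : c⁻¹ = x₀ * (y' : X) * x₀ * y' := by rw [ec]; simp [hy2, hx2, mul_assoc]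
  have hxx : x₀ * x₀ = 1 := by nth_rewrite 2 [← hx2]; exact mul_inv_cancel _
  have hyy : (y' : X) * y' = 1 := by nth_rewrite 2 [← hy2]; exact mul_inv_cancel _
  have f1 : ⁅c, x₀⁆ = c * c := by
    have : x₀ * c⁻¹ * x₀ = c := by
      rw [eci, ec]; simp only [← mul_assoc, hxx, one_mul]
    calc ⁅c, x₀⁆ = c * (x₀ * c⁻¹ * x₀) := by rw [commutatorElement_def, hx2]; simp [mul_assoc]
      _ = c * c := by rw [this]
  have f2 : ⁅c, (y' : X)⁆ = c * c := by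
    have : (y' : X) * c⁻¹ * y' = c := by
      rw [eci, ec]; simp only [mul_assoc, hyy, mul_one]
    calc ⁅c, (y' : X)⁆ = c * ((y' : X) * c⁻¹ * y') := by
          rw [commutatorElement_def, hy2]; simp [mul_assoc]
      _ = c * c := by rw [this]
  rw [f1, ← f2, ← commutatorElement_inv]
  exact Subgroup.inv_mem _ (R0_cent (h := h) h5 (h.comm_Q3 hcD.2 hy'))

end Two.Coords

end Sys

end CfsgLib.PushUp.RankOne
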