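import Cfsg.Agent.Lib.PushUp.RankOne.TwoBasic

/-!
Rank one pushing up: the case `b = 2`, the action of the middle group on the join of the neighbours
modulo its own module.
-/

set_option autoImplicit false
set_option linter.unusedSectionVars false

namespace CfsgLib.PushUp.RankOne

open scoped commutatorElement MatrixGroups
open Matrix
open CfsgLib.ClassicalLinear (upS upS_coe upS_add)
open CfsgLib.SL2Gen (lowS lowS_coe)

variable {X : Type*} [Group X] {p q : ℕ} {Γ : Type*} [MulAction X Γ]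

/-- Commutators of a supremum. -/
theorem commutator_iSup_le {ι : Sort*} (A : ι → Subgroup X) {C T : Subgroup X}
    (hn : ∀ i, A i ≤ Subgroup.normalizer (T : Set X)) (h : ∀ i, ⁅A i, C⁆ ≤ T) :
    ⁅⨆ i, A i, C⁆ ≤ T := by
  rw [Subgroup.commutator_le]
  intro g hg c hc
  suffices ∀ g ∈ ⨆ i, A i, g ∈ Subgroup.normalizer (T : Set X) ∧ ∀ c ∈ C, ⁅g, c⁆ ∈ T from
    (this g hg).2 c hc
  intro g hg
  induction hg using Subgroup.iSup_induction' with
  | hp i g hg => exact ⟨hn i hg, fun c hc => h i (Subgroup.commutator_mem_commutator hg hc)⟩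
  | h1 => exact ⟨one_mem _, fun c _ => by simp⟩
  | hmul a b _ _ ha hb =>
    exact ⟨mul_mem ha.1 hb.1, fun c hc => by
      rw [comm_mul_left]
      exact T.mul_mem ((Subgroup.mem_normalizer_iff.1 ha.1 _).1 (hb.2 c hc)) (ha.2 c hc)⟩

namespace Sys

variable (D : Sys p q X Γ) [Finite X] [hp : Fact p.Prime]
variable {L : ℕ} {v : ℕ → Γ} {Pc : ℕ → Subgroup X}

namespace Two

variable {D} (h : D.Two L v Pc)
include h

/-- The reversed chain. -/
theorem rev (n : ℕ) (h4 : 4 ≤ n) (hn : n ≤ L) :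
    D.Two n (fun i => v (n - i)) (fun i => Pc (n - 1 - i)) where
  good := h.good
  b_eq := h.b_eq
  four := h4
  chain :=
    { left := fun i hi => by
        have h1 := h.chain.right (n - 1 - i) (by omega)
        rwa [show n - 1 - i + 1 = n - i by omega] at h1
      right := fun i hi => by
        have h1 := h.chain.left (n - 1 - i) (by omega)
        show D.I (v (n - (i + 1))) _
        rwa [show n - (i + 1) = n - 1 - i by omega]
      crit := fun i hi => by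
        rw [h.b_eq] at hi ⊢
        have h1 := (h.crit (i := n - (i + 2)) (by omega)).not_le'
        rw [show n - (i + 2) + 2 = n - i by omega] at h1
        exact h1
      gen := fun i hi _ => by
        show Pc (n - 1 - i) ⊔ Pc (n - 1 - (i + 1)) = D.Gv (v (n - (i + 1)))
        rw [sup_comm]
        have h1 := h.chain.gen (n - 2 - i) (by omega) (by omega)
        rw [show n - 2 - i + 1 = n - 1 - i by omega, show n - 2 - i = n - 1 - (i + 1) by omega] at h1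
        rwa [show n - (i + 1) = n - 1 - i by omega] }

theorem gen2 : Pc 2 ⊔ Pc 1 = D.Gv (v 2) := by
  rw [sup_comm]
  exact h.chain.gen 1 (by have := h.four; omega) (by have := h.four; omega)

theorem edge1 : D.I (v 2) (Pc 1) := h.right (i := 1) (by omega)

theorem W_le_G : D.W (v 2) ≤ D.Gv (v 2) := h.W_le.trans (D.Q_le_G _)

theorem W_normal {g w : X} (hg : g ∈ D.Gv (v 2)) (hw : w ∈ D.W (v 2)) :
    ⁅g, w⁆ ∈ D.W (v 2) := (D.W (v 2)).mul_mem (D.W_conj hg hw) ((D.W (v 2)).inv_mem hw)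

theorem comm_U {P : Subgroup X} (hP : D.I (v 2) P) :
    ⁅D.U P, P⁆ ≤ D.V (v 2) ⊓ Subgroup.centralizer (P : Set X) := by
  have hn : P ≤ Subgroup.normalizer ((D.V (v 2) ⊓ Subgroup.centralizer (P : Set X) : Subgroup X) : Set X) :=
    le_normalizer_of_central inf_le_right
  refine commutator_iSup_le _ (fun y => iSup_le fun hy => ?_) (fun y => ?_)
  · exact ((D.V_le y).trans (D.Q_le hy)).trans hn
  · refine commutator_iSup_le _ (fun hy => ((D.V_le y).trans (D.Q_le hy)).trans hn) fun hy => ?_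
    exact fun t ht => ⟨D.center_mem hy hP ((h.good y).comm_le P hy ht).1 ((h.good y).comm_le P hy ht).2,
      ((h.good y).comm_le P hy ht).2⟩

theorem comm_W_Q : ⁅D.W (v 2), D.Q (v 2)⁆ ≤ D.V (v 2) := by
  have hn : ∀ P, D.I (v 2) P → D.U P ≤ Subgroup.normalizer (D.V (v 2) : Set X) := fun P hP =>
    le_normalizer_of_conj fun g hg a ha =>
      D.normV g (h.W_le_G (D.U_le_W hP hg)) a ha
  refine commutator_iSup_le _ (fun P => iSup_le fun hP => hn P hP) fun P => ?_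
  refine commutator_iSup_le _ (fun hP => hn P hP) fun hP => ?_
  exact ((Subgroup.commutator_mono le_rfl (D.Q_le hP)).trans (h.comm_U hP)).trans inf_le_left

theorem comm_W {a b : X} (ha : a ∈ D.W (v 2)) (hb : b ∈ D.W (v 2)) : ⁅a, b⁆ ∈ D.V (v 2) :=
  h.comm_W_Q (Subgroup.commutator_mem_commutator ha (h.W_le hb))

theorem comm_Q_W {g w : X} (hg : g ∈ D.Q (v 2)) (hw : w ∈ D.W (v 2)) : ⁅g, w⁆ ∈ D.V (v 2) := by
  rw [← commutatorElement_inv]
  exact Subgroup.inv_mem _ (h.comm_W_Q (Subgroup.commutator_mem_commutator hw hg))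

theorem pow_W {w : X} (hw : w ∈ D.W (v 2)) : w ^ p ∈ D.V (v 2) := by
  suffices ∀ w ∈ D.W (v 2), w ∈ D.W (v 2) ∧ w ^ p ∈ D.V (v 2) from (this w hw).2
  let K : Subgroup X :=
    { carrier := {w | w ∈ D.W (v 2) ∧ w ^ p ∈ D.V (v 2)}
      one_mem' := ⟨one_mem _, by rw [one_pow]; exact one_mem _⟩
      mul_mem' := fun {a b} ha hb => ⟨(D.W _).mul_mem ha.1 hb.1, by
        have hc := h.comm_W hb.1 ha.1
        have hcen : ∀ g ∈ D.W (v 2), Commute ⁅b, a⁆ g := fun g hg =>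
          (D.comm g (h.W_le hg) _ hc).symm
        rw [mul_pow_of_central (c := ⁅b, a⁆) (by simp [commutatorElement_def, mul_assoc])
          (hcen a ha.1) (hcen b hb.1) p]
        exact (D.V _).mul_mem ((D.V _).mul_mem ha.2 hb.2) ((D.V _).pow_mem hc _)⟩
      inv_mem' := fun {a} ha => ⟨(D.W _).inv_mem ha.1, by rw [inv_pow]; exact (D.V _).inv_mem ha.2⟩ }
  have hle : D.W (v 2) ≤ K := iSup₂_le fun P hP => iSup₂_le fun y hy u hu =>
    ⟨D.U_le_W hP (D.V_le_U hy hu), by rw [D.powV u hu]; exact one_mem _⟩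
  exact fun w hw => hle hw

omit h in
theorem comm_mul_W {g a : X} (hg : g ∈ D.Gv (v 2)) (ha : a ∈ D.V (v 2)) :
    g * a * g⁻¹ ∈ D.V (v 2) := D.normV g hg a ha

/-- Only a small group fixes the neighbours modulo the middle module. -/
theorem fix_lt {P : Subgroup X} (hP : D.I (v 2) P) {N : Subgroup X} (hNG : N ≤ D.Gv (v 2))
    (hN : ∀ g ∈ N, ∀ w ∈ D.W (v 2), ⁅g, w⁆ ∈ D.V (v 2)) : N ⊔ P ≠ D.Gv (v 2) := by
  intro e
  have hVU : D.V (v 2) ≤ D.U P := D.V_le_U hP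
  have hUP : D.U P ≤ P := iSup₂_le fun w hw => (D.V_le w).trans (D.Q_le hw)
  have hle : N ⊔ P ≤ Subgroup.normalizer (D.U P : Set X) := by
    refine sup_le (le_normalizer_of_conj fun g hg u hu => ?_) (le_normalizer_of_conj fun g hg u hu => ?_)
    · have := (D.U P).mul_mem (hVU (hN g hg u (D.U_le_W hP hu))) hu
      simpa [commutatorElement_def, mul_assoc] using this
    · have := D.conj_mem_U g hu
      rwa [cj_eq_self_of_mem hg] at this
  have hbot : D.U P = ⊥ := D.core hP _ hUP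
    (fun g hg t ht => (Subgroup.mem_normalizer_iff.1 (hle (e ▸ hg)) t).1 ht)
    (fun g hg t ht => by
      have := D.conj_mem_U g ht
      rwa [hg] at this)
  exact D.V_ne_bot _ (le_bot_iff.1 (hbot ▸ hVU))

/-- The subgroup fixing the neighbours modulo the middle module. -/
theorem exists_fix : ∃ N : Subgroup X, N ≤ D.Gv (v 2) ∧
    (∀ g ∈ D.Gv (v 2), (g ∈ N ↔ ∀ w ∈ D.W (v 2), ⁅g, w⁆ ∈ D.V (v 2))) ∧
    ∀ g ∈ D.Gv (v 2), ∀ n ∈ N, g * n * g⁻¹ ∈ N := by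
  let N : Subgroup X :=
    { carrier := {g | g ∈ D.Gv (v 2) ∧ ∀ w ∈ D.W (v 2), ⁅g, w⁆ ∈ D.V (v 2)}
      one_mem' := ⟨one_mem _, fun w _ => by simp⟩
      mul_mem' := fun {a b} ha hb => ⟨(D.Gv _).mul_mem ha.1 hb.1, fun w hw => by
        rw [comm_mul_left]
        exact (D.V _).mul_mem (D.normV a ha.1 _ (hb.2 w hw)) (ha.2 w hw)⟩
      inv_mem' := fun {a} ha => ⟨(D.Gv _).inv_mem ha.1, fun w hw => by
        have e : ⁅a⁻¹, w⁆ = a⁻¹ * ⁅a, w⁆⁻¹ * a⁻¹⁻¹ := by simp [commutatorElement_def, mul_assoc]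
        rw [e]
        exact D.normV _ ((D.Gv _).inv_mem ha.1) _ ((D.V _).inv_mem (ha.2 w hw))⟩ }
  refine ⟨N, fun g hg => hg.1, fun g hg => ⟨fun hn => hn.2, fun hn => ⟨hg, hn⟩⟩, fun g hg n hn => ?_⟩
  refine ⟨(D.Gv _).mul_mem ((D.Gv _).mul_mem hg hn.1) ((D.Gv _).inv_mem hg), fun w hw => ?_⟩
  have h1 := D.normV g hg _ (hn.2 _ (D.W_conj ((D.Gv _).inv_mem hg) hw))
  simpa [commutatorElement_def, mul_assoc] using h1

theorem fix_mem_M {P : Subgroup X} (hP : D.I (v 2) P) {g : X} (hg : g ∈ D.Gv (v 2))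
    (hgW : ∀ w ∈ D.W (v 2), ⁅g, w⁆ ∈ D.V (v 2)) : g ∈ D.M (v 2) P := by
  obtain ⟨N, hNG, hN, -⟩ := h.exists_fix
  have h1 := (D.M_spec hP).2.2.1 (N ⊔ P) le_sup_right (sup_le hNG (D.le_G hP))
    (h.fix_lt hP hNG fun g hg => (hN g (hNG hg)).1 hg)
  exact h1 (Subgroup.mem_sup_left ((hN g hg).2 hgW))

theorem fix_mem_Q {P : Subgroup X} (hP : D.I (v 2) P) {g : X} (hg : g ∈ P)
    (hgW : ∀ w ∈ D.W (v 2), ⁅g, w⁆ ∈ D.V (v 2)) : g ∈ D.Q (v 2) := by
  obtain ⟨N, hNG, hN, hnorm⟩ := h.exists_fix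
  by_contra hgQ
  exact h.fix_lt hP hNG (fun g hg => (hN g (hNG hg)).1 hg)
    (D.sup_eq_of_normal hP hNG hnorm ((hN g (D.le_G hP hg)).2 hgW) hg hgQ)

theorem V2_le_C : D.V (v 2) ≤ D.W (v 2) ⊓ D.Q (v 3) :=
  le_inf h.V2_le_W (h.V_le_Q (i := 2) (j := 3) (by omega) (by omega) le_rfl).1

theorem V3_le_C : D.V (v 3) ≤ D.W (v 2) ⊓ D.Q (v 3) :=
  le_inf ((D.V_le_U (h.right (i := 2) (by omega))).trans (D.U_le_W h.edge)) (D.V_le _)

theorem comm_V4_W {y w : X} (hy : y ∈ D.V (v 4)) (hw : w ∈ D.W (v 2)) :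
    ⁅y, w⁆ ∈ D.W (v 2) ⊓ D.Q (v 3) := by
  have hyG : y ∈ D.Gv (v 2) := D.le_G h.edge ((h.crit (i := 2) h.four).mem_first hy)
  refine ⟨h.W_normal hyG hw, ?_⟩
  obtain ⟨a, ha, d, hd, rfl⟩ := h.decomp (h.W_le hw)
  have hr := (h.R0_le (h.comm_Q3 hd.2 hy)).1
  rw [comm_mul_right, D.comm a ((h.V_le_Q (i := 1) (j := 2) (by omega) (by omega) le_rfl).1 ha) _ hr,
    mul_inv_cancel_right]
  exact (D.Q (v 3)).mul_mem (h.comm41 (Subgroup.commutator_mem_commutator hy ha)).2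
    (h.V2_le_C hr).2

theorem comm_edge_C {b c : X} (hb : b ∈ Pc 2) (hc : c ∈ D.W (v 2) ⊓ D.Q (v 3)) :
    ⁅b, c⁆ ∈ D.V (v 2) := by
  obtain ⟨u, hu, a, ha, rfl⟩ := (h.crit (i := 2) h.four).exists_decomp D h.good hb
  rw [comm_mul_left]
  exact (D.V _).mul_mem
    (D.normV u (D.le_G h.edge ((h.crit (i := 2) h.four).mem_first hu)) _ (h.comm_Q_W ha hc.1))
    (h.R0_le (h.comm_Q3 hc.2 hu)).1

theorem comm_edge_W {b w : X} (hb : b ∈ Pc 2) (hw : w ∈ D.W (v 2)) :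
    ⁅b, w⁆ ∈ D.W (v 2) ⊓ D.Q (v 3) := by
  obtain ⟨u, hu, a, ha, rfl⟩ := (h.crit (i := 2) h.four).exists_decomp D h.good hb
  rw [comm_mul_left]
  exact Subgroup.mul_mem _ (h.V2_le_C
    (D.normV u (D.le_G h.edge ((h.crit (i := 2) h.four).mem_first hu)) _ (h.comm_Q_W ha hw)))
    (h.comm_V4_W hu hw)

theorem card_W : Nat.card (D.W (v 2)) ≤ q * Nat.card ↥(D.W (v 2) ⊓ D.Q (v 3)) := by
  have hI := h.right (i := 2) (by omega)
  have hn : D.W (v 2) ≤ Subgroup.normalizer (D.Q (v 3) : Set X) :=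
    le_normalizer_of_conj fun g hg a ha =>
      D.normQ g (D.le_G hI (D.Q_le h.edge (h.W_le hg))) a ha
  have h1 := CfsgLib.ThompsonJ.card_sup_mul_card_inf (D.W (v 2)) (D.Q (v 3)) hn
  refine Nat.le_of_mul_le_mul_right ?_ (Nat.card_pos (α := D.Q (v 3)))
  rw [← h1]
  calc _ ≤ Nat.card (Pc 2) * Nat.card ↥(D.W (v 2) ⊓ D.Q (v 3)) :=
        Nat.mul_le_mul_right _ (Subgroup.card_le_of_le
          (sup_le (h.W_le.trans (D.Q_le h.edge)) (D.Q_le hI)))
    _ = _ := by rw [D.card hI]; ring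

theorem pow_edge {b : X} (hb : b ∈ Pc 2) : b ^ p ∈ D.Q (v 2) := by
  obtain ⟨u, hu, c, hc, rfl⟩ := (h.crit (i := 2) h.four).exists_decomp D h.good hb
  have huG := D.le_G h.edge ((h.crit (i := 2) h.four).mem_first hu)
  have key : ∀ n : ℕ, ∃ c' ∈ D.Q (v 2), (u * c) ^ n = u ^ n * c' := by
    intro n
    induction n with
    | zero => exact ⟨1, one_mem _, by simp⟩
    | succ n ih =>
      obtain ⟨c', hc', e⟩ := ih
      refine ⟨(u⁻¹ * c' * u) * c, (D.Q _).mul_mem ?_ hc, by rw [pow_succ, e, pow_succ]; group⟩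
      simpa using D.normQ u⁻¹ ((D.Gv _).inv_mem huG) c' hc'
  obtain ⟨c', hc', e⟩ := key p
  rw [e, D.powV u hu, one_mul]; exact hc'

variable {F : Type} [Field F]

/-- Coordinates for the two natural sections of the middle group. -/
structure Coords (h : D.Two L v Pc) (RV : D.Rep (v 2) (D.V (v 2)) ⊥ F)
    (RM : D.Rep (v 2) (D.W (v 2)) (D.V (v 2)) F) : Prop where
  card : Nat.card F = q
  normV : RV.Normal (Pc 2) (Pc 1)
  normM : RM.Normal (Pc 2) (Pc 1)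
  memV : ∀ a : ↥(D.V (v 2)), RV.ψ a 1 = 0 ↔ (a : X) ∈ Subgroup.centralizer (Pc 2 : Set X)
  memM : ∀ w : ↥(D.W (v 2)), RM.ψ w 1 = 0 ↔ (w : X) ∈ D.Q (v 3)

variable [Fintype F] [CharP F p] (hF : Fintype.card F = q)
include hF

theorem exists_rep_V : Nonempty (D.Rep (v 2) (D.V (v 2)) ⊥ F) := by
  have hc := h.crit (i := 2) h.four
  refine (Crit.rep_of_ge D F hF hc ?_).1
  rw [hc.inf_eq D h.good, hc.symm.inf_eq D h.good, (h.good (v 2)).card_V _ hc.first,
    (h.good _).card_V _ hc.last]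
  exact le_of_eq (by ring)

theorem exists_rep_W : Nonempty (D.Rep (v 2) (D.W (v 2)) (D.V (v 2)) F) := by
  obtain ⟨z, hz, hzQ⟩ := D.Q_ne h.edge
  refine (D.exists_rep F hF h.edge h.V2_le_W (fun g hg w hw => D.W_conj hg hw) D.normV
    (fun a ha b hb => h.comm_W ha hb) (fun w hw => h.pow_W hw)
    (fun g hg hgW => h.fix_mem_Q h.edge hg hgW) (fun g hg w hw => h.comm_Q_W hg hw)
    (fun g hg hgW => h.fix_mem_M h.edge hg hgW) (Pc 2) le_rfl (D.Q_le h.edge) ⟨z, hz, hzQ⟩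
    (fun b hb => h.pow_edge hb) (fun a ha b hb w hw => h.comm_edge_C hb (h.comm_edge_W ha hw))
    (D.W (v 2) ⊓ D.Q (v 3)) inf_le_left (fun c hc b hb => h.comm_edge_C hb hc) ?_).2
  rw [D.card h.edge]
  calc Nat.card (D.W (v 2)) * Nat.card (D.Q (v 2))
      ≤ q * Nat.card ↥(D.W (v 2) ⊓ D.Q (v 3)) * Nat.card (D.Q (v 2)) :=
        Nat.mul_le_mul_right _ h.card_W
    _ = _ := by ring

theorem exists_coords : ∃ RV RM, h.Coords (F := F) RV RM := by
  obtain ⟨R⟩ := h.exists_rep_V hF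
  obtain ⟨RV, hV⟩ := R.exists_normal hF h.edge h.edge1 h.gen2
  obtain ⟨R'⟩ := h.exists_rep_W hF
  obtain ⟨RM, hM⟩ := R'.exists_normal hF h.edge h.edge1 h.gen2
  obtain ⟨z, hz, hzQ⟩ := D.Q_ne h.edge
  refine ⟨RV, RM, by rw [Nat.card_eq_fintype_card, hF], hV, hM, fun a => ?_, fun w => ?_⟩
  · rw [RV.mem_iff hF (C := D.V (v 2) ⊓ Subgroup.centralizer (Pc 2 : Set X)) inf_le_left
      (fun c hc => Rep.psi_one_eq_zero h.edge hV D.normV (g := ⟨z, D.le_G h.edge hz⟩) hz hzQ c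
        (Subgroup.mem_bot.2 (commutator_eq_one_of (hc.2 z hz))))
      ((h.good (v 2)).card_V _ h.edge).le a]
    exact ⟨fun ha => ha.2, fun ha => ⟨a.2, ha⟩⟩
  · rw [RM.mem_iff hF (C := D.W (v 2) ⊓ D.Q (v 3)) inf_le_left
      (fun c hc => Rep.psi_one_eq_zero h.edge hM (fun g hg w hw => D.W_conj hg hw)
        (g := ⟨z, D.le_G h.edge hz⟩) hz hzQ c (h.comm_edge_C hz hc))
      h.card_W w]
    exact ⟨fun ha => ha.2, fun ha => ⟨w.2, ha⟩⟩

end Two

end Sys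

end CfsgLib.PushUp.RankOne
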